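import Mathlib
import Cfsg.Prelude.Def_KGroupFacts
import Cfsg.Agent.H24.Quat

set_option autoImplicit false

/-! # H24/SchurDih: stem extensions of dihedral and quaternion type groups -/

namespace Cfsg.Agent.H24

open Subgroup
open scoped commutatorElement

universe u

theorem hasCyclicSchurMultiplier_one {G : Type u} [Group G] [Finite G]
    (key : ∀ (Γ : Type u) [Group Γ] [Finite Γ] (σ : Γ →* G), Cfsg.IsStemExtension σ → σ.ker = ⊥) :
    Cfsg.HasCyclicSchurMultiplier G 1 := by
  refine ⟨⟨G, inferInstance, inferInstance, MonoidHom.id G, ⟨Function.surjective_id, ?_, ?_⟩, ?_⟩, ?_⟩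
  · intro x hx
    have : x = 1 := hx
    rw [this]; exact Subgroup.one_mem _
  · intro x hx
    have : x = 1 := hx
    rw [this]; exact Subgroup.one_mem _
  · have h1 : Unique ↥(MonoidHom.id G).ker := ⟨⟨1⟩, fun x => Subtype.ext x.2⟩
    have h2 : Unique (Multiplicative (ZMod 1)) := inferInstance
    exact ⟨MulEquiv.ofUnique⟩
  · intro Γ _ _ σ hσ
    refine ⟨1, ?_⟩
    intro x
    refine ⟨1, ?_⟩
    have h5 := key Γ σ hσ
    apply Subtype.ext
    have : (x : Γ) ∈ (⊥ : Subgroup Γ) := h5 ▸ x.2
    rw [Subgroup.mem_bot] at this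
    rw [this]; rfl

/-- the commutator subgroup of a stem extension of a group generated by `a`, `b` with
`b a b⁻¹ = a⁻¹` and `a ^ n = 1` or `a ^ n = b²`: it has order at most `n`; so
`|ker| * o(a²) ≤ n`. -/
theorem stem_dihedral_bound {Γ G : Type*} [Group Γ] [Group G] [Finite Γ] (σ : Γ →* G)
    (hσ : Cfsg.IsStemExtension σ) (a b : G) (hgen : closure ({a, b} : Set G) = ⊤)
    (hab : b * a * b⁻¹ = a⁻¹) (n : ℕ) (hn : 0 < n) (h : a ^ n = 1 ∨ a ^ n = b * b) :
    Nat.card σ.ker * orderOf (a ^ 2) ≤ n := by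
  obtain ⟨hsurj, hcen, hcomm⟩ := hσ
  obtain ⟨α, hα⟩ := hsurj a
  obtain ⟨β, hβ⟩ := hsurj b
  have hZ : ∀ z ∈ σ.ker, ∀ g : Γ, g * z = z * g := fun z hz g => mem_center_iff.1 (hcen hz) g
  -- `β α β⁻¹ = α⁻¹ z`
  set z := α * (β * α * β⁻¹) with hz
  have hzk : z ∈ σ.ker := by
    rw [MonoidHom.mem_ker, hz]
    simp only [map_mul, map_inv, hα, hβ]
    rw [hab, mul_inv_cancel]
  have hβα : β * α * β⁻¹ = α⁻¹ * z := by rw [hz]; group
  have hzα : Commute α z := hZ z hzk α
  have hzβ : Commute β z := hZ z hzk β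
  -- `α ^ n` commutes with `β`
  have hαn : Commute β (α ^ n) := by
    rcases h with h | h
    · have h1 : α ^ n ∈ σ.ker := by rw [MonoidHom.mem_ker, map_pow, hα, h]
      exact hZ _ h1 β
    · have h1 : (β * β)⁻¹ * α ^ n ∈ σ.ker := by
        rw [MonoidHom.mem_ker]
        simp only [map_mul, map_inv, map_pow, hα, hβ]
        rw [h, inv_mul_cancel]
      have h2 : α ^ n = (β * β) * ((β * β)⁻¹ * α ^ n) := by group
      rw [h2]
      have h3 : Commute β ((β * β)⁻¹ * α ^ n) := hZ _ h1 β
      exact (((Commute.refl β).mul_right (Commute.refl β))).mul_right h3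
  have hconjpow : ∀ k : ℕ, β * α ^ k * β⁻¹ = (α ^ k)⁻¹ * z ^ k := by
    intro k
    rw [← conj_pow, hβα]
    have : Commute α⁻¹ z := hzα.inv_left
    rw [this.mul_pow, inv_pow]
  have h2n : α ^ n * α ^ n = z ^ n := by
    have h1 := hconjpow n
    have h2 : β * α ^ n * β⁻¹ = α ^ n := by rw [hαn.eq]; group
    rw [h2] at h1
    nth_rewrite 2 [h1]
    group
  -- `γ = α² z⁻¹`
  set γ := α ^ 2 * z⁻¹ with hγ
  have hγn : γ ^ n = 1 := by
    have h1 : Commute (α ^ 2) z⁻¹ := (hzα.pow_left 2).inv_right
    rw [hγ, h1.mul_pow, inv_pow, ← pow_mul, mul_comm 2 n, pow_mul, pow_two, h2n, mul_inv_cancel]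
  have hγα : Commute α γ := by
    rw [hγ]
    exact ((Commute.refl α).pow_right 2).mul_right hzα.inv_right
  have hβγ : β * γ * β⁻¹ = γ⁻¹ := by
    have h1 := hconjpow 2
    have h2 : β * z⁻¹ * β⁻¹ = z⁻¹ := by
      rw [(hzβ.inv_right).eq]; group
    calc β * γ * β⁻¹ = (β * α ^ 2 * β⁻¹) * (β * z⁻¹ * β⁻¹) := by rw [hγ]; group
      _ = ((α ^ 2)⁻¹ * z ^ 2) * z⁻¹ := by rw [h1, h2]
      _ = (α ^ 2)⁻¹ * z := by rw [pow_two z]; group
      _ = z * (α ^ 2)⁻¹ := ((hzα.pow_left 2).inv_left).eq
      _ = γ⁻¹ := by rw [hγ]; group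
  -- `Γ = closure {α, β}` times the kernel; the subgroup `⟨γ⟩` is normal
  have hK : closure ({α, β} : Set Γ) ⊔ σ.ker = ⊤ := by
    have h1 : (closure ({α, β} : Set Γ)).map σ = ⊤ := by
      rw [MonoidHom.map_closure, Set.image_pair, hα, hβ, hgen]
    have h2 := congrArg (Subgroup.comap σ) h1
    rwa [Subgroup.comap_map_eq, Subgroup.comap_top] at h2
  set N := zpowers γ with hN
  have hNn : N.Normal := by
    rw [← normalizer_eq_top_iff, eq_top_iff, ← hK]
    apply sup_le
    · rw [closure_le]
      have hmem : ∀ g : Γ, (g * γ * g⁻¹ = γ ∨ g * γ * g⁻¹ = γ⁻¹) → g ∈ normalizer (N : Set Γ) := by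
        intro g hg
        rw [mem_normalizer_iff]
        intro x
        rcases hg with hg | hg
        · constructor
          · rintro ⟨k, rfl⟩
            refine ⟨k, ?_⟩
            show γ ^ k = g * γ ^ k * g⁻¹
            rw [← conj_zpow, hg]
          · rintro ⟨k, hk⟩
            refine ⟨k, ?_⟩
            have hk' : γ ^ k = g * x * g⁻¹ := hk
            show γ ^ k = x
            have h3 : g * γ ^ k * g⁻¹ = g * x * g⁻¹ := by rw [← conj_zpow, hg, hk']
            exact mul_left_cancel (mul_right_cancel h3)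
        · constructor
          · rintro ⟨k, rfl⟩
            refine ⟨-k, ?_⟩
            show γ ^ (-k) = g * γ ^ k * g⁻¹
            rw [← conj_zpow, hg, inv_zpow, zpow_neg]
          · rintro ⟨k, hk⟩
            refine ⟨-k, ?_⟩
            have hk' : γ ^ k = g * x * g⁻¹ := hk
            show γ ^ (-k) = x
            have h3 : g * γ ^ (-k) * g⁻¹ = g * x * g⁻¹ := by
              rw [← conj_zpow, hg, ← hk', inv_zpow, zpow_neg, inv_inv]
            exact mul_left_cancel (mul_right_cancel h3)
      rintro g (rfl | rfl)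
      · apply hmem; left; rw [hγα.eq]; group
      · apply hmem; right; exact hβγ
    · intro x hx
      rw [mem_normalizer_iff]
      intro y
      have h1 : x * y * x⁻¹ = y := by
        have := hZ x hx y
        rw [← this]; group
      rw [h1]
  have hcommN : commutator Γ ≤ N := by
    have hcomm' : ∀ u v : Γ ⧸ N, u * v = v * u := by
      have hcen' : center (Γ ⧸ N) = ⊤ := by
        have hgen' : closure ({(QuotientGroup.mk α : Γ ⧸ N), QuotientGroup.mk β} : Set (Γ ⧸ N)) ⊔
            σ.ker.map (QuotientGroup.mk' N) = ⊤ := by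
          have h1 := congrArg (Subgroup.map (QuotientGroup.mk' N)) hK
          rw [Subgroup.map_sup, MonoidHom.map_closure, Set.image_pair,
            Subgroup.map_top_of_surjective _ (QuotientGroup.mk'_surjective N)] at h1
          exact h1
        have hker : σ.ker.map (QuotientGroup.mk' N) ≤ center (Γ ⧸ N) := by
          rintro _ ⟨x, hx, rfl⟩
          rw [mem_center_iff]
          intro g
          obtain ⟨g, rfl⟩ := QuotientGroup.mk_surjective g
          show (QuotientGroup.mk g : Γ ⧸ N) * QuotientGroup.mk x = QuotientGroup.mk x * QuotientGroup.mk g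
          rw [← QuotientGroup.mk_mul, ← QuotientGroup.mk_mul, hZ x hx g]
        have hαβ : (QuotientGroup.mk α : Γ ⧸ N) * QuotientGroup.mk β =
            QuotientGroup.mk β * QuotientGroup.mk α := by
          rw [← QuotientGroup.mk_mul, ← QuotientGroup.mk_mul, QuotientGroup.eq]
          -- (α β)⁻¹ (β α) = β⁻¹ (α⁻¹ (β α β⁻¹)) β = β⁻¹ (α⁻² z) β = β⁻¹ γ⁻¹ β = γ
          have h1 : (α * β)⁻¹ * (β * α) = β⁻¹ * (α⁻¹ * (β * α * β⁻¹)) * β := by group
          have h2 : α⁻¹ * (α⁻¹ * z) = γ⁻¹ := by
            calc α⁻¹ * (α⁻¹ * z) = (α ^ 2)⁻¹ * z := by rw [pow_two]; group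
              _ = z * (α ^ 2)⁻¹ := ((hzα.pow_left 2).inv_left).eq
              _ = γ⁻¹ := by rw [hγ]; group
          have h3 : β⁻¹ * γ⁻¹ * β = γ := by
            have h4 : γ = β⁻¹ * (β * γ * β⁻¹) * β := by group
            rw [hβγ] at h4; exact h4.symm
          rw [h1, hβα, h2, h3]
          exact mem_zpowers γ
        have hone : ∀ w : Γ ⧸ N, w ∈ center (Γ ⧸ N) ↔
            (QuotientGroup.mk α : Γ ⧸ N) ∈ centralizer {w} ∧ (QuotientGroup.mk β : Γ ⧸ N) ∈ centralizer {w} := by
          intro w
          constructor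
          · intro hw
            constructor
            · rw [mem_centralizer_singleton_iff]; exact mem_center_iff.1 hw _
            · rw [mem_centralizer_singleton_iff]; exact mem_center_iff.1 hw _
          · rintro ⟨h1, h2⟩
            rw [mem_center_iff]
            intro g
            have h3 : (⊤ : Subgroup (Γ ⧸ N)) ≤ centralizer {w} := by
              rw [← hgen']
              apply sup_le
              · rw [closure_le]
                rintro x (rfl | rfl)
                · exact h1
                · exact h2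
              · intro x hx
                rw [mem_centralizer_singleton_iff]
                exact (mem_center_iff.1 (hker hx) w).symm
            exact mem_centralizer_singleton_iff.1 (h3 (mem_top g))
        rw [eq_top_iff, ← hgen']
        apply sup_le _ hker
        rw [closure_le]
        rintro x (rfl | rfl)
        · rw [SetLike.mem_coe, hone]
          exact ⟨mem_centralizer_singleton_iff.2 rfl, mem_centralizer_singleton_iff.2 hαβ.symm⟩
        · rw [SetLike.mem_coe, hone]
          exact ⟨mem_centralizer_singleton_iff.2 hαβ, mem_centralizer_singleton_iff.2 rfl⟩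
      intro u v
      have : v ∈ center (Γ ⧸ N) := by rw [hcen']; trivial
      exact mem_center_iff.1 this u
    rw [_root_.commutator_def, commutator_le]
    intro x _ y _
    rw [← QuotientGroup.eq_one_iff]
    have h1 : (QuotientGroup.mk ⁅x, y⁆ : Γ ⧸ N) =
      ⁅(QuotientGroup.mk x : Γ ⧸ N), (QuotientGroup.mk y : Γ ⧸ N)⁆ := rfl
    rw [h1, commutatorElement_eq_one_iff_mul_comm]
    exact hcomm' _ _
  -- cardinalities
  have hcard1 : Nat.card (commutator Γ) ≤ n := by
    have h1 : Nat.card (commutator Γ) ∣ Nat.card N := Subgroup.card_dvd_of_le hcommN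
    have h2 : Nat.card N ∣ n := by rw [hN, Nat.card_zpowers]; exact orderOf_dvd_of_pow_eq_one hγn
    exact Nat.le_of_dvd hn (h1.trans h2)
  have hfG : Finite G := Finite.of_surjective σ hsurj
  have hcard2 : Nat.card (commutator Γ) = Nat.card σ.ker * Nat.card ((commutator Γ).map σ) := by
    let τ : commutator Γ →* G := σ.comp (commutator Γ).subtype
    have h1 := Subgroup.card_mul_index τ.ker
    rw [Subgroup.index_ker] at h1
    have h2 : τ.range = (commutator Γ).map σ := by
      rw [MonoidHom.range_eq_map, ← Subgroup.map_map]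
      congr 1
      rw [← MonoidHom.range_eq_map, Subgroup.range_subtype]
    have h3 : Nat.card τ.ker = Nat.card σ.ker := by
      refine Nat.card_congr
        { toFun := fun x => ⟨x.1.1, x.2⟩
          invFun := fun x => ⟨⟨x.1, hcomm x.2⟩, x.2⟩
          left_inv := fun x => rfl
          right_inv := fun x => rfl }
    rw [h2, h3] at h1
    exact h1.symm
  have hcard3 : orderOf (a ^ 2) ≤ Nat.card ((commutator Γ).map σ) := by
    have h1 : a ^ 2 ∈ (commutator Γ).map σ := by
      refine ⟨⁅α, β⁆, ?_, ?_⟩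
      · rw [_root_.commutator_def]
        exact commutator_mem_commutator (mem_top α) (mem_top β)
      · rw [map_commutatorElement, hα, hβ, commutatorElement_def]
        have h2 : a * b * a⁻¹ * b⁻¹ = a * (b * a * b⁻¹)⁻¹ := by group
        rw [h2, hab, inv_inv, pow_two]
    exact Nat.le_of_dvd Nat.card_pos (Subgroup.orderOf_dvd_natCard _ h1)
  calc Nat.card σ.ker * orderOf (a ^ 2) ≤ Nat.card σ.ker * Nat.card ((commutator Γ).map σ) :=
        Nat.mul_le_mul_left _ hcard3
    _ = Nat.card (commutator Γ) := hcard2.symm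
    _ ≤ n := hcard1

end Cfsg.Agent.H24
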