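import Mathlib
import Cfsg.Agent.H23.Coprime2
import Cfsg.Agent.H24.Decomp

set_option autoImplicit false

/-! # H24/PBasic: self-centralizing abelian normal subgroups of p-groups, small facts -/

namespace Cfsg.Agent.H24

open Subgroup

theorem isMulCommutative_subgroup_iff {G : Type*} [Group G] {A : Subgroup G} :
    IsMulCommutative A ↔ ∀ x ∈ A, ∀ y ∈ A, x * y = y * x := by
  constructor
  · intro h x hx y hy
    exact congrArg Subtype.val (h.1.1 ⟨x, hx⟩ ⟨y, hy⟩)
  · intro h
    exact ⟨⟨fun a b => Subtype.ext (h a a.2 b b.2)⟩⟩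

theorem isMulCommutative_iff' {G : Type*} [Group G] :
    IsMulCommutative G ↔ ∀ x y : G, x * y = y * x :=
  ⟨fun h x y => h.1.1 x y, fun h => ⟨⟨h⟩⟩⟩

/-- a finite `p`-group has a self-centralizing abelian normal subgroup. -/
theorem exists_abelian_normal_self_centralizing {P : Type*} [Group P] [Finite P] {p : ℕ}
    [Fact p.Prime] (hP : IsPGroup p P) :
    ∃ A : Subgroup P, A.Normal ∧ IsMulCommutative A ∧ centralizer (A : Set P) = A := by
  classical
  obtain ⟨A, hA⟩ := Set.Finite.exists_maximal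
    (Set.toFinite {A : Subgroup P | A.Normal ∧ IsMulCommutative A})
    ⟨⊥, inferInstance, isMulCommutative_subgroup_iff.2 (by
      intro x hx y hy
      rw [mem_bot] at hx hy
      rw [hx, hy])⟩
  obtain ⟨hAn, hAc⟩ := hA.1
  refine ⟨A, hAn, hAc, ?_⟩
  rw [isMulCommutative_subgroup_iff] at hAc
  have hle : A ≤ centralizer (A : Set P) := by
    intro a ha
    rw [mem_centralizer_iff]
    intro b hb
    exact hAc b hb a ha
  by_contra hne
  have hCn : (centralizer (A : Set P)).Normal := inferInstance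
  -- image in the quotient
  set M := (centralizer (A : Set P)).map (QuotientGroup.mk' A) with hM
  have hMn : M.Normal := hCn.map _ (QuotientGroup.mk'_surjective A)
  have hMne : M ≠ ⊥ := by
    intro h
    rw [hM, Subgroup.map_eq_bot_iff, QuotientGroup.ker_mk'] at h
    exact hne (le_antisymm h hle)
  have hQ : IsPGroup p (P ⧸ A) := hP.to_quotient A
  have h1 := Cfsg.Agent.H23.inf_center_ne_bot hQ hMne
  obtain ⟨⟨z, hz⟩, hz1⟩ := Subgroup.ne_bot_iff_exists_ne_one.1 h1
  obtain ⟨hzM, hzZ⟩ := Subgroup.mem_inf.1 hz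
  obtain ⟨x, hx, rfl⟩ := hzM
  have hxA : x ∉ A := by
    intro h
    apply hz1
    apply Subtype.ext
    exact (QuotientGroup.eq_one_iff x).2 h
  -- `B = A ⟨x⟩`
  have hBn : (A ⊔ zpowers x).Normal := by
    have h2 : A ⊔ zpowers x = (zpowers (QuotientGroup.mk' A x)).comap (QuotientGroup.mk' A) := by
      rw [← MonoidHom.map_zpowers, Subgroup.comap_map_eq, QuotientGroup.ker_mk', sup_comm]
    rw [h2]
    have h3 : (zpowers (QuotientGroup.mk' A x)).Normal := by
      constructor
      rintro _ ⟨k, rfl⟩ g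
      refine ⟨k, ?_⟩
      have h4 := Subgroup.mem_center_iff.1 ((center (P ⧸ A)).zpow_mem hzZ k) g
      show (QuotientGroup.mk' A x) ^ k = g * (QuotientGroup.mk' A x) ^ k * g⁻¹
      rw [h4]; group
    exact h3.comap _
  have hBc : IsMulCommutative ↥(A ⊔ zpowers x) := by
    rw [isMulCommutative_subgroup_iff]
    have hxC : ∀ a ∈ A, a * x = x * a := fun a ha => mem_centralizer_iff.1 hx a ha
    intro u hu v hv
    obtain ⟨a, ha, y, hy, rfl⟩ := mem_sup_of_normal_left.1 hu
    obtain ⟨b, hb, w, hw, rfl⟩ := mem_sup_of_normal_left.1 hv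
    obtain ⟨i, rfl⟩ := hy
    obtain ⟨j, rfl⟩ := hw
    have h1 : Commute a b := hAc a ha b hb
    have h2 : Commute a (x ^ j) := Commute.zpow_right (hxC a ha) j
    have h3 : Commute (x ^ i) b := (Commute.zpow_right (hxC b hb) i).symm
    have h4 : Commute (x ^ i) (x ^ j) := (Commute.refl x).zpow_zpow i j
    exact ((h1.mul_right h2).mul_left (h3.mul_right h4))
  have h5 := hA.2 ⟨hBn, hBc⟩ le_sup_left
  exact hxA (h5 (mem_sup_right (mem_zpowers x)))

end Cfsg.Agent.H24
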