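import Mathlib
import Cfsg.Agent.H24.ClassSize3
import Cfsg.Agent.H24.Decomp

set_option autoImplicit false

/-! # H24/Frobenius: Frobenius' divisibility theorem (number of solutions of `x ^ m = 1`) -/

namespace Cfsg.Agent.H24

open Subgroup

/-- Sum of a class function is divisible by `D` if each class contributes a multiple of `D`. -/
theorem dvd_sum_of_class {G : Type*} [Group G] [Fintype G] (f : G → ℕ)
    (hf : ∀ g x : G, f (g * x * g⁻¹) = f x) (D : ℕ)
    (h : ∀ x : G, D ∣ (centralizer ({x} : Set G)).index * f x) : D ∣ ∑ x : G, f x := by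
  classical
  rw [← Finset.sum_fiberwise (s := Finset.univ) (g := fun x : G => ConjClasses.mk x)]
  apply Finset.dvd_sum
  intro c _
  obtain ⟨x, rfl⟩ := ConjClasses.exists_rep c
  have h1 : ∑ y ∈ Finset.univ.filter (fun y : G => ConjClasses.mk y = ConjClasses.mk x), f y =
      ∑ y ∈ Finset.univ.filter (fun y : G => ConjClasses.mk y = ConjClasses.mk x), f x := by
    apply Finset.sum_congr rfl
    intro y hy
    rw [Finset.mem_filter, ConjClasses.mk_eq_mk_iff_isConj] at hy
    obtain ⟨g, hg⟩ := isConj_iff.1 hy.2
    rw [← hg, hf]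
  rw [h1, Finset.sum_const, smul_eq_mul]
  have h2 : (Finset.univ.filter (fun y : G => ConjClasses.mk y = ConjClasses.mk x)).card =
      (centralizer ({x} : Set G)).index := by
    rw [← natCard_isConj x, Nat.card_eq_fintype_card, Fintype.card_subtype]
    congr 1
    ext y
    simp only [Finset.mem_filter, Finset.mem_univ, true_and]
    rw [ConjClasses.mk_eq_mk_iff_isConj]
    exact ⟨fun h => h.symm, fun h => h.symm⟩
  rw [h2]
  exact h x

/-- pairs (p-element, p'-element) that commute -/
abbrev CommPair (G : Type*) [Group G] (p : ℕ) : Type _ :=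
  {t : G × G // Commute t.1 t.2 ∧ (∃ k : ℕ, orderOf t.1 = p ^ k) ∧ (orderOf t.2).Coprime p}

theorem orderOf_mul_of_commPair {G : Type*} [Group G] {p : ℕ} (t : CommPair G p) :
    orderOf (t.1.1 * t.1.2) = orderOf t.1.1 * orderOf t.1.2 := by
  obtain ⟨⟨u, v⟩, hc, ⟨k, hk⟩, hv⟩ := t
  apply hc.orderOf_mul_eq_mul_orderOf_of_coprime
  show (orderOf u).Coprime (orderOf v)
  have hk' : orderOf u = p ^ k := hk
  rw [hk']
  exact Nat.Coprime.pow_left _ hv.symm

theorem commPair_bijective {G : Type*} [Group G] [Finite G] (p : ℕ) [Fact p.Prime] :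
    Function.Bijective (fun t : CommPair G p => t.1.1 * t.1.2) := by
  constructor
  · rintro ⟨⟨u, v⟩, hc, ⟨k, hk⟩, hv⟩ ⟨⟨u', v'⟩, hc', ⟨k', hk'⟩, hv'⟩ heq
    simp only at hc hk hv hc' hk' hv' heq
    -- choose an exponent that is `1` mod p-powers and `0` mod the p'-orders
    set a := p ^ (max k k') with ha
    set b := orderOf v * orderOf v' with hb
    have hcop : Nat.Coprime a b := by
      rw [ha, hb]
      exact Nat.Coprime.pow_left _ (Nat.Coprime.mul_right hv.symm hv'.symm)
    obtain ⟨i, hi1, hi2⟩ := Nat.chineseRemainder hcop 1 0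
    have key : ∀ w z : G, Commute w z → orderOf w ∣ a → orderOf z ∣ b → (w * z) ^ i = w := by
      intro w z hwz hw hz
      rw [hwz.mul_pow]
      have h1 : w ^ i = w ^ 1 := by
        rw [pow_eq_pow_iff_modEq]; exact hi1.of_dvd hw
      have h2 : z ^ i = 1 := by
        apply orderOf_dvd_iff_pow_eq_one.1
        exact hz.trans ((Nat.modEq_zero_iff_dvd).1 hi2)
      rw [h1, h2, pow_one, mul_one]
    have h1 := key u v hc (by rw [hk, ha]; exact pow_dvd_pow p (le_max_left _ _))
      (by rw [hb]; exact Dvd.intro _ rfl)
    have h2 := key u' v' hc' (by rw [hk', ha]; exact pow_dvd_pow p (le_max_right _ _))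
      (by rw [hb]; exact Dvd.intro_left _ rfl)
    have h3 : u = u' := by rw [← h1, ← h2, heq]
    have h4 : v = v' := by
      rw [h3] at heq; exact mul_left_cancel heq
    apply Subtype.ext
    show (u, v) = (u', v')
    rw [h3, h4]
  · intro g
    obtain ⟨i, j, hg, hi, hj⟩ := exists_pPart_decomp p g
    exact ⟨⟨(g ^ i, g ^ j), (Commute.refl g).pow_pow i j, hi, hj⟩, hg.symm⟩

/-- number of `p`-elements `u` of `C(v)` with `A (o(u) * o(v))`. -/
noncomputable def pCount {G : Type*} [Group G] (p : ℕ) (A : ℕ → Prop) (v : G) : ℕ :=
  Nat.card {u : centralizer ({v} : Set G) // (∃ k : ℕ, orderOf u = p ^ k) ∧ A (orderOf u * orderOf v)}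

theorem card_eq_sum_pCount {G : Type*} [Group G] [Fintype G] (p : ℕ) [Fact p.Prime]
    (A : ℕ → Prop) [DecidablePred fun v : G => (orderOf v).Coprime p] :
    Nat.card {g : G // A (orderOf g)} =
      ∑ v : G, if (orderOf v).Coprime p then pCount p A v else 0 := by
  classical
  let e : CommPair G p ≃ G := Equiv.ofBijective _ (commPair_bijective p)
  have h1 : Nat.card {g : G // A (orderOf g)} =
      Nat.card {t : CommPair G p // A (orderOf t.1.1 * orderOf t.1.2)} := by
    refine Nat.card_congr (Equiv.subtypeEquiv e ?_).symm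
    intro t
    show A _ ↔ A (orderOf (t.1.1 * t.1.2))
    rw [orderOf_mul_of_commPair]
  rw [h1]
  -- sigma decomposition over `v`
  have h2 : {t : CommPair G p // A (orderOf t.1.1 * orderOf t.1.2)} ≃
      Σ v : G, {u : G // (orderOf v).Coprime p ∧ Commute u v ∧ (∃ k : ℕ, orderOf u = p ^ k) ∧
        A (orderOf u * orderOf v)} :=
    { toFun := fun t => ⟨t.1.1.2, t.1.1.1, t.1.2.2.2, t.1.2.1, t.1.2.2.1, t.2⟩
      invFun := fun s => ⟨⟨(s.2.1, s.1), s.2.2.2.1, s.2.2.2.2.1, s.2.2.1⟩, s.2.2.2.2.2⟩
      left_inv := fun t => rfl
      right_inv := fun s => rfl }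
  rw [Nat.card_congr h2, Nat.card_sigma]
  apply Finset.sum_congr rfl
  intro v _
  split_ifs with hv
  · unfold pCount
    refine Nat.card_congr
      { toFun := fun u => ⟨⟨u.1, mem_centralizer_singleton_iff.2 u.2.2.1⟩, ?_, ?_⟩
        invFun := fun u => ⟨u.1.1, hv, mem_centralizer_singleton_iff.1 u.1.2, ?_, ?_⟩
        left_inv := fun u => rfl
        right_inv := fun u => rfl }
    · rw [Subgroup.orderOf_mk]; exact u.2.2.2.1
    · rw [Subgroup.orderOf_mk]; exact u.2.2.2.2
    · rw [Subgroup.orderOf_coe]; exact u.2.1
    · rw [Subgroup.orderOf_coe]; exact u.2.2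
  · rw [Nat.card_eq_zero]
    left
    exact ⟨fun u => hv u.2.1⟩

/-- conjugation isomorphism of centralizers -/
noncomputable def centralizerConjEquiv {G : Type*} [Group G] (g x : G) :
    centralizer ({x} : Set G) ≃* centralizer ({g * x * g⁻¹} : Set G) where
  toFun y := ⟨g * y * g⁻¹, by
    have hy := mem_centralizer_singleton_iff.1 y.2
    rw [mem_centralizer_singleton_iff]
    calc g * y * g⁻¹ * (g * x * g⁻¹) = g * (y * x) * g⁻¹ := by group
      _ = g * (x * y) * g⁻¹ := by rw [hy]
      _ = _ := by group⟩
  invFun y := ⟨g⁻¹ * y * g, by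
    have hy := mem_centralizer_singleton_iff.1 y.2
    rw [mem_centralizer_singleton_iff]
    calc g⁻¹ * y * g * x = g⁻¹ * (y * (g * x * g⁻¹)) * g := by group
      _ = g⁻¹ * (g * x * g⁻¹ * y) * g := by rw [hy]
      _ = _ := by group⟩
  left_inv y := by apply Subtype.ext; simp [mul_assoc]
  right_inv y := by apply Subtype.ext; simp [mul_assoc]
  map_mul' a b := by apply Subtype.ext; simp [mul_assoc]

theorem orderOf_conj' {G : Type*} [Group G] (g x : G) : orderOf (g * x * g⁻¹) = orderOf x := by
  have := MulEquiv.orderOf_eq (MulAut.conj g) x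
  simpa using this

theorem pCount_conj {G : Type*} [Group G] (p : ℕ) (A : ℕ → Prop) (g x : G) :
    pCount p A (g * x * g⁻¹) = pCount p A x := by
  unfold pCount
  refine Nat.card_congr (Equiv.subtypeEquiv (centralizerConjEquiv g x).toEquiv ?_).symm
  intro u
  show _ ↔ (∃ k : ℕ, orderOf (centralizerConjEquiv g x u) = p ^ k) ∧
    A (orderOf (centralizerConjEquiv g x u) * orderOf (g * x * g⁻¹))
  rw [MulEquiv.orderOf_eq, orderOf_conj']

/-- divisibility criterion for the number of elements with order satisfying `A`. -/
theorem dvd_card_of_pCount {G : Type*} [Group G] [Finite G] (p : ℕ) [Fact p.Prime]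
    (A : ℕ → Prop) (D : ℕ)
    (h : ∀ v : G, (orderOf v).Coprime p → D ∣ (centralizer ({v} : Set G)).index * pCount p A v) :
    D ∣ Nat.card {g : G // A (orderOf g)} := by
  classical
  have := Fintype.ofFinite G
  rw [card_eq_sum_pCount p A]
  apply dvd_sum_of_class
  · intro g x
    rw [orderOf_conj', pCount_conj]
  · intro x
    split_ifs with hx
    · exact h x hx
    · simp

theorem card_pElt_mul {G : Type*} [Group G] [Finite G] (p : ℕ) [Fact p.Prime] (v : G) :
    pCount p (fun _ => True) v =
      Nat.card {u : centralizer ({v} : Set G) // ∃ k : ℕ, orderOf u = p ^ k} := by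
  unfold pCount
  exact Nat.card_congr (Equiv.subtypeEquivRight (fun u => by simp))

/-- `|G|_p` divides the number of `p`-elements of `G`. -/
theorem ordProj_dvd_card_pElt {G : Type*} [Group G] [Finite G] (p : ℕ) [Fact p.Prime] :
    p ^ (Nat.card G).factorization p ∣ Nat.card {g : G // ∃ k : ℕ, orderOf g = p ^ k} := by
  classical
  suffices H : ∀ (n : ℕ) (G : Type _) [Group G] [Finite G], Nat.card G = n →
      p ^ (Nat.card G).factorization p ∣ Nat.card {g : G // ∃ k : ℕ, orderOf g = p ^ k} from
    H _ G rfl
  have hp := Fact.out (p := p.Prime)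
  intro n
  induction n using Nat.strong_induction_on with
  | _ n ih =>
    intro G _ _ hn
    have := Fintype.ofFinite G
    set N := Nat.card {g : G // ∃ k : ℕ, orderOf g = p ^ k} with hN
    set D := p ^ (Nat.card G).factorization p with hD
    -- the sum over all `v`
    have h1 := card_eq_sum_pCount (G := G) p (fun _ => True)
    have h2 : Nat.card {g : G // True} = Nat.card G :=
      Nat.card_congr (Equiv.subtypeUnivEquiv (fun _ => trivial))
    rw [h2] at h1
    -- split central / non central
    let f : G → ℕ := fun v => if (orderOf v).Coprime p then pCount p (fun _ => True) v else 0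
    have h3 : ∑ v : G, f v = ∑ v : G, (if v ∈ center G then 0 else f v) +
        ∑ v : G, (if v ∈ center G then f v else 0) := by
      rw [← Finset.sum_add_distrib]
      apply Finset.sum_congr rfl
      intro v _
      split_ifs <;> simp
    have h4 : D ∣ ∑ v : G, (if v ∈ center G then 0 else f v) := by
      apply dvd_sum_of_class
      · intro g x
        have : g * x * g⁻¹ ∈ center G ↔ x ∈ center G := by
          constructor
          · intro h
            have := (inferInstance : (center G).Normal).conj_mem _ h g⁻¹
            simpa [mul_assoc] using this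
          · intro h
            exact (inferInstance : (center G).Normal).conj_mem _ h g
        simp only [this, f, orderOf_conj', pCount_conj]
      · intro x
        split_ifs with hx
        · simp
        · simp only [f]
          split_ifs with hx2
          · rw [card_pElt_mul]
            have hlt : Nat.card (centralizer ({x} : Set G)) < n := by
              rw [← hn]
              have h5 : centralizer ({x} : Set G) ≠ ⊤ := by
                intro h5
                apply hx
                rw [Subgroup.mem_center_iff]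
                intro g
                have : g ∈ centralizer ({x} : Set G) := by rw [h5]; trivial
                exact mem_centralizer_singleton_iff.1 this
              have h6 := Subgroup.card_mul_index (centralizer ({x} : Set G))
              have h7 : 1 < (centralizer ({x} : Set G)).index := by
                by_contra h8
                have h9 : (centralizer ({x} : Set G)).index ≠ 0 := Subgroup.index_ne_zero_of_finite
                have h10 : (centralizer ({x} : Set G)).index = 1 := by omega
                exact h5 (Subgroup.index_eq_one.1 h10)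
              have h8 : 0 < Nat.card (centralizer ({x} : Set G)) := Nat.card_pos
              nlinarith
            have h6 := ih _ hlt (centralizer ({x} : Set G)) rfl
            have h7 : D ∣ (centralizer ({x} : Set G)).index *
                p ^ (Nat.card (centralizer ({x} : Set G))).factorization p := by
              have h8 : Nat.card G = (centralizer ({x} : Set G)).index *
                  Nat.card (centralizer ({x} : Set G)) := by
                rw [mul_comm, Subgroup.card_mul_index]
              rw [hD, h8, Nat.factorization_mul Subgroup.index_ne_zero_of_finite Nat.card_pos.ne']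
              simp only [Finsupp.coe_add, Pi.add_apply, pow_add]
              exact Nat.mul_dvd_mul (Nat.ordProj_dvd _ _) dvd_rfl
            exact h7.trans (Nat.mul_dvd_mul dvd_rfl h6)
          · simp
    -- central contribution
    let Z : Subgroup G :=
      { carrier := {v | v ∈ center G ∧ (orderOf v).Coprime p}
        one_mem' := ⟨one_mem _, by simp⟩
        mul_mem' := by
          rintro a b ⟨ha1, ha2⟩ ⟨hb1, hb2⟩
          refine ⟨mul_mem ha1 hb1, ?_⟩
          have hc : Commute a b := (Subgroup.mem_center_iff.1 hb1 a)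
          exact Nat.Coprime.coprime_dvd_left hc.orderOf_mul_dvd_mul_orderOf (Nat.Coprime.mul_left ha2 hb2)
        inv_mem' := by
          rintro a ⟨ha1, ha2⟩
          exact ⟨inv_mem ha1, by rwa [orderOf_inv]⟩ }
    have hZ : (Nat.card Z).Coprime p := by
      rw [Nat.coprime_comm, Nat.Prime.coprime_iff_not_dvd hp]
      intro hd
      obtain ⟨z, hz⟩ := exists_prime_orderOf_dvd_card' p hd
      have h5 := z.2.2
      rw [Subgroup.orderOf_coe, hz, Nat.coprime_self] at h5
      exact hp.ne_one h5
    have h5 : ∑ v : G, (if v ∈ center G then f v else 0) = Nat.card Z * N := by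
      have h6 : ∀ v : G, (if v ∈ center G then f v else 0) = if v ∈ Z then N else 0 := by
        intro v
        by_cases hv1 : v ∈ center G
        · by_cases hv2 : (orderOf v).Coprime p
          · have hv : v ∈ Z := ⟨hv1, hv2⟩
            rw [if_pos hv1, if_pos hv]
            simp only [f]
            rw [if_pos hv2, card_pElt_mul, hN]
            have h7 : centralizer ({v} : Set G) = ⊤ := by
              rw [eq_top_iff]
              intro g _
              rw [mem_centralizer_singleton_iff]
              exact Subgroup.mem_center_iff.1 hv1 g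
            rw [h7]
            refine Nat.card_congr (Equiv.subtypeEquiv (Subgroup.topEquiv (G := G)).toEquiv ?_)
            intro u
            show _ ↔ ∃ k : ℕ, orderOf (Subgroup.topEquiv u) = p ^ k
            rw [MulEquiv.orderOf_eq]
          · have hv : v ∉ Z := fun h => hv2 h.2
            rw [if_pos hv1, if_neg hv]
            simp only [f]
            rw [if_neg hv2]
        · have hv : v ∉ Z := fun h => hv1 h.1
          rw [if_neg hv1, if_neg hv]
      rw [Finset.sum_congr rfl (fun v _ => h6 v), ← Finset.sum_filter, Finset.sum_const, smul_eq_mul]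
      congr 1
      rw [Nat.card_eq_fintype_card, Fintype.card_subtype]
    have h6 : D ∣ Nat.card G := Nat.ordProj_dvd _ _
    have h7 : D ∣ Nat.card Z * N := by
      have h8 : Nat.card G = ∑ v : G, f v := h1
      rw [h8, h3, h5] at h6
      exact (Nat.dvd_add_right h4).1 h6
    exact (Nat.Coprime.pow_left _ hZ.symm).dvd_of_dvd_mul_left h7

/-- the number of elements of order `d` is divisible by `φ(d)`. -/
theorem totient_dvd_card_orderOf_eq {G : Type*} [Group G] [Finite G] (d : ℕ) :
    Nat.totient d ∣ Nat.card {g : G // orderOf g = d} := by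
  classical
  have := Fintype.ofFinite G
  rw [Nat.card_eq_fintype_card, Fintype.card_subtype]
  rw [Finset.card_eq_sum_card_fiberwise (f := fun g : G => zpowers g) (t := Finset.univ)
    (fun _ _ => Finset.mem_coe.2 (Finset.mem_univ _))]
  apply Finset.dvd_sum
  intro K _
  by_cases hK : ∃ g : G, orderOf g = d ∧ zpowers g = K
  · obtain ⟨g, hg, rfl⟩ := hK
    have h1 : (Finset.filter (fun a => zpowers a = zpowers g)
        (Finset.univ.filter (fun g : G => orderOf g = d))).card =
        (Finset.univ.filter (fun a : zpowers g => orderOf a = d)).card := by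
      symm
      refine Finset.card_bij (fun (a : zpowers g) _ => (a : G)) ?_ ?_ ?_
      · intro a ha
        simp only [Finset.mem_filter, Finset.mem_univ, true_and] at ha ⊢
        have ha' : orderOf (a : G) = d := by rw [Subgroup.orderOf_coe]; exact ha
        refine ⟨ha', ?_⟩
        apply Subgroup.eq_of_le_of_card_ge
        · rw [zpowers_le]; exact a.2
        · rw [Nat.card_zpowers, Nat.card_zpowers, hg, ha']
      · intro a _ b _ h; exact Subtype.ext h
      · intro b hb
        simp only [Finset.mem_filter, Finset.mem_univ, true_and] at hb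
        refine ⟨⟨b, hb.2 ▸ mem_zpowers b⟩, ?_, rfl⟩
        simp only [Finset.mem_filter, Finset.mem_univ, true_and]
        rw [Subgroup.orderOf_mk]; exact hb.1
    rw [h1]
    have h2 : d ∣ Fintype.card (zpowers g) := by
      rw [← Nat.card_eq_fintype_card, Nat.card_zpowers, hg]
    have h3 := IsCyclic.card_orderOf_eq_totient (α := zpowers g) h2
    rw [h3]
  · have h1 : Finset.filter (fun a => zpowers a = K)
        (Finset.univ.filter (fun g : G => orderOf g = d)) = ∅ := by
      rw [Finset.eq_empty_iff_forall_notMem]
      intro a ha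
      simp only [Finset.mem_filter, Finset.mem_univ, true_and] at ha
      exact hK ⟨a, ha⟩
    rw [h1]; simp

/-- prime power case: `p ^ γ ∣ |G|` implies `p ^ γ` divides the number of solutions of
`x ^ (p ^ γ) = 1`. -/
theorem pow_dvd_card_pow_eq_one {G : Type*} [Group G] [Finite G] (p : ℕ) [Fact p.Prime] (γ : ℕ)
    (h : γ ≤ (Nat.card G).factorization p) :
    p ^ γ ∣ Nat.card {g : G // orderOf g ∣ p ^ γ} := by
  classical
  have hp := Fact.out (p := p.Prime)
  have := Fintype.ofFinite G
  refine Nat.decreasingInduction' (P := fun γ => p ^ γ ∣ Nat.card {g : G // orderOf g ∣ p ^ γ})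
    (n := (Nat.card G).factorization p) ?_ h ?_
  · intro k hk _ ih
    have h1 : Nat.card {g : G // orderOf g ∣ p ^ (k + 1)} =
        Nat.card {g : G // orderOf g ∣ p ^ k} + Nat.card {g : G // orderOf g = p ^ (k + 1)} := by
      rw [Nat.card_eq_fintype_card, Nat.card_eq_fintype_card, Nat.card_eq_fintype_card,
        Fintype.card_subtype, Fintype.card_subtype, Fintype.card_subtype,
        ← Finset.card_union_of_disjoint]
      · congr 1
        ext g
        simp only [Finset.mem_filter, Finset.mem_univ, true_and, Finset.mem_union]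
        rw [Nat.dvd_prime_pow hp, Nat.dvd_prime_pow hp]
        constructor
        · rintro ⟨j, hj, hg⟩
          rcases Nat.lt_or_ge j (k + 1) with h | h
          · left; exact ⟨j, by omega, hg⟩
          · right; rw [hg]; congr 1; omega
        · rintro (⟨j, hj, hg⟩ | h)
          · exact ⟨j, by omega, hg⟩
          · exact ⟨k + 1, le_rfl, h⟩
      · rw [Finset.disjoint_filter]
        intro g _ h1 h2
        rw [h2, Nat.pow_dvd_pow_iff_le_right hp.one_lt] at h1
        omega
    have h2 : p ^ k ∣ Nat.card {g : G // orderOf g = p ^ (k + 1)} := by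
      refine Dvd.dvd.trans ?_ (totient_dvd_card_orderOf_eq _)
      rw [Nat.totient_prime_pow_succ hp]
      exact Dvd.intro _ rfl
    have h3 : p ^ k ∣ Nat.card {g : G // orderOf g ∣ p ^ (k + 1)} :=
      (pow_dvd_pow p (Nat.le_succ k)).trans ih
    rw [h1] at h3
    exact (Nat.dvd_add_left h2).1 h3
  · have h1 : Nat.card {g : G // orderOf g ∣ p ^ (Nat.card G).factorization p} =
        Nat.card {g : G // ∃ k : ℕ, orderOf g = p ^ k} := by
      refine Nat.card_congr (Equiv.subtypeEquivRight ?_)
      intro g
      constructor
      · intro h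
        obtain ⟨k, -, hk⟩ := (Nat.dvd_prime_pow hp).1 h
        exact ⟨k, hk⟩
      · rintro ⟨k, hk⟩
        have h2 := orderOf_dvd_natCard g
        rw [hk] at h2 ⊢
        apply pow_dvd_pow
        exact (hp.pow_dvd_iff_le_factorization Nat.card_pos.ne').1 h2
    rw [h1]
    exact ordProj_dvd_card_pElt p

/-- Frobenius: `m ∣ |G|` implies `m` divides the number of `g` with `g ^ m = 1`. -/
theorem frobenius_dvd {G : Type*} [Group G] [Finite G] (m : ℕ) (hm : m ∣ Nat.card G) :
    m ∣ Nat.card {g : G // g ^ m = 1} := by
  classical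
  have hcongr : Nat.card {g : G // g ^ m = 1} = Nat.card {g : G // orderOf g ∣ m} :=
    Nat.card_congr (Equiv.subtypeEquivRight (fun g => orderOf_dvd_iff_pow_eq_one.symm))
  rw [hcongr]
  have hm0 : m ≠ 0 := fun h => Nat.card_pos.ne' (Nat.eq_zero_of_zero_dvd (h ▸ hm))
  rw [Nat.dvd_iff_prime_pow_dvd_dvd]
  intro q k hq hqk
  have hfq : Fact q.Prime := ⟨hq⟩
  obtain ⟨γ, m', hm', hmm⟩ := Nat.exists_eq_pow_mul_and_not_dvd hm0 q hq.ne_one
  have hkγ : k ≤ γ := by
    rw [hmm] at hqk
    have h1 : q ^ k ∣ q ^ γ := by
      refine Nat.Coprime.dvd_of_dvd_mul_right ?_ hqk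
      exact Nat.Coprime.pow_left _ ((Nat.Prime.coprime_iff_not_dvd hq).2 hm')
    exact (Nat.pow_dvd_pow_iff_le_right hq.one_lt).1 h1
  refine (pow_dvd_pow q hkγ).trans ?_
  refine dvd_card_of_pCount q (fun n => n ∣ m) _ ?_
  intro v hv
  by_cases hvm : orderOf v ∣ m'
  · -- count is the number of solutions in the centralizer
    set C := centralizer ({v} : Set G) with hC
    have h1 : pCount q (fun n => n ∣ m) v = Nat.card {u : C // orderOf u ∣ q ^ γ} := by
      unfold pCount
      refine Nat.card_congr (Equiv.subtypeEquivRight ?_)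
      intro u
      constructor
      · rintro ⟨⟨j, hj⟩, hd⟩
        rw [hj] at hd ⊢
        have h2 : q ^ j ∣ m := (Dvd.intro _ rfl).trans hd
        rw [hmm] at h2
        exact Nat.Coprime.dvd_of_dvd_mul_right
          (Nat.Coprime.pow_left _ ((Nat.Prime.coprime_iff_not_dvd hq).2 hm')) h2
      · intro hd
        obtain ⟨j, -, hj⟩ := (Nat.dvd_prime_pow hq).1 hd
        exact ⟨⟨j, hj⟩, by rw [hmm]; exact Nat.mul_dvd_mul hd hvm⟩
    rw [h1]
    have hG : Nat.card G = C.index * Nat.card C := by rw [mul_comm, Subgroup.card_mul_index]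
    have hC0 : Nat.card C ≠ 0 := Nat.card_pos.ne'
    have hI0 : C.index ≠ 0 := Subgroup.index_ne_zero_of_finite
    by_cases hle : γ ≤ (Nat.card C).factorization q
    · exact (pow_dvd_card_pow_eq_one q γ hle).mul_left _
    · push Not at hle
      set β := (Nat.card C).factorization q with hβ
      have h2 : Nat.card {u : C // orderOf u ∣ q ^ γ} = Nat.card {u : C // orderOf u ∣ q ^ β} := by
        refine Nat.card_congr (Equiv.subtypeEquivRight ?_)
        intro u
        constructor
        · intro hd
          obtain ⟨j, -, hj⟩ := (Nat.dvd_prime_pow hq).1 hd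
          have h3 := orderOf_dvd_natCard u
          rw [hj] at h3 ⊢
          apply pow_dvd_pow
          exact (hq.pow_dvd_iff_le_factorization hC0).1 h3
        · intro hd
          exact hd.trans (pow_dvd_pow q hle.le)
      rw [h2]
      have h3 := pow_dvd_card_pow_eq_one (G := C) q β le_rfl
      have h4 : q ^ γ ∣ Nat.card G := (Dvd.intro _ hmm.symm).trans hm
      have h5 : γ ≤ C.index.factorization q + β := by
        have h6 := (hq.pow_dvd_iff_le_factorization Nat.card_pos.ne').1 h4
        rw [hG, Nat.factorization_mul hI0 hC0] at h6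
        simpa using h6
      refine (pow_dvd_pow q h5).trans ?_
      rw [pow_add]
      exact Nat.mul_dvd_mul (Nat.ordProj_dvd _ _) h3
  · have h1 : pCount q (fun n => n ∣ m) v = 0 := by
      unfold pCount
      rw [Nat.card_eq_zero]
      left
      refine ⟨?_⟩
      rintro ⟨u, -, hd⟩
      apply hvm
      have h2 : orderOf v ∣ m := (Dvd.intro_left _ rfl).trans hd
      rw [hmm] at h2
      exact Nat.Coprime.dvd_of_dvd_mul_left (Nat.Coprime.pow_right _ hv) h2
    rw [h1]; simp

end Cfsg.Agent.H24
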