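import Mathlib

set_option autoImplicit false

/-!
Burnside's theorem on groups of prime degree, after P. Müller (helper24).
-/

namespace Cfsg.Agent.H24

open Polynomial

variable {p : ℕ} [hp : Fact p.Prime]

/-- power sums over a subset of `ZMod p`. -/
def powSum (T : Finset (ZMod p)) (m : ℕ) : ZMod p := ∑ u ∈ T, u ^ m

/-- the averaging operator minus the identity. -/
noncomputable def avgOp (T : Finset (ZMod p)) (P : (ZMod p)[X]) : (ZMod p)[X] :=
  ∑ u ∈ T, taylor u P - (T.card : (ZMod p)[X]) * P

theorem eval_avgOp (T : Finset (ZMod p)) (P : (ZMod p)[X]) (x : ZMod p) :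
    (avgOp T P).eval x = ∑ u ∈ T, P.eval (x + u) - T.card * P.eval x := by
  rw [avgOp, eval_sub, eval_finset_sum, eval_mul, eval_natCast]
  congr 1
  refine Finset.sum_congr rfl fun u _ => ?_
  rw [taylor_eval, add_comm]

theorem natDegree_avgOp_le (T : Finset (ZMod p)) (P : (ZMod p)[X]) :
    (avgOp T P).natDegree ≤ P.natDegree := by
  rw [avgOp]
  refine (natDegree_sub_le _ _).trans (max_le ?_ ?_)
  · refine natDegree_sum_le_of_forall_le _ _ fun u _ => ?_
    rw [natDegree_taylor]
  · refine (natDegree_mul_le).trans ?_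
    rw [natDegree_natCast, zero_add]

theorem coeff_sum_taylor (T : Finset (ZMod p)) (P : (ZMod p)[X]) (m : ℕ) :
    (∑ u ∈ T, taylor u P).coeff m =
      ∑ i ∈ Finset.range (P.natDegree + 1), P.coeff i * (i.choose m : ZMod p) * powSum T (i - m) := by
  rw [finset_sum_coeff]
  have h : ∀ u ∈ T, (taylor u P).coeff m =
      ∑ i ∈ Finset.range (P.natDegree + 1), P.coeff i * (i.choose m : ZMod p) * u ^ (i - m) := by
    intro u _
    rw [taylor_coeff, hasseDeriv_apply, Polynomial.sum_over_range, eval_finset_sum]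
    · refine Finset.sum_congr rfl fun i _ => ?_
      rw [eval_monomial]; ring
    · intro n; simp
  rw [Finset.sum_congr rfl h, Finset.sum_comm]
  refine Finset.sum_congr rfl fun i _ => ?_
  rw [powSum, Finset.mul_sum]

theorem coeff_avgOp_ne_zero (T : Finset (ZMod p)) (P : (ZMod p)[X]) {r : ℕ} (hr : 1 ≤ r)
    (hr0 : powSum T r ≠ 0) (hmin : ∀ m, 1 ≤ m → m < r → powSum T m = 0)
    (hn : r ≤ P.natDegree) (hnp : P.natDegree < p) :
    (avgOp T P).coeff (P.natDegree - r) ≠ 0 := by
  set n := P.natDegree with hnd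
  have hP0 : P.coeff n ≠ 0 := by
    rw [hnd, coeff_natDegree, leadingCoeff_ne_zero]
    rintro rfl
    simp at hnd
    omega
  have hchoose : ((n.choose (n - r) : ℕ) : ZMod p) ≠ 0 := by
    rw [Ne, ZMod.natCast_eq_zero_iff]
    intro h
    have h1 : n.choose (n - r) ∣ n.factorial := by
      have := Nat.choose_mul_factorial_mul_factorial (n := n) (k := n - r) (Nat.sub_le n r)
      exact ⟨_, by rw [← this, mul_assoc]⟩
    have h2 := (hp.out.dvd_factorial).1 (h.trans h1)
    omega
  have key : (∑ u ∈ T, taylor u P).coeff (n - r) =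
      P.coeff (n - r) * T.card + P.coeff n * (n.choose (n - r) : ZMod p) * powSum T r := by
    rw [coeff_sum_taylor]
    have hsub : ({n - r, n} : Finset ℕ) ⊆ Finset.range (n + 1) := by
      intro i hi
      rw [Finset.mem_range]
      rw [Finset.mem_insert, Finset.mem_singleton] at hi
      omega
    rw [← Finset.sum_subset hsub]
    · rw [Finset.sum_pair (by omega), Nat.choose_self, Nat.sub_self,
        show n - (n - r) = r by omega]
      congr 1
      rw [powSum]; simp
    · intro i hi hi'
      rw [Finset.mem_range] at hi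
      rw [Finset.mem_insert, Finset.mem_singleton, not_or] at hi'
      rcases Nat.lt_or_ge i (n - r) with h | h
      · rw [Nat.choose_eq_zero_of_lt h]; simp
      · rw [hmin (i - (n - r)) (by omega) (by omega), mul_zero]
  rw [avgOp, coeff_sub, key, show ((T.card : (ZMod p)[X]) * P) = C (T.card : ZMod p) * P by simp,
    coeff_C_mul]
  have : P.coeff (n - r) * (T.card : ZMod p) + P.coeff n * (n.choose (n - r) : ZMod p) * powSum T r
      - (T.card : ZMod p) * P.coeff (n - r) = P.coeff n * (n.choose (n - r) : ZMod p) * powSum T r := by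
    ring
  rw [this]
  exact mul_ne_zero (mul_ne_zero hP0 hchoose) hr0

theorem avgOp_eq_zero (T : Finset (ZMod p)) (P : (ZMod p)[X]) {r : ℕ}
    (hmin : ∀ m, 1 ≤ m → m < r → powSum T m = 0) (hn : P.natDegree < r) : avgOp T P = 0 := by
  ext m
  rw [avgOp, coeff_sub, coeff_sum_taylor, coeff_zero,
    show ((T.card : (ZMod p)[X]) * P) = C (T.card : ZMod p) * P by simp, coeff_C_mul]
  by_cases hm : m < P.natDegree + 1
  · rw [Finset.sum_eq_single m]
    · rw [Nat.choose_self, Nat.sub_self, powSum]; simp; ring
    · intro i hi hne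
      rw [Finset.mem_range] at hi
      rcases Nat.lt_or_ge i m with h | h
      · rw [Nat.choose_eq_zero_of_lt h]; simp
      · rw [hmin (i - m) (by omega) (by omega), mul_zero]
    · intro h
      exact absurd (Finset.mem_range.2 hm) h
  · rw [coeff_eq_zero_of_natDegree_lt (by omega), mul_zero, sub_zero]
    refine Finset.sum_eq_zero fun i hi => ?_
    rw [Finset.mem_range] at hi
    rw [Nat.choose_eq_zero_of_lt (by omega)]; simp

/-- some small power sum is nonzero. -/
theorem exists_powSum_ne_zero (T : Finset (ZMod p)) (h0 : (0 : ZMod p) ∉ T) (hne : T.Nonempty)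
    (hcard : T.card < p) : ∃ r, 1 ≤ r ∧ r ≤ T.card ∧ powSum T r ≠ 0 := by
  by_contra hno
  push Not at hno
  let Q : (ZMod p)[X] := ∏ u ∈ T, (X - C u)
  have hQ : Q.natDegree = T.card := by
    show (∏ u ∈ T, (X - C u)).natDegree = _
    rw [natDegree_finset_prod_X_sub_C_eq_card]
  have h1 : ∑ u ∈ T, Q.eval u = 0 := by
    refine Finset.sum_eq_zero fun u hu => ?_
    show eval u (∏ v ∈ T, (X - C v)) = 0
    rw [eval_prod]
    exact Finset.prod_eq_zero hu (by simp)
  have h2 : ∑ u ∈ T, Q.eval u = Q.coeff 0 * T.card := by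
    have h3 : ∀ u ∈ T, Q.eval u = ∑ i ∈ Finset.range (T.card + 1), Q.coeff i * u ^ i := by
      intro u _
      rw [eval_eq_sum_range, hQ]
    rw [Finset.sum_congr rfl h3, Finset.sum_comm, Finset.sum_eq_single 0]
    · simp [mul_comm]
    · intro i hi hi0
      rw [← Finset.mul_sum]
      have := hno i (by omega) (by rw [Finset.mem_range] at hi; omega)
      rw [powSum] at this
      rw [this, mul_zero]
    · intro h
      exact absurd (Finset.mem_range.2 (Nat.succ_pos _)) h
  rw [h1] at h2
  have h3 : Q.coeff 0 ≠ 0 := by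
    rw [coeff_zero_eq_eval_zero]
    show eval 0 (∏ v ∈ T, (X - C v)) ≠ 0
    rw [eval_prod, Finset.prod_ne_zero_iff]
    intro v hv
    simp
    rintro rfl
    exact h0 hv
  have h4 : ((T.card : ℕ) : ZMod p) ≠ 0 := by
    rw [Ne, ZMod.natCast_eq_zero_iff]
    intro h
    have := Nat.le_of_dvd (Finset.card_pos.2 hne) h
    omega
  exact mul_ne_zero h3 h4 h2.symm

/-- a function on `ZMod p` is a polynomial of degree less than `p`. -/
theorem exists_poly (f : ZMod p → ZMod p) :
    ∃ P : (ZMod p)[X], P.natDegree < p ∧ ∀ x, P.eval x = f x := by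
  classical
  let P : (ZMod p)[X] := Lagrange.interpolate Finset.univ id f
  refine ⟨P, ?_, fun x => ?_⟩
  · have h1 : P.degree < (Finset.univ : Finset (ZMod p)).card :=
      Lagrange.degree_interpolate_lt f (Set.injOn_id _)
    rw [Finset.card_univ, ZMod.card] at h1
    by_cases hP : P = 0
    · rw [hP, natDegree_zero]; exact hp.out.pos
    · rwa [natDegree_lt_iff_degree_lt hP]
  · exact Lagrange.eval_interpolate_at_node f (Set.injOn_id _) (Finset.mem_univ x)

theorem poly_unique {P P' : (ZMod p)[X]} (hP : P.natDegree < p) (hP' : P'.natDegree < p)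
    (h : ∀ x, P.eval x = P'.eval x) : P = P' := by
  rw [← sub_eq_zero]
  by_contra hne
  have h1 := Polynomial.card_roots' (P - P')
  have h2 : (P - P').natDegree < p :=
    lt_of_le_of_lt (natDegree_sub_le _ _) (max_lt hP hP')
  have h3 : (Finset.univ : Finset (ZMod p)).card ≤ (P - P').roots.toFinset.card := by
    refine Finset.card_le_card fun x _ => ?_
    rw [Multiset.mem_toFinset, mem_roots hne, IsRoot, eval_sub, h x, sub_self]
  rw [Finset.card_univ, ZMod.card] at h3
  have h4 := Multiset.toFinset_card_le (P - P').roots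
  omega

/-- Müller's lemma. -/
theorem affine_of_preserves (T : Finset (ZMod p)) (h0 : (0 : ZMod p) ∉ T) (hne : T.Nonempty)
    (hcard : 2 * T.card < p) (σ : Equiv.Perm (ZMod p))
    (hσ : ∀ i : ZMod p, T.image (fun u => σ (i + u)) = T.image (fun u => σ i + u)) :
    ∃ a b : ZMod p, ∀ x, σ x = a * x + b := by
  classical
  -- the operator commutes with `σ`
  have hcomm : ∀ f : ZMod p → ZMod p, ∀ i, ∑ u ∈ T, f (σ (i + u)) = ∑ u ∈ T, f (σ i + u) := by
    intro f i
    have h1 : ∑ u ∈ T, f (σ (i + u)) = ∑ v ∈ T.image (fun u => σ (i + u)), f v := by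
      rw [Finset.sum_image]
      intro a _ b _ hab
      exact add_left_cancel (σ.injective hab)
    have h2 : ∑ u ∈ T, f (σ i + u) = ∑ v ∈ T.image (fun u => σ i + u), f v := by
      rw [Finset.sum_image]
      intro a _ b _ hab
      exact add_left_cancel hab
    rw [h1, h2, hσ]
  obtain ⟨r₀, hr₀⟩ := exists_powSum_ne_zero T h0 hne (by omega)
  have hex : ∃ r, 1 ≤ r ∧ powSum T r ≠ 0 := ⟨r₀, hr₀.1, hr₀.2.2⟩
  set r := Nat.find hex with hr
  have hr1 : 1 ≤ r := (Nat.find_spec hex).1
  have hrne : powSum T r ≠ 0 := (Nat.find_spec hex).2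
  have hrmin : ∀ m, 1 ≤ m → m < r → powSum T m = 0 := by
    intro m hm hmr
    by_contra h
    exact Nat.find_min hex hmr ⟨hm, h⟩
  have hrle : r ≤ T.card := (Nat.find_min' hex ⟨hr₀.1, hr₀.2.2⟩).trans hr₀.2.1
  obtain ⟨P, hPdeg, hPeval⟩ := exists_poly (p := p) (fun x => σ x)
  -- it suffices that the degree is at most one
  suffices hdeg : P.natDegree ≤ 1 by
    refine ⟨P.coeff 1, P.coeff 0, fun x => ?_⟩
    rw [← hPeval x, eval_eq_sum_range' (Nat.lt_succ_of_le hdeg), Finset.sum_range_succ,
      Finset.sum_range_one]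
    ring
  by_contra hdeg
  push Not at hdeg
  set n := P.natDegree with hn
  rcases Nat.eq_or_lt_of_le hr1 with hr1' | hr2
  · -- `r = 1`
    have h1 : avgOp T P = C (powSum T 1) := by
      apply poly_unique
      · exact lt_of_le_of_lt (natDegree_avgOp_le T P) hPdeg
      · rw [natDegree_C]; exact hp.out.pos
      · intro x
        rw [eval_avgOp, eval_C]
        have h2 : ∑ u ∈ T, P.eval (x + u) = ∑ u ∈ T, (σ x + u) := by
          rw [Finset.sum_congr rfl (fun u _ => hPeval (x + u))]
          exact hcomm (fun y => y) x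
        rw [h2, hPeval, Finset.sum_add_distrib, Finset.sum_const, nsmul_eq_mul, powSum]
        simp
    have h2 := coeff_avgOp_ne_zero T P (r := r) hr1 hrne hrmin (by omega) hPdeg
    rw [h1, coeff_C, if_neg (by omega)] at h2
    exact h2 rfl
  · -- `r ≥ 2`
    -- the powers of `σ` of exponent less than `r` have degree less than `r`
    have key : ∀ j, j < r → ∀ R : (ZMod p)[X], R.natDegree < p → (∀ x, R.eval x = (σ x) ^ j) →
        R.natDegree < r := by
      intro j hj R hR hRe
      by_contra hcon
      push Not at hcon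
      have h1 : avgOp T R = 0 := by
        apply poly_unique
        · exact lt_of_le_of_lt (natDegree_avgOp_le T R) hR
        · rw [natDegree_zero]; exact hp.out.pos
        · intro x
          rw [eval_avgOp, eval_zero]
          have h2 : ∑ u ∈ T, R.eval (x + u) = ∑ u ∈ T, (σ x + u) ^ j := by
            rw [Finset.sum_congr rfl (fun u _ => hRe (x + u))]
            exact hcomm (fun y => y ^ j) x
          rw [h2, hRe]
          have h3 := avgOp_eq_zero T (X ^ j : (ZMod p)[X]) (r := r) hrmin (by
            rw [natDegree_X_pow]; exact hj)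
          have h4 := congrArg (eval (σ x)) h3
          rw [eval_avgOp, eval_zero] at h4
          simpa using h4
      have h2 := coeff_avgOp_ne_zero T R (r := r) hr1 hrne hrmin hcon hR
      rw [h1, coeff_zero] at h2
      exact h2 rfl
    have hnr : n < r := key 1 hr2 P hPdeg (fun x => by rw [hPeval, pow_one])
    -- the least `j` with `r ≤ j n`
    have hex2 : ∃ j, r ≤ j * n := ⟨r, by nlinarith⟩
    set j := Nat.find hex2 with hj
    have hj1 : r ≤ j * n := Nat.find_spec hex2
    have hj2 : j ≤ r - 1 := by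
      apply Nat.find_min' hex2
      have : r ≤ (r - 1) * 2 := by omega
      exact this.trans (Nat.mul_le_mul_left _ hdeg)
    have hj0 : 0 < j := by
      rcases Nat.eq_zero_or_pos j with h | h
      · rw [h, zero_mul] at hj1; omega
      · exact h
    have hj3 : (j - 1) * n < r := by
      exact not_le.1 (Nat.find_min hex2 (m := j - 1) (by omega))
    have hjn : j * n < p := by
      obtain ⟨k, hk⟩ : ∃ k, j = k + 1 := ⟨j - 1, by omega⟩
      rw [hk, Nat.add_sub_cancel] at hj3
      rw [hk, Nat.succ_mul]
      omega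
    have h1 := key j (by omega) (P ^ j) (by rw [natDegree_pow]; exact hjn)
      (fun x => by rw [eval_pow, hPeval])
    rw [natDegree_pow] at h1
    exact absurd hj1 (not_le.2 h1)

end Cfsg.Agent.H24
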