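import Cfsg.Agent.H24.SRing2

set_option autoImplicit false

/-!
Primitive groups containing a regular cyclic subgroup of composite order (helper24).
-/

namespace Cfsg.Agent.H24

open MulAction

variable {G X : Type*} [Group G] [MulAction G X]

/-- Schur: a primitive group with a regular cyclic subgroup of composite order is doubly
transitive. -/
theorem two_transitive_of_regular_cyclic {Q : Type*} [CommGroup Q] [Finite Q] [IsCyclic Q]
    {ι : Q →* G} {α : X} (hreg : Function.Bijective (fun x : Q => ι x • α))
    (hprim : IsPreprimitive G X) (h1 : Nat.card Q ≠ 1) (hnp : ¬ (Nat.card Q).Prime) :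
    IsMultiplyPretransitive G X 2 := by
  haveI := Fintype.ofFinite Q
  obtain ⟨p, hp, hpd⟩ := Nat.exists_prime_and_dvd h1
  have hker : Nat.card (powMonoidHom p : Q →* Q).ker = p := by
    rw [IsCyclic.card_powMonoidHom_ker, Nat.gcd_eq_right hpd]
  refine two_transitive_of_regular_abelian hreg hprim hp hker fun htop => hnp ?_
  rw [htop, Nat.card_congr Subgroup.topEquiv.toEquiv] at hker
  rw [hker]; exact hp

/-- A permutation of prime power order equal to the degree acts regularly. -/
theorem regular_zpowers_of_orderOf {Ω : Type*} [Fintype Ω] {p m : ℕ} (hp : p.Prime)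
    (hm : m ≠ 0) (hΩ : Fintype.card Ω = p ^ m) (g : Equiv.Perm Ω) (hg : orderOf g = p ^ m) :
    ∃ α : Ω, Function.Bijective (fun x : Subgroup.zpowers g => (x : Equiv.Perm Ω) • α) := by
  have h1 : g ^ (p ^ (m - 1)) ≠ 1 := by
    intro h
    have := orderOf_dvd_of_pow_eq_one h
    rw [hg] at this
    have := (Nat.pow_dvd_pow_iff_le_right hp.one_lt).1 this
    omega
  obtain ⟨α, hα⟩ : ∃ α, (g ^ (p ^ (m - 1))) α ≠ α := by
    by_contra hno
    push Not at hno
    exact h1 (Equiv.ext hno)
  refine ⟨α, ?_⟩
  have hinj : Function.Injective (fun x : Subgroup.zpowers g => (x : Equiv.Perm Ω) • α) := by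
    -- the stabilizer in `⟨g⟩` is trivial
    have hst : ∀ x ∈ Subgroup.zpowers g, x α = α → x = 1 := by
      intro x hx hxα
      obtain ⟨k, rfl⟩ := Subgroup.mem_zpowers_iff.1 hx
      by_contra hne
      have hne' : g ^ k ≠ 1 := hne
      -- `p^(m-1)`-th power of `g` lies in `⟨g^k⟩`
      have h2 : g ^ (p ^ (m - 1)) ∈ Subgroup.zpowers (g ^ k) := by
        have h3 : ((p : ℤ) ^ m) ∣ k ∨ ∃ j : ℕ, j < m ∧ Int.gcd k (p ^ m) = p ^ j := by
          have h4 : Int.gcd k (p ^ m) ∣ p ^ m := by
            have := Int.gcd_dvd_right (a := k) (b := (p : ℤ) ^ m)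
            exact_mod_cast this
          obtain ⟨j, hj, hj'⟩ := (Nat.dvd_prime_pow hp).1 h4
          rcases Nat.lt_or_ge j m with h | h
          · exact Or.inr ⟨j, h, hj'⟩
          · left
            have : j = m := le_antisymm hj h
            rw [this] at hj'
            have := Int.gcd_dvd_left (a := k) (b := (p : ℤ) ^ m)
            rw [hj'] at this
            exact_mod_cast this
        rcases h3 with h3 | ⟨j, hj, hj'⟩
        · exfalso
          apply hne'
          obtain ⟨c, hc⟩ := h3
          rw [hc, zpow_mul]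
          have : g ^ ((p : ℤ) ^ m) = 1 := by
            have := pow_orderOf_eq_one g
            rw [hg] at this
            exact_mod_cast this
          rw [this, one_zpow]
        · -- Bezout
          have hb := Int.gcd_eq_gcd_ab k ((p : ℤ) ^ m)
          rw [hj'] at hb
          have h5 : g ^ (p ^ j) ∈ Subgroup.zpowers (g ^ k) := by
            rw [Subgroup.mem_zpowers_iff]
            refine ⟨Int.gcdA k (p ^ m), ?_⟩
            rw [← zpow_mul]
            have h6 : (g ^ (p ^ j) : Equiv.Perm Ω) = g ^ ((p ^ j : ℕ) : ℤ) := by rw [zpow_natCast]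
            rw [h6, hb, zpow_add, zpow_mul g ((p : ℤ) ^ m)]
            have : g ^ ((p : ℤ) ^ m) = 1 := by
              have := pow_orderOf_eq_one g
              rw [hg] at this
              exact_mod_cast this
            rw [this, one_zpow, mul_one]
          have h6 : g ^ (p ^ (m - 1)) = (g ^ (p ^ j)) ^ (p ^ (m - 1 - j)) := by
            rw [← pow_mul, ← pow_add]
            congr 2
            omega
          rw [h6]
          exact Subgroup.pow_mem _ h5 _
      apply hα
      obtain ⟨c, hc⟩ := Subgroup.mem_zpowers_iff.1 h2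
      rw [← hc]
      have hfix : (g ^ k) ∈ stabilizer (Equiv.Perm Ω) α := hxα
      exact (zpow_mem hfix c : (g ^ k) ^ c ∈ stabilizer (Equiv.Perm Ω) α)
    intro x y hxy
    have hxy' : (x : Equiv.Perm Ω) α = (y : Equiv.Perm Ω) α := hxy
    have h3 := hst ((y : Equiv.Perm Ω)⁻¹ * x) (mul_mem (inv_mem y.2) x.2) (by
      rw [Equiv.Perm.mul_apply, hxy', ← Equiv.Perm.mul_apply, inv_mul_cancel, Equiv.Perm.one_apply])
    rw [inv_mul_eq_one] at h3
    exact Subtype.ext h3.symm
  haveI : Finite (Subgroup.zpowers g) := inferInstance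
  haveI := Fintype.ofFinite (Subgroup.zpowers g)
  rw [Fintype.bijective_iff_injective_and_card]
  refine ⟨hinj, ?_⟩
  rw [hΩ, ← Nat.card_eq_fintype_card, Nat.card_zpowers, hg]

end Cfsg.Agent.H24
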