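import Cfsg.Agent.H24.BurnsidePrime
import Cfsg.Agent.H24.SRing3

set_option autoImplicit false

/-!
Burnside's theorem on transitive groups of prime degree (helper24).
-/

namespace Cfsg.Agent.H24

open MulAction

section

variable {G X : Type*} [Group G] [MulAction G X]

open Classical in
/-- a small suborbit of a group that is not doubly transitive. -/
theorem exists_small_suborbit {Q : Type*} [Group Q] [Fintype Q] {ι : Q →* G} {α : X}
    [IsPretransitive G X] (hreg : Function.Bijective (fun x : Q => ι x • α))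
    (hcon : ¬ IsMultiplyPretransitive G X 2) (hQ : 1 < Fintype.card Q) :
    ∃ x : Q, x ≠ 1 ∧
      2 * (Finset.univ.filter (fun y => StabRel ι α x y)).card ≤ Fintype.card Q - 1 := by
  let orb : Q → Finset Q := fun x => Finset.univ.filter (fun y => StabRel ι α x y)
  have horb : ∀ x y, y ∈ orb x ↔ StabRel ι α x y := fun x y => by simp [orb]
  have hone : ∀ x, x ≠ 1 → (1 : Q) ∉ orb x := by
    intro x hx h
    rw [horb] at h
    have := (stabInv_one hreg).rel h
    simp at this
    exact hx this
  obtain ⟨x₁, hx₁⟩ : ∃ x : Q, x ≠ 1 := by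
    haveI := Fintype.one_lt_card_iff_nontrivial.1 hQ
    exact exists_ne 1
  obtain ⟨x₂, hx₂, hx₂'⟩ : ∃ y : Q, y ≠ 1 ∧ y ∉ orb x₁ := by
    by_contra hno
    push Not at hno
    apply hcon
    exact two_pretransitive_of_stabRel hreg x₁ (fun y hy => (horb _ _).1 (hno y hy))
  have hdisj : Disjoint (orb x₁) (orb x₂) := by
    rw [Finset.disjoint_left]
    intro z h1 h2
    apply hx₂'
    rw [horb] at h1 h2 ⊢
    exact h1.trans h2.symm
  have hsub : (orb x₁ ∪ orb x₂) ⊆ Finset.univ.erase (1 : Q) := by
    intro z hz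
    rw [Finset.mem_erase]
    refine ⟨?_, Finset.mem_univ _⟩
    rintro rfl
    rcases Finset.mem_union.1 hz with h | h
    · exact hone _ hx₁ h
    · exact hone _ hx₂ h
  have hle := Finset.card_le_card hsub
  rw [Finset.card_union_of_disjoint hdisj, Finset.card_erase_of_mem (Finset.mem_univ _),
    Finset.card_univ] at hle
  rcases le_total (orb x₁).card (orb x₂).card with h | h
  · refine ⟨x₁, hx₁, ?_⟩
    show 2 * (orb x₁).card ≤ _
    omega
  · refine ⟨x₂, hx₂, ?_⟩
    show 2 * (orb x₂).card ≤ _
    omega

/-- the homomorphism from the additive group of `ZMod n` given by an element of order `n`. -/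
def zmodHom {n : ℕ} [NeZero n] (g : G) (hg : g ^ n = 1) : Multiplicative (ZMod n) →* G where
  toFun k := g ^ (Multiplicative.toAdd k).val
  map_one' := by
    show g ^ (0 : ZMod n).val = 1
    rw [ZMod.val_zero, pow_zero]
  map_mul' a b := by
    show g ^ (Multiplicative.toAdd a + Multiplicative.toAdd b).val = _
    rw [ZMod.val_add, ← pow_add]
    exact (pow_eq_pow_mod _ hg).symm

/-- Burnside's theorem: a transitive group of prime degree is solvable or doubly transitive. -/
theorem burnside_prime_degree [FaithfulSMul G X] [Finite X] [IsPretransitive G X]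
    (hp : (Nat.card X).Prime) : Group.IsSolvable G ∨ IsMultiplyPretransitive G X 2 := by
  classical
  by_cases h2 : IsMultiplyPretransitive G X 2
  · exact Or.inr h2
  left
  haveI := Fintype.ofFinite X
  haveI : Finite G := Finite.of_injective (MulAction.toPermHom G X) MulAction.toPerm_injective
  set p := Nat.card X with hpX
  haveI hpf : Fact p.Prime := ⟨hp⟩
  haveI : Nonempty X := (Nat.card_pos_iff.1 hp.pos).1
  obtain ⟨α₀⟩ : Nonempty X := inferInstance
  have hdvd : p ∣ Nat.card G := by
    have h1 := MulAction.index_stabilizer_of_transitive G α₀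
    rw [hpX, ← h1]
    exact Subgroup.index_dvd_card _
  obtain ⟨g, hg⟩ := exists_prime_orderOf_dvd_card' p hdvd
  have hgo : orderOf (MulAction.toPermHom G X g) = p := by
    rw [← hg]
    exact orderOf_injective (MulAction.toPermHom G X) MulAction.toPerm_injective g
  obtain ⟨α, hα⟩ := regular_zpowers_of_orderOf (m := 1) hp one_ne_zero
    (by rw [pow_one, ← Nat.card_eq_fintype_card]) (MulAction.toPermHom G X g) (by rw [hgo, pow_one])
  have hgp : g ^ p = 1 := by rw [← hg]; exact pow_orderOf_eq_one g
  let ι : Multiplicative (ZMod p) →* G := zmodHom g hgp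
  have hι : ∀ k, ι k = g ^ (Multiplicative.toAdd k).val := fun k => rfl
  have hreg : Function.Bijective (fun x : Multiplicative (ZMod p) => ι x • α) := by
    rw [Fintype.bijective_iff_injective_and_card]
    constructor
    · intro x y hxy
      have hxy' : g ^ (Multiplicative.toAdd x).val • α = g ^ (Multiplicative.toAdd y).val • α := hxy
      have h1 := @hα.1 ⟨(MulAction.toPermHom G X g) ^ (Multiplicative.toAdd x).val,
          Subgroup.pow_mem _ (Subgroup.mem_zpowers _) _⟩
        ⟨(MulAction.toPermHom G X g) ^ (Multiplicative.toAdd y).val,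
          Subgroup.pow_mem _ (Subgroup.mem_zpowers _) _⟩ (by
          show ((MulAction.toPermHom G X g) ^ (Multiplicative.toAdd x).val) α =
            ((MulAction.toPermHom G X g) ^ (Multiplicative.toAdd y).val) α
          rw [← map_pow, ← map_pow]
          exact hxy')
      have h2 := congrArg Subtype.val h1
      simp only at h2
      have h3 := (pow_inj_mod (x := MulAction.toPermHom G X g)).1 h2
      rw [hgo, Nat.mod_eq_of_lt (ZMod.val_lt _), Nat.mod_eq_of_lt (ZMod.val_lt _)] at h3
      exact ZMod.val_injective p h3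
    · have : Fintype.card (Multiplicative (ZMod p)) = p := by
        rw [Fintype.card_multiplicative, ZMod.card]
      rw [this, hpX, Nat.card_eq_fintype_card]
  have hcardQ : Fintype.card (Multiplicative (ZMod p)) = p := by
    rw [Fintype.card_multiplicative, ZMod.card]
  obtain ⟨x₀, hx₀, hx₀c⟩ := exists_small_suborbit hreg h2 (by rw [hcardQ]; exact hp.one_lt)
  rw [hcardQ] at hx₀c
  -- the suborbit as a subset of `ZMod p`
  let T : Finset (ZMod p) := Finset.univ.filter
    (fun u => StabRel ι α x₀ (Multiplicative.ofAdd u))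
  have hT : ∀ u, u ∈ T ↔ StabRel ι α x₀ (Multiplicative.ofAdd u) := fun u => by simp [T]
  have hTcard : T.card = (Finset.univ.filter (fun y => StabRel ι α x₀ y)).card := by
    refine Finset.card_bij (fun u _ => Multiplicative.ofAdd u) ?_ ?_ ?_
    · intro u hu
      rw [Finset.mem_filter]
      exact ⟨Finset.mem_univ _, (hT u).1 hu⟩
    · intro a _ b _ hab; exact Multiplicative.ofAdd.injective hab
    · intro y hy
      exact ⟨Multiplicative.toAdd y, (hT _).2 (Finset.mem_filter.1 hy).2, rfl⟩
  have h0T : (0 : ZMod p) ∉ T := by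
    intro h
    rw [hT] at h
    have := (stabInv_one hreg).rel h
    simp at this
    exact hx₀ this
  have hTne : T.Nonempty := ⟨Multiplicative.toAdd x₀, (hT _).2 (StabRel.refl ι α x₀)⟩
  have hp1 := hp.one_lt
  -- coordinates
  let e : ZMod p ≃ X := Multiplicative.ofAdd.trans (Equiv.ofBijective _ hreg)
  have he : ∀ k, e k = ι (Multiplicative.ofAdd k) • α := fun k => rfl
  let σ : G → Equiv.Perm (ZMod p) := fun h => e.trans ((MulAction.toPerm h).trans e.symm)
  have hσ : ∀ h k, e (σ h k) = h • e k := by
    intro h k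
    show e (e.symm (h • e k)) = _
    rw [Equiv.apply_symm_apply]
  have haff : ∀ h : G, ∃ a b : ZMod p, ∀ x, σ h x = a * x + b := by
    intro h
    refine affine_of_preserves T h0T hTne (by rw [hTcard]; omega) (σ h) fun i => ?_
    apply Finset.eq_of_subset_of_card_le
    · intro z hz
      obtain ⟨u, hu, rfl⟩ := Finset.mem_image.1 hz
      rw [Finset.mem_image]
      refine ⟨σ h (i + u) - σ h i, ?_, by ring⟩
      rw [hT] at hu ⊢
      refine hu.trans ⟨(ι (Multiplicative.ofAdd (σ h i)))⁻¹ * h * ι (Multiplicative.ofAdd i), ?_, ?_⟩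
      · rw [mem_stabilizer_iff, mul_smul, mul_smul, ← he, ← hσ, he, inv_smul_smul]
      · rw [mul_smul, mul_smul, ← mul_smul (ι (Multiplicative.ofAdd i)), ← map_mul, ← ofAdd_add,
          ← he (i + u), ← hσ, he, inv_smul_eq_iff, ← mul_smul, ← map_mul, ← ofAdd_add]
        congr 3
        ring
    · rw [Finset.card_image_of_injective _ (fun a b hab => add_left_cancel hab),
        Finset.card_image_of_injective]
      intro a b hab
      exact add_left_cancel ((σ h).injective hab)
  have hσmul : ∀ h k, σ (h * k) = σ h * σ k := by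
    intro h k
    ext x
    apply e.injective
    rw [hσ, Equiv.Perm.mul_apply, hσ, hσ, mul_smul]
  have hσinj : ∀ h, σ h = 1 → h = 1 := by
    intro h hh
    apply MulAction.toPerm_injective (α := G) (β := X)
    ext x
    obtain ⟨k, rfl⟩ := e.surjective x
    have := hσ h k
    rw [hh, Equiv.Perm.one_apply] at this
    show h • e k = (1 : G) • e k
    rw [one_smul, ← this]
  have hσone : σ 1 = 1 := by
    have := hσmul 1 1
    rw [mul_one] at this
    exact mul_left_cancel (a := σ 1) (by rw [← this, mul_one])
  -- the translations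
  let N : Subgroup G :=
    { carrier := {h | ∃ b, ∀ x, σ h x = x + b}
      one_mem' := ⟨0, fun x => by rw [hσone]; simp⟩
      mul_mem' := by
        rintro a b ⟨c, hc⟩ ⟨d, hd⟩
        refine ⟨d + c, fun x => ?_⟩
        rw [hσmul, Equiv.Perm.mul_apply, hd, hc]; ring
      inv_mem' := by
        rintro a ⟨c, hc⟩
        refine ⟨-c, fun x => ?_⟩
        apply (σ a).injective
        rw [← Equiv.Perm.mul_apply, ← hσmul, mul_inv_cancel, hσone, hc]
        simp }
  have hN : ∀ h, h ∈ N ↔ ∃ b, ∀ x, σ h x = x + b := fun h => Iff.rfl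
  have hcomm : ⁅(⊤ : Subgroup G), (⊤ : Subgroup G)⁆ ≤ N := by
    rw [Subgroup.commutator_le]
    intro h _ k _
    obtain ⟨a, b, hab⟩ := haff h
    obtain ⟨c, d, hcd⟩ := haff k
    -- `hk = (translation) kh`
    have h1 : ∀ x, σ (h * k * h⁻¹ * k⁻¹) (σ k (σ h x)) = σ h (σ k x) := by
      intro x
      rw [← Equiv.Perm.mul_apply, ← Equiv.Perm.mul_apply, ← Equiv.Perm.mul_apply, ← hσmul, ← hσmul,
        ← hσmul]
      congr 2
      group
    rw [commutatorElement_def]
    rw [hN]
    refine ⟨a * d + b - c * b - d, fun x => ?_⟩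
    obtain ⟨y, hy⟩ := (σ k).surjective x
    obtain ⟨z, hz⟩ := (σ h).surjective y
    rw [← hy, ← hz, h1 z, hcd z, hab, hcd, hab]
    ring
  rw [Group.isSolvable_def]
  refine ⟨2, ?_⟩
  rw [derivedSeries_succ, derivedSeries_succ, derivedSeries_zero]
  rw [eq_bot_iff]
  refine (Subgroup.commutator_mono hcomm hcomm).trans ?_
  rw [Subgroup.commutator_le]
  rintro h ⟨b, hb⟩ k ⟨d, hd⟩
  rw [Subgroup.mem_bot, commutatorElement_eq_one_iff_mul_comm]
  have h1 : σ (h * k * (k * h)⁻¹) = 1 := by
    have h3 : σ (h * k) = σ (k * h) := by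
      ext x
      rw [hσmul, hσmul, Equiv.Perm.mul_apply, Equiv.Perm.mul_apply, hb, hd, hb, hd]
      ring
    rw [hσmul, h3, ← hσmul, mul_inv_cancel, hσone]
  exact mul_inv_eq_one.1 (hσinj _ h1)

end

end Cfsg.Agent.H24
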