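import Mathlib
import Cfsg.Agent.H24.Decomp

set_option autoImplicit false

/-! # H24/PiClasses: representatives for the classes of `π`-elements -/

namespace Cfsg.Agent.H24

open Subgroup
open scoped Pointwise

/-- There is a set of at most `∏_{q ∈ S} |G|_q` elements meeting every class of `S`-elements. -/
theorem exists_reps_S_elements (S : Finset ℕ) (hS : ∀ q ∈ S, q.Prime) :
    ∀ (G : Type*) [Group G] [Finite G], ∃ R : Finset G,
      R.card ≤ ∏ q ∈ S, q ^ (Nat.card G).factorization q ∧
      ∀ g : G, (∀ q : ℕ, q.Prime → q ∣ orderOf g → q ∈ S) → ∃ r ∈ R, IsConj g r := by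
  classical
  induction S using Finset.induction_on with
  | empty =>
    intro G _ _
    refine ⟨{1}, by simp, ?_⟩
    intro g hg
    refine ⟨1, by simp, ?_⟩
    have h1 : orderOf g = 1 := by
      by_contra hne
      obtain ⟨q, hq, hd⟩ := Nat.exists_prime_and_dvd hne
      exact absurd (hg q hq hd) (by simp)
    rw [orderOf_eq_one_iff] at h1
    rw [h1]
  | insert p S hpS ih =>
    intro G _ _
    have hp : p.Prime := hS p (Finset.mem_insert_self p S)
    have hfp : Fact p.Prime := ⟨hp⟩
    have ih' := ih (fun q hq => hS q (Finset.mem_insert_of_mem hq))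
    obtain ⟨P⟩ : Nonempty (Sylow p G) := inferInstance
    have : Fintype (P : Subgroup G) := Fintype.ofFinite _
    choose R hR1 hR2 using fun x : (P : Subgroup G) => ih' (centralizer ({(x : G)} : Set G))
    refine ⟨Finset.univ.biUnion (fun x : (P : Subgroup G) =>
      (R x).image (fun r : centralizer ({(x : G)} : Set G) => (x : G) * (r : G))), ?_, ?_⟩
    · refine Finset.card_biUnion_le.trans ?_
      rw [Finset.prod_insert hpS]
      have h1 : ∀ x : (P : Subgroup G), ((R x).image (fun r : centralizer ({(x : G)} : Set G) => (x : G) * (r : G))).card ≤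
          ∏ q ∈ S, q ^ (Nat.card G).factorization q := by
        intro x
        refine Finset.card_image_le.trans ((hR1 x).trans ?_)
        apply Finset.prod_le_prod' 
        intro q hq
        apply Nat.pow_le_pow_right (hS q (Finset.mem_insert_of_mem hq)).pos
        exact (Nat.factorization_le_iff_dvd Nat.card_pos.ne' Nat.card_pos.ne').2
          (Subgroup.card_subgroup_dvd_card _) q
      refine (Finset.sum_le_card_nsmul _ _ _ (fun x _ => h1 x)).trans ?_
      rw [smul_eq_mul, Finset.card_univ, ← Nat.card_eq_fintype_card, P.card_eq_multiplicity]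
    · intro g hg
      obtain ⟨i, j, hgij, hi, hj⟩ := exists_pPart_decomp p g
      set u := g ^ i with hu
      set v := g ^ j with hv
      have huv : Commute u v := (Commute.refl g).pow_pow i j
      -- conjugate `u` into `P`
      obtain ⟨Q, hQ⟩ := (isPGroup_zpowers_of_orderOf hi).exists_le_sylow
      obtain ⟨h, hh⟩ := MulAction.exists_smul_eq G Q P
      have hx : h * u * h⁻¹ ∈ (P : Subgroup G) := by
        rw [← hh]
        have h1 : MulAut.conj h • u ∈ (MulAut.conj h • (Q : Subgroup G)) :=
          Subgroup.smul_mem_pointwise_smul _ _ _ (hQ (mem_zpowers u))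
        exact h1
      set x : (P : Subgroup G) := ⟨h * u * h⁻¹, hx⟩ with hxdef
      have hw : h * v * h⁻¹ ∈ centralizer ({(x : G)} : Set G) := by
        rw [mem_centralizer_singleton_iff]
        show h * v * h⁻¹ * (h * u * h⁻¹) = h * u * h⁻¹ * (h * v * h⁻¹)
        calc h * v * h⁻¹ * (h * u * h⁻¹) = h * (v * u) * h⁻¹ := by group
          _ = h * (u * v) * h⁻¹ := by rw [huv.eq]
          _ = _ := by group
      obtain ⟨r, hr, hconj⟩ := hR2 x ⟨h * v * h⁻¹, hw⟩ (by
        intro q hq hd
        rw [Subgroup.orderOf_mk] at hd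
        have h1 : orderOf (h * v * h⁻¹) = orderOf v := by
          have := MulEquiv.orderOf_eq (MulAut.conj h) v
          simpa using this
        rw [h1] at hd
        have h2 := hg q hq (hd.trans (orderOf_pow_dvd j))
        rcases Finset.mem_insert.1 h2 with h3 | h3
        · exfalso
          rw [h3] at hd
          have h4 := Nat.dvd_gcd hd dvd_rfl
          rw [hj] at h4
          exact hp.one_lt.ne' (Nat.dvd_one.1 h4)
        · exact h3)
      obtain ⟨c, hc⟩ := isConj_iff.1 hconj
      refine ⟨(x : G) * (r : G), ?_, ?_⟩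
      · rw [Finset.mem_biUnion]
        exact ⟨x, Finset.mem_univ _, Finset.mem_image_of_mem _ hr⟩
      · refine isConj_iff.2 ⟨(c : G) * h, ?_⟩
        have hc' : (c : G) * (h * v * h⁻¹) * (c : G)⁻¹ = r := congrArg Subtype.val hc
        have hcx := mem_centralizer_singleton_iff.1 c.2
        have hcx' : (c : G) * (x : G) * (c : G)⁻¹ = x := by rw [hcx]; group
        have hcx'' : (c : G) * (h * u * h⁻¹) * (c : G)⁻¹ = x := hcx'
        rw [hgij]
        calc (c : G) * h * (u * v) * ((c : G) * h)⁻¹
            = ((c : G) * (h * u * h⁻¹) * (c : G)⁻¹) * ((c : G) * (h * v * h⁻¹) * (c : G)⁻¹) := by group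
          _ = x * r := by rw [hcx'', hc']

end Cfsg.Agent.H24
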