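import Cfsg.Agent.H24.PiHom
import Mathlib

set_option autoImplicit false

open Subgroup
open scoped Pointwise

namespace Cfsg.Agent.H24

variable {G : Type*} [Group G]

theorem IsPiElt.map {π : Set ℕ} {x : G} {H : Type*} [Group H] (f : G →* H) (h : IsPiElt π x) :
    IsPiElt π (f x) := fun p hp hd => h p hp (hd.trans (orderOf_map_dvd f x))

theorem isPiElt_coe {π : Set ℕ} {H : Subgroup G} {x : H} : IsPiElt π (x : G) ↔ IsPiElt π x := by
  unfold IsPiElt
  rw [Subgroup.orderOf_coe]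

theorem IsPiElt.of_pow_eq_one {π : Set ℕ} {x : G} {n : ℕ} (hn : x ^ n = 1)
    (h : ∀ p : ℕ, p.Prime → p ∣ n → p ∈ π) : IsPiElt π x :=
  fun p hp hd => h p hp (hd.trans (orderOf_dvd_of_pow_eq_one hn))

theorem IsPiElt.conj {π : Set ℕ} {x : G} (h : IsPiElt π x) (g : G) : IsPiElt π (g * x * g⁻¹) :=
  h.map (MulAut.conj g).toMonoidHom

/-- Central `π'`-subgroup with quotient consisting of `π`-elements. -/
theorem piSub_of_central [Finite G] {π : Set ℕ} (Z : Subgroup G) [Z.Normal]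
    (hZ : Z ≤ center G) (hZp : ∀ p : ℕ, p.Prime → p ∣ Nat.card Z → p ∉ π)
    (hQ : ∀ x : G, IsPiElt π (x : G ⧸ Z)) :
    ∃ R : Subgroup G, ∀ x : G, x ∈ R ↔ IsPiElt π x := by
  have hidx : ∀ q : ℕ, q.Prime → q ∣ Z.index → q ∈ π := by
    intro q hq hd
    haveI : Fact q.Prime := ⟨hq⟩
    obtain ⟨y, hy⟩ := exists_prime_orderOf_dvd_card' q (show q ∣ Nat.card (G ⧸ Z) from hd)
    obtain ⟨x, rfl⟩ := QuotientGroup.mk_surjective y
    exact hQ x q hq (by rw [hy])
  have hcop : Nat.Coprime (Nat.card Z) Z.index := by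
    by_contra hne
    obtain ⟨q, hq, hq1, hq2⟩ := Nat.Prime.not_coprime_iff_dvd.1 hne
    exact hZp q hq hq1 (hidx q hq hq2)
  obtain ⟨R, hR⟩ := Subgroup.exists_right_complement'_of_coprime hcop
  have hcard : Nat.card R = Z.index := by
    have h1 := hR.card_mul
    have h2 := Subgroup.card_mul_index Z
    exact Nat.eq_of_mul_eq_mul_left Nat.card_pos (h1.trans h2.symm)
  have hRp : ∀ r ∈ R, IsPiElt π r := by
    intro r hr q hq hd
    apply hidx q hq
    rw [← hcard]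
    refine hd.trans ?_
    have := orderOf_dvd_natCard (⟨r, hr⟩ : R)
    rwa [← Subgroup.orderOf_coe] at this
  refine ⟨R, fun x => ⟨hRp x, fun hx => ?_⟩⟩
  have hx' : x ∈ Z ⊔ R := by rw [hR.sup_eq_top]; exact mem_top x
  rw [Subgroup.mem_sup_of_normal_left] at hx'
  obtain ⟨z, hz, r, hr, hzr⟩ := hx'
  have hzc := Subgroup.mem_center_iff.1 (hZ hz)
  have hcomm : Commute x r⁻¹ := by
    have h1 : Commute x r := by
      show x * r = r * x
      rw [← hzr, mul_assoc, ← mul_assoc r z r, hzc r, mul_assoc]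
    exact h1.inv_right
  have hz1 : z = x * r⁻¹ := by rw [← hzr]; group
  have hzpow : z ^ (orderOf x * orderOf r) = 1 := by
    rw [hz1, hcomm.mul_pow, pow_mul, pow_orderOf_eq_one, one_pow, one_mul, inv_pow, mul_comm,
      pow_mul, pow_orderOf_eq_one, one_pow, inv_one]
  have hz2 : orderOf z = 1 := by
    by_contra hne
    obtain ⟨q, hq, hqd⟩ := Nat.exists_prime_and_dvd hne
    have h1 : q ∈ π := by
      rcases (hq.dvd_mul).1 (hqd.trans (orderOf_dvd_of_pow_eq_one hzpow)) with h2 | h2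
      · exact hx q hq h2
      · exact hRp r hr q hq h2
    refine hZp q hq (hqd.trans ?_) h1
    have := orderOf_dvd_natCard (⟨z, hz⟩ : Z)
    rwa [← Subgroup.orderOf_coe] at this
  rw [orderOf_eq_one_iff] at hz2
  rw [← hzr, hz2, one_mul]; exact hr

/-- The core of `S4051`. -/
theorem piSub_of_extension [Finite G] {π : Set ℕ} (hG : Homog π G) (K : Subgroup G) [hKn : K.Normal]
    (hK : ∃ L : Subgroup K, ∀ x : K, x ∈ L ↔ IsPiElt π x)
    (hQ : ∃ L : Subgroup (G ⧸ K), ∀ x : G ⧸ K, x ∈ L ↔ IsPiElt π x) :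
    ∃ M : Subgroup G, ∀ x : G, x ∈ M ↔ IsPiElt π x := by
  obtain ⟨L₀, hL₀⟩ := hK
  obtain ⟨M₀, hM₀⟩ := hQ
  set L := L₀.map K.subtype with hLdef
  have hLmem : ∀ x : G, x ∈ L ↔ x ∈ K ∧ IsPiElt π x := by
    intro x
    constructor
    · rintro ⟨y, hy, rfl⟩
      exact ⟨y.2, isPiElt_coe.2 ((hL₀ y).1 hy)⟩
    · rintro ⟨hx, hxp⟩
      exact ⟨⟨x, hx⟩, (hL₀ _).2 (isPiElt_coe.1 hxp), rfl⟩
  haveI hLn : L.Normal := by
    constructor
    intro x hx g
    rw [hLmem] at hx ⊢
    exact ⟨hKn.conj_mem x hx.1 g, hx.2.conj g⟩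
  have hLK : L ≤ K := fun x hx => ((hLmem x).1 hx).1
  have hLp : ∀ p : ℕ, p.Prime → p ∣ Nat.card L → p ∈ π := by
    intro p hp hd
    haveI : Fact p.Prime := ⟨hp⟩
    obtain ⟨y, hy⟩ := exists_prime_orderOf_dvd_card' p hd
    exact ((hLmem y).1 y.2).2 p hp (by rw [Subgroup.orderOf_coe, hy])
  have hlift : ∀ x : G, IsPiElt π (x : G ⧸ L) → IsPiElt π x := by
    intro x hx
    have h1 : x ^ orderOf (x : G ⧸ L) ∈ L := by
      rw [← QuotientGroup.eq_one_iff, QuotientGroup.mk_pow, pow_orderOf_eq_one]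
    have h2 : x ^ (orderOf (x : G ⧸ L) * Nat.card L) = 1 := by
      rw [pow_mul]
      have := pow_card_eq_one' (x := (⟨_, h1⟩ : L))
      exact congrArg Subtype.val this
    refine IsPiElt.of_pow_eq_one h2 ?_
    intro q hq hd
    rcases (hq.dvd_mul).1 hd with h3 | h3
    · exact hx q hq h3
    · exact hLp q hq h3
  have hGL := homog_quotient L hLp hG
  set Kb := K.map (QuotientGroup.mk' L) with hKb
  haveI hKbn : Kb.Normal := hKn.map _ (QuotientGroup.mk'_surjective L)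
  have hKbp : ∀ p : ℕ, p.Prime → p ∣ Nat.card Kb → p ∉ π := by
    intro p hp hd hpπ
    haveI : Fact p.Prime := ⟨hp⟩
    obtain ⟨⟨y, k, hk, hky⟩, hyo⟩ := exists_prime_orderOf_dvd_card' p hd
    have h1 : orderOf (k : G ⧸ L) = p := by
      rw [← hyo, ← Subgroup.orderOf_coe]
      exact congrArg orderOf hky
    have h2 : IsPiElt π (k : G ⧸ L) := by
      intro q hq hd
      rw [h1] at hd
      rw [(Nat.prime_dvd_prime_iff_eq hq hp).1 hd]; exact hpπ
    have h3 : k ∈ L := (hLmem k).2 ⟨hk, hlift k h2⟩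
    rw [(QuotientGroup.eq_one_iff k).2 h3, orderOf_one] at h1
    exact hp.one_lt.ne h1
  let φ : (G ⧸ L) →* (G ⧸ K) := QuotientGroup.map L K (MonoidHom.id G) hLK
  have hφ : ∀ x : G, φ (x : G ⧸ L) = (x : G ⧸ K) := fun x => rfl
  have hφker : ∀ y : G ⧸ L, φ y = 1 → y ∈ Kb := by
    intro y hy
    obtain ⟨x, rfl⟩ := QuotientGroup.mk_surjective y
    rw [hφ, QuotientGroup.eq_one_iff] at hy
    exact ⟨x, hy, rfl⟩
  set T : Subgroup (G ⧸ L) := centralizer (Kb : Set (G ⧸ L)) ⊓ M₀.comap φ with hT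
  set Z : Subgroup T := Kb.subgroupOf T with hZdef
  have hZc : Z ≤ center T := by
    rintro ⟨z, hz⟩ hz'
    rw [Subgroup.mem_center_iff]
    rintro ⟨t, ht⟩
    apply Subtype.ext
    have h1 : z ∈ Kb := hz'
    exact ((Subgroup.mem_centralizer_iff.1 ht.1) z h1).symm
  haveI hZn : Z.Normal := hKbn.subgroupOf T
  have hZcard : Nat.card Z ∣ Nat.card Kb := by
    have h1 : Nat.card (Z.map T.subtype) = Nat.card Z :=
      Subgroup.card_map_of_injective T.subtype_injective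
    rw [← h1]
    apply Subgroup.card_dvd_of_le
    rintro _ ⟨z, hz, rfl⟩
    exact hz
  have hTQ : ∀ t : T, IsPiElt π (t : T ⧸ Z) := by
    intro t
    have h1 : IsPiElt π (φ t) := (hM₀ _).1 t.2.2
    have h2 : (t ^ orderOf (φ t) : T) ∈ Z := by
      rw [hZdef, Subgroup.mem_subgroupOf]
      apply hφker
      rw [Subgroup.coe_pow, map_pow, pow_orderOf_eq_one]
    have h3 : (t : T ⧸ Z) ^ orderOf (φ t) = 1 := by
      rw [← QuotientGroup.mk_pow, QuotientGroup.eq_one_iff]; exact h2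
    exact IsPiElt.of_pow_eq_one h3 h1
  obtain ⟨R₀, hR₀⟩ := piSub_of_central Z hZc (fun p hp hd => hKbp p hp (hd.trans hZcard)) hTQ
  refine ⟨(R₀.map T.subtype).comap (QuotientGroup.mk' L), fun x => ?_⟩
  constructor
  · rintro ⟨t, ht, htx⟩
    apply hlift
    have h1 := isPiElt_coe.2 ((hR₀ t).1 ht)
    have h2 : (t : G ⧸ L) = (x : G ⧸ L) := htx
    rwa [h2] at h1
  · intro hx
    have hxL : IsPiElt π (x : G ⧸ L) := hx.map (QuotientGroup.mk' L)
    have hxT : (x : G ⧸ L) ∈ T := by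
      refine ⟨?_, (hM₀ _).2 (hxL.map φ)⟩
      show (x : G ⧸ L) ∈ centralizer (Kb : Set (G ⧸ L))
      by_cases hK1 : Kb = ⊥
      · rw [hK1, Subgroup.mem_centralizer_iff]
        intro y hy
        have hy' : y = 1 := hy
        rw [hy']; simp
      · have h1 : zpowers (x : G ⧸ L) ≤ centralizer (Kb : Set (G ⧸ L)) := by
          apply Cfsg.Agent.H25.le_of_primary
          intro z hz q k hq hzo
          rcases Nat.eq_zero_or_pos k with hk | hk
          · subst hk
            rw [pow_zero, orderOf_eq_one_iff] at hzo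
            rw [hzo]; exact one_mem _
          · have hqπ : q ∈ π := by
              apply hxL q hq
              refine (?_ : q ∣ orderOf z).trans (orderOf_dvd_of_mem_zpowers hz)
              rw [hzo]; exact dvd_pow_self q hk.ne'
            refine hGL Kb hK1 hKbp q hq hqπ z ?_ ⟨k, hzo⟩
            rw [Subgroup.normalizer_eq_top_iff.2 hKbn]; exact mem_top z
        exact h1 (mem_zpowers _)
    refine ⟨⟨x, hxT⟩, ?_, rfl⟩
    exact (hR₀ _).2 (isPiElt_coe.1 hxL)

end Cfsg.Agent.H24
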