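import Mathlib
import Cfsg.Agent.H24.PiClasses
import Cfsg.Agent.H24.PiHom2

set_option autoImplicit false

/-! # H24/CC: counting conjugacy classes meeting a set; classes of `π`-elements -/

namespace Cfsg.Agent.H24

open Subgroup
open scoped Pointwise

section

variable {G : Type*} [Group G]

/-- the number of conjugacy classes meeting `A` -/
noncomputable def CC (A : Set G) : ℕ := (ConjClasses.mk '' A).ncard

/-- the set of `π`-elements -/
def piElts (π : Set ℕ) (G : Type*) [Group G] : Set G := {x | IsPiElt π x}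

theorem mem_piElts {π : Set ℕ} {x : G} : x ∈ piElts π G ↔ IsPiElt π x := Iff.rfl

theorem CC_le_of_reps {A : Set G} {R : Finset G} (h : ∀ g ∈ A, ∃ r ∈ R, IsConj g r) :
    CC A ≤ R.card := by
  classical
  have h1 : ConjClasses.mk '' A ⊆ ((R.image ConjClasses.mk : Finset (ConjClasses G)) : Set (ConjClasses G)) := by
    rintro _ ⟨g, hg, rfl⟩
    obtain ⟨r, hr, hgr⟩ := h g hg
    rw [Finset.coe_image]
    exact ⟨r, hr, (ConjClasses.mk_eq_mk_iff_isConj.2 hgr.symm)⟩
  have h2 := Set.ncard_le_ncard h1 (Finset.finite_toSet _)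
  rw [Set.ncard_coe_finset] at h2
  exact h2.trans Finset.card_image_le

theorem exists_reps [Finite G] (A : Set G) : ∃ R : Finset G, R.card = CC A ∧ (∀ r ∈ R, r ∈ A) ∧
    ∀ g ∈ A, ∃ r ∈ R, IsConj g r := by
  classical
  have hfin : (ConjClasses.mk '' A).Finite := Set.toFinite _
  have h1 : ∀ c : ConjClasses G, ∃ r : G, c ∈ ConjClasses.mk '' A → r ∈ A ∧ ConjClasses.mk r = c := by
    intro c
    by_cases hc : c ∈ ConjClasses.mk '' A
    · obtain ⟨r, hr, hrc⟩ := hc
      exact ⟨r, fun _ => ⟨hr, hrc⟩⟩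
    · exact ⟨1, fun h => absurd h hc⟩
  choose f hf using h1
  refine ⟨hfin.toFinset.image f, ?_, ?_, ?_⟩
  · rw [Finset.card_image_of_injOn, CC, Set.ncard_eq_toFinset_card _ hfin]
    intro c hc d hd hcd
    have hc' := (hf c (hfin.mem_toFinset.1 hc)).2
    have hd' := (hf d (hfin.mem_toFinset.1 hd)).2
    rw [← hc', ← hd', hcd]
  · intro r hr
    obtain ⟨c, hc, rfl⟩ := Finset.mem_image.1 hr
    exact (hf c (hfin.mem_toFinset.1 hc)).1
  · intro g hg
    have hc : ConjClasses.mk g ∈ ConjClasses.mk '' A := ⟨g, hg, rfl⟩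
    refine ⟨f (ConjClasses.mk g), Finset.mem_image_of_mem _ (hfin.mem_toFinset.2 hc), ?_⟩
    exact ConjClasses.mk_eq_mk_iff_isConj.1 (hf _ hc).2.symm

theorem CC_mono [Finite G] {A B : Set G} (h : ∀ a ∈ A, ∃ b ∈ B, IsConj a b) : CC A ≤ CC B := by
  obtain ⟨R, hR1, hR2, hR3⟩ := exists_reps B
  rw [← hR1]
  refine CC_le_of_reps fun g hg => ?_
  obtain ⟨b, hb, hgb⟩ := h g hg
  obtain ⟨r, hr, hbr⟩ := hR3 b hb
  exact ⟨r, hr, hgb.trans hbr⟩

theorem CC_le_ncard [Finite G] {A B : Set G} (h : ∀ a ∈ A, ∃ b ∈ B, IsConj a b) : CC A ≤ B.ncard := by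
  refine (CC_mono h).trans ?_
  exact Set.ncard_image_le (Set.toFinite B)

theorem CC_union_le [Finite G] (A B : Set G) : CC (A ∪ B) ≤ CC A + CC B := by
  unfold CC
  rw [Set.image_union]
  exact Set.ncard_union_le _ _

theorem CC_add_le [Finite G] {A B T : Set G} (hA : A ⊆ T) (hB : B ⊆ T)
    (hdis : ∀ a ∈ A, ∀ b ∈ B, ¬ IsConj a b) : CC A + CC B ≤ CC T := by
  unfold CC
  rw [← Set.ncard_union_eq]
  · apply Set.ncard_le_ncard _ (Set.toFinite _)
    rintro _ (⟨a, ha, rfl⟩ | ⟨b, hb, rfl⟩)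
    · exact ⟨a, hA ha, rfl⟩
    · exact ⟨b, hB hb, rfl⟩
  · rw [Set.disjoint_left]
    rintro _ ⟨a, ha, rfl⟩ ⟨b, hb, hab⟩
    exact hdis a ha b hb (ConjClasses.mk_eq_mk_iff_isConj.1 hab.symm)

/-- if every element of `B` has at least `c` conjugates in `B`, then `c * CC B ≤ |B|` -/
theorem mul_CC_le [Finite G] {B : Set G} {c : ℕ} (h : ∀ b ∈ B, c ≤ {x ∈ B | IsConj b x}.ncard) :
    c * CC B ≤ B.ncard := by
  classical
  have hfin : B.Finite := Set.toFinite B
  have h1 := Finset.mul_card_image_le_card (f := fun x : G => ConjClasses.mk x) hfin.toFinset c (by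
    intro a ha
    obtain ⟨b, hb, rfl⟩ := Finset.mem_image.1 ha
    have hb' := hfin.mem_toFinset.1 hb
    refine (h b hb').trans ?_
    rw [Set.ncard_eq_toFinset_card _ (Set.toFinite _)]
    apply Finset.card_le_card
    intro x hx
    have hx' := (Set.toFinite _).mem_toFinset.1 hx
    refine Finset.mem_filter.2 ⟨hfin.mem_toFinset.2 hx'.1, ConjClasses.mk_eq_mk_iff_isConj.2 hx'.2.symm⟩)
  have h2 : CC B = (Finset.image (fun x : G => ConjClasses.mk x) hfin.toFinset).card := by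
    unfold CC
    rw [← Set.ncard_coe_finset, Finset.coe_image, hfin.coe_toFinset]
  rw [h2, Set.ncard_eq_toFinset_card _ hfin]
  exact h1

/-- `S`-part of `n` -/
def sPart (S : Finset ℕ) (n : ℕ) : ℕ := ∏ q ∈ S, q ^ n.factorization q

theorem sPart_insert {S : Finset ℕ} {p : ℕ} (h : p ∉ S) (n : ℕ) :
    sPart (insert p S) n = p ^ n.factorization p * sPart S n := by
  unfold sPart
  rw [Finset.prod_insert h]

theorem sPart_pos {S : Finset ℕ} (hS : ∀ q ∈ S, q.Prime) (n : ℕ) : 0 < sPart S n :=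
  Finset.prod_pos fun q hq => pow_pos (hS q hq).pos _

theorem sPart_dvd {S : Finset ℕ} {m n : ℕ} (hn : n ≠ 0) (h : m ∣ n) :
    sPart S m ∣ sPart S n := by
  unfold sPart
  apply Finset.prod_dvd_prod_of_dvd
  intro q _
  apply pow_dvd_pow
  have hm : m ≠ 0 := fun h0 => hn (by rw [h0] at h; exact Nat.eq_zero_of_zero_dvd h)
  exact (Nat.factorization_le_iff_dvd hm hn).2 h q

theorem factorization_sPart {S : Finset ℕ} (hS : ∀ q ∈ S, q.Prime) (n : ℕ) (q : ℕ) :
    (sPart S n).factorization q = if q ∈ S then n.factorization q else 0 := by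
  unfold sPart
  rw [Nat.factorization_prod_apply (fun x hx => pow_ne_zero _ (hS x hx).ne_zero)]
  rw [Finset.sum_congr rfl (fun x hx => by
    rw [(hS x hx).factorization_pow, Finsupp.single_apply])]
  rw [Finset.sum_ite_eq']

theorem sPart_dvd_self {S : Finset ℕ} (hS : ∀ q ∈ S, q.Prime) {n : ℕ} (hn : n ≠ 0) : sPart S n ∣ n := by
  rw [← Nat.factorization_le_iff_dvd (sPart_pos hS n).ne' hn]
  intro q
  rw [factorization_sPart hS]
  split_ifs
  · exact le_rfl
  · exact Nat.zero_le _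

theorem mem_of_dvd_sPart {S : Finset ℕ} (hS : ∀ q ∈ S, q.Prime) {n q : ℕ} (hq : q.Prime)
    (h : q ∣ sPart S n) : q ∈ S := by
  by_contra hne
  have h1 := factorization_sPart hS n q
  rw [if_neg hne] at h1
  have h2 := (hq.dvd_iff_one_le_factorization (sPart_pos hS n).ne').1 h
  omega

theorem not_dvd_div_sPart {S : Finset ℕ} (hS : ∀ q ∈ S, q.Prime) {n q : ℕ} (hn : n ≠ 0)
    (hq : q ∈ S) : ¬ q ∣ n / sPart S n := by
  intro h
  have h1 := (hS q hq).dvd_iff_one_le_factorization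
    (Nat.div_pos (Nat.le_of_dvd (Nat.pos_of_ne_zero hn) (sPart_dvd_self hS hn)) (sPart_pos hS n)).ne' |>.1 h
  rw [Nat.factorization_div (sPart_dvd_self hS hn), Finsupp.tsub_apply, factorization_sPart hS, if_pos hq] at h1
  omega

/-- uniqueness of the `S`-part -/
theorem eq_sPart {S : Finset ℕ} (hS : ∀ q ∈ S, q.Prime) {n m : ℕ} (hn : n ≠ 0) (hm : m ∣ n)
    (hmS : ∀ q : ℕ, q.Prime → q ∣ m → q ∈ S) (hm' : ∀ q ∈ S, ¬ q ∣ n / m) : m = sPart S n := by
  have hm0 : m ≠ 0 := fun h0 => hn (by rw [h0] at hm; exact Nat.eq_zero_of_zero_dvd hm)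
  apply Nat.eq_of_factorization_eq hm0 (sPart_pos hS n).ne'
  intro q
  rw [factorization_sPart hS]
  split_ifs with hq
  · have h1 : (n / m).factorization q = 0 := Nat.factorization_eq_zero_of_not_dvd (hm' q hq)
    rw [Nat.factorization_div hm, Finsupp.tsub_apply] at h1
    have h2 := (Nat.factorization_le_iff_dvd hm0 hn).2 hm q
    omega
  · by_cases hqp : q.Prime
    · apply Nat.factorization_eq_zero_of_not_dvd
      intro hd
      exact hq (hmS q hqp hd)
    · exact Nat.factorization_eq_zero_of_not_prime _ hqp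

/-- proper divisors of a number with large prime factors are small -/
theorem mul_le_of_dvd_of_ne {N m b : ℕ} (hN : N ≠ 0) (hb : ∀ q : ℕ, q.Prime → q ∣ N → b ≤ q)
    (h : m ∣ N) (hne : m ≠ N) : b * m ≤ N := by
  obtain ⟨t, ht⟩ := h
  have ht1 : t ≠ 1 := by
    rintro rfl
    exact hne (by rw [ht, mul_one])
  obtain ⟨q, hq, hqt⟩ := Nat.exists_prime_and_dvd ht1
  have h1 : b ≤ q := hb q hq (by rw [ht]; exact hqt.mul_left m)
  have ht0 : t ≠ 0 := by
    rintro rfl
    exact hN (by rw [ht, mul_zero])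
  have h2 : q ≤ t := Nat.le_of_dvd (Nat.pos_of_ne_zero ht0) hqt
  rw [ht, mul_comm]
  exact Nat.mul_le_mul_left _ (h1.trans h2)

theorem CC_piElts_le (S : Finset ℕ) (hS : ∀ q ∈ S, q.Prime) (G : Type*) [Group G] [Finite G] :
    CC (piElts (S : Set ℕ) G) ≤ sPart S (Nat.card G) := by
  obtain ⟨R, hR1, hR2⟩ := exists_reps_S_elements S hS G
  refine (CC_le_of_reps fun g hg => hR2 g ?_).trans hR1
  intro q hq hd
  exact hg q hq hd

/-- two-step count of `π`-elements -/
theorem CC_le_two [Finite G] {π π₁ π₂ : Set ℕ}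
    (hdec : ∀ g : G, IsPiElt π g → ∃ u v : G, Commute u v ∧ g = u * v ∧ IsPiElt π₁ u ∧ IsPiElt π₂ v)
    (A₁ A₂ : Set G) (hA : ∀ u : G, IsPiElt π₁ u → ∃ x, IsConj u x ∧ (x ∈ A₁ ∨ x ∈ A₂)) (a₁ a₂ : ℕ)
    (h1 : ∀ x ∈ A₁, CC (piElts π₂ (centralizer ({x} : Set G))) ≤ a₁)
    (h2 : ∀ x ∈ A₂, CC (piElts π₂ (centralizer ({x} : Set G))) ≤ a₂) :
    CC (piElts π G) ≤ CC A₁ * a₁ + CC A₂ * a₂ := by
  classical
  obtain ⟨R₁, hR1, hR1', hR1''⟩ := exists_reps A₁
  obtain ⟨R₂, hR2, hR2', hR2''⟩ := exists_reps A₂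
  have hex : ∀ x : G, ∃ R : Finset (centralizer ({x} : Set G)),
      R.card = CC (piElts π₂ (centralizer ({x} : Set G))) ∧
      ∀ g ∈ piElts π₂ (centralizer ({x} : Set G)), ∃ r ∈ R, IsConj g r := by
    intro x
    obtain ⟨R, h, -, h'⟩ := exists_reps (piElts π₂ (centralizer ({x} : Set G)))
    exact ⟨R, h, h'⟩
  choose F hF1 hF2 using hex
  set f : G → Finset G := fun x => (F x).image (fun r : centralizer ({x} : Set G) => x * (r : G)) with hf
  have hcard : ∀ x, (f x).card ≤ CC (piElts π₂ (centralizer ({x} : Set G))) := fun x =>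
    Finset.card_image_le.trans (hF1 x).le
  have hmain : ∀ g ∈ piElts π G, ∃ r ∈ R₁.biUnion f ∪ R₂.biUnion f, IsConj g r := by
    intro g hg
    obtain ⟨u, v, huv, hguv, hu, hv⟩ := hdec g hg
    obtain ⟨x, hux, hx⟩ := hA u hu
    have hx' : ∃ r, IsConj u r ∧ (r ∈ R₁ ∨ r ∈ R₂) := by
      rcases hx with hx | hx
      · obtain ⟨r, hr, hxr⟩ := hR1'' x hx
        exact ⟨r, hux.trans hxr, Or.inl hr⟩
      · obtain ⟨r, hr, hxr⟩ := hR2'' x hx
        exact ⟨r, hux.trans hxr, Or.inr hr⟩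
    obtain ⟨r, hur, hr⟩ := hx'
    obtain ⟨c, hc⟩ := isConj_iff.1 hur
    have hw : c * v * c⁻¹ ∈ centralizer ({r} : Set G) := by
      rw [mem_centralizer_singleton_iff, ← hc]
      calc c * v * c⁻¹ * (c * u * c⁻¹) = c * (v * u) * c⁻¹ := by group
        _ = c * (u * v) * c⁻¹ := by rw [huv.eq]
        _ = _ := by group
    obtain ⟨s, hs, hvs⟩ := hF2 r ⟨c * v * c⁻¹, hw⟩ (by
      rw [mem_piElts, ← isPiElt_coe]
      exact hv.conj c)
    obtain ⟨d, hd⟩ := isConj_iff.1 hvs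
    have hd' : (d : G) * (c * v * c⁻¹) * (d : G)⁻¹ = s := congrArg Subtype.val hd
    have hdr := mem_centralizer_singleton_iff.1 d.2
    have hdr' : (d : G) * r * (d : G)⁻¹ = r := by rw [hdr]; group
    refine ⟨r * (s : G), ?_, isConj_iff.2 ⟨(d : G) * c, ?_⟩⟩
    · have h3 : r * (s : G) ∈ f r := Finset.mem_image_of_mem _ hs
      rcases hr with hr | hr
      · exact Finset.mem_union_left _ (Finset.mem_biUnion.2 ⟨r, hr, h3⟩)
      · exact Finset.mem_union_right _ (Finset.mem_biUnion.2 ⟨r, hr, h3⟩)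
    · rw [hguv]
      calc (d : G) * c * (u * v) * ((d : G) * c)⁻¹
          = ((d : G) * (c * u * c⁻¹) * (d : G)⁻¹) * ((d : G) * (c * v * c⁻¹) * (d : G)⁻¹) := by group
        _ = r * s := by rw [hc, hdr', hd']
  refine (CC_le_of_reps hmain).trans ((Finset.card_union_le _ _).trans (add_le_add ?_ ?_))
  · refine Finset.card_biUnion_le.trans ?_
    rw [← hR1, ← smul_eq_mul]
    exact Finset.sum_le_card_nsmul _ _ _ fun x hx => (hcard x).trans (h1 x (hR1' x hx))
  · refine Finset.card_biUnion_le.trans ?_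
    rw [← hR2, ← smul_eq_mul]
    exact Finset.sum_le_card_nsmul _ _ _ fun x hx => (hcard x).trans (h2 x (hR2' x hx))

/-- `p`-part/`S`-part decomposition -/
theorem dec_insert {S : Finset ℕ} {p : ℕ} [hp : Fact p.Prime] (g : G)
    [Finite G] (hg : IsPiElt ((insert p S : Finset ℕ) : Set ℕ) g) :
    ∃ u v : G, Commute u v ∧ g = u * v ∧ IsPiElt ({p} : Set ℕ) u ∧ IsPiElt (S : Set ℕ) v := by
  obtain ⟨i, j, hgij, hi, hj⟩ := exists_pPart_decomp p g
  refine ⟨g ^ i, g ^ j, (Commute.refl g).pow_pow i j, hgij, ?_, ?_⟩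
  · intro q hq hd
    obtain ⟨k, hk⟩ := hi
    rw [hk] at hd
    exact (Nat.prime_dvd_prime_iff_eq hq hp.out).1 (hq.dvd_of_dvd_pow hd)
  · intro q hq hd
    have h2 := hg q hq (hd.trans (orderOf_pow_dvd j))
    rw [Finset.mem_coe] at h2 ⊢
    rcases Finset.mem_insert.1 h2 with h3 | h3
    · exfalso
      rw [h3] at hd
      have h4 := Nat.dvd_gcd hd dvd_rfl
      rw [hj] at h4
      exact hp.out.one_lt.ne' (Nat.dvd_one.1 h4)
    · exact h3

theorem dec_insert' {S : Finset ℕ} {p : ℕ} [hp : Fact p.Prime] (g : G)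
    [Finite G] (hg : IsPiElt ((insert p S : Finset ℕ) : Set ℕ) g) :
    ∃ u v : G, Commute u v ∧ g = u * v ∧ IsPiElt (S : Set ℕ) u ∧ IsPiElt ({p} : Set ℕ) v := by
  obtain ⟨u, v, h1, h2, h3, h4⟩ := dec_insert g hg
  exact ⟨v, u, h1.symm, h2.trans h1.eq, h4, h3⟩

/-- a `p`-element is conjugate into any given Sylow `p`-subgroup -/
theorem exists_conj_mem_sylow [Finite G] {p : ℕ} [hp : Fact p.Prime] (P : Sylow p G) {u : G}
    (hu : IsPiElt ({p} : Set ℕ) u) : ∃ x ∈ (P : Subgroup G), IsConj u x := by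
  have h0 : IsPGroup p (zpowers u) := by
    have h1 : ∃ k, orderOf u = p ^ k := by
      refine ⟨(orderOf u).factorization p, ?_⟩
      apply Nat.eq_of_factorization_eq (orderOf_pos u).ne' (pow_ne_zero _ hp.out.ne_zero)
      intro q
      rw [hp.out.factorization_pow, Finsupp.single_apply]
      split_ifs with h
      · rw [h]
      · by_cases hq : q.Prime
        · apply Nat.factorization_eq_zero_of_not_dvd
          intro hd
          exact h (hu q hq hd).symm
        · exact Nat.factorization_eq_zero_of_not_prime _ hq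
    obtain ⟨k, hk⟩ := h1
    exact IsPGroup.of_card (n := k) (by rw [Nat.card_zpowers, hk])
  obtain ⟨Q, hQ⟩ := h0.exists_le_sylow
  obtain ⟨h, hh⟩ := MulAction.exists_smul_eq G Q P
  refine ⟨h * u * h⁻¹, ?_, isConj_iff.2 ⟨h, rfl⟩⟩
  rw [← hh]
  have h1 : MulAut.conj h • u ∈ (MulAut.conj h • (Q : Subgroup G)) :=
    Subgroup.smul_mem_pointwise_smul _ _ _ (hQ (mem_zpowers u))
  exact h1

theorem isPiElt_of_mem_pGroup {p : ℕ} [hp : Fact p.Prime] {P : Subgroup G} (hP : IsPGroup p P)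
    {x : G} (hx : x ∈ P) : IsPiElt ({p} : Set ℕ) x := by
  intro q hq hd
  obtain ⟨k, hk⟩ := hP ⟨x, hx⟩
  have h1 : x ^ p ^ k = 1 := by
    have := congrArg Subtype.val hk
    simpa using this
  exact (Nat.prime_dvd_prime_iff_eq hq hp.out).1
    (hq.dvd_of_dvd_pow (hd.trans (orderOf_dvd_of_pow_eq_one h1)))

theorem CC_pElts_le [Finite G] {p : ℕ} [hp : Fact p.Prime] (P : Sylow p G) :
    CC (piElts ({p} : Set ℕ) G) ≤ Nat.card P := by
  have h1 : CC (piElts ({p} : Set ℕ) G) ≤ ((P : Subgroup G) : Set G).ncard :=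
    CC_le_ncard fun u hu => exists_conj_mem_sylow P hu
  exact h1

end

end Cfsg.Agent.H24
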