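import Cfsg.Agent.H24.ClassSize
import Mathlib.GroupTheory.PGroup
import Mathlib.Data.Nat.ChineseRemainder

set_option autoImplicit false

namespace Cfsg.Agent.H24

open Subgroup
open scoped Pointwise

variable {G : Type*} [Group G]

theorem centralizer_le_centralizer_pow (x : G) (k : ℕ) :
    centralizer ({x} : Set G) ≤ centralizer ({x ^ k} : Set G) := by
  intro y hy
  rw [mem_centralizer_singleton_iff] at hy ⊢
  have : Commute y x := hy
  exact (this.pow_right k)

theorem index_centralizer_pow_dvd (x : G) (k : ℕ) :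
    (centralizer ({x ^ k} : Set G)).index ∣ (centralizer ({x} : Set G)).index :=
  Subgroup.index_dvd_of_le (centralizer_le_centralizer_pow x k)

/-- For commuting elements of coprime finite orders, `x` is a power of `x * y`. -/
theorem exists_pow_mul_eq_left {x y : G} (h : Commute x y) (hx : (orderOf x).Coprime (orderOf y)) :
    ∃ k : ℕ, (x * y) ^ k = x := by
  obtain ⟨k, hk1, hk2⟩ := Nat.chineseRemainder hx 1 0
  refine ⟨k, ?_⟩
  rw [h.mul_pow]
  have h1 : x ^ k = x := by
    conv_rhs => rw [← pow_one x]
    exact pow_eq_pow_iff_modEq.mpr hk1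
  have h2 : y ^ k = 1 := by
    rw [← pow_zero y]
    exact pow_eq_pow_iff_modEq.mpr hk2
  rw [h1, h2, mul_one]

theorem exists_pow_mul_eq_right {x y : G} (h : Commute x y) (hx : (orderOf x).Coprime (orderOf y)) :
    ∃ k : ℕ, (x * y) ^ k = y := by
  obtain ⟨k, hk⟩ := exists_pow_mul_eq_left h.symm hx.symm
  exact ⟨k, by rw [h.eq]; exact hk⟩

theorem index_centralizer_left_dvd_mul {x y : G} (h : Commute x y)
    (hx : (orderOf x).Coprime (orderOf y)) :
    (centralizer ({x} : Set G)).index ∣ (centralizer ({x * y} : Set G)).index := by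
  obtain ⟨k, hk⟩ := exists_pow_mul_eq_left h hx
  have := index_centralizer_pow_dvd (x * y) k
  rwa [hk] at this

theorem index_centralizer_right_dvd_mul {x y : G} (h : Commute x y)
    (hx : (orderOf x).Coprime (orderOf y)) :
    (centralizer ({y} : Set G)).index ∣ (centralizer ({x * y} : Set G)).index := by
  obtain ⟨k, hk⟩ := exists_pow_mul_eq_right h hx
  have := index_centralizer_pow_dvd (x * y) k
  rwa [hk] at this

/-- The centralizer of a product of commuting elements of coprime orders. -/
theorem centralizer_mul_of_coprime {x y : G} (h : Commute x y)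
    (hx : (orderOf x).Coprime (orderOf y)) :
    centralizer ({x * y} : Set G) = centralizer ({x} : Set G) ⊓ centralizer ({y} : Set G) := by
  apply le_antisymm
  · obtain ⟨k, hk⟩ := exists_pow_mul_eq_left h hx
    obtain ⟨l, hl⟩ := exists_pow_mul_eq_right h hx
    refine le_inf ?_ ?_
    · have := centralizer_le_centralizer_pow (x * y) k
      rwa [hk] at this
    · have := centralizer_le_centralizer_pow (x * y) l
      rwa [hl] at this
  · intro z hz
    rw [mem_inf, mem_centralizer_singleton_iff, mem_centralizer_singleton_iff] at hz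
    rw [mem_centralizer_singleton_iff]
    have h1 : Commute z x := hz.1
    have h2 : Commute z y := hz.2
    exact h1.mul_right h2

theorem index_centralizer_conj (g x : G) :
    (centralizer ({g * x * g⁻¹} : Set G)).index = (centralizer ({x} : Set G)).index := by
  have : centralizer ({g * x * g⁻¹} : Set G) = (centralizer ({x} : Set G)).map (MulAut.conj g).toMonoidHom := by
    ext y
    rw [mem_centralizer_singleton_iff, Subgroup.mem_map]
    constructor
    · intro hy
      refine ⟨g⁻¹ * y * g, ?_, by simp [mul_assoc]⟩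
      rw [mem_centralizer_singleton_iff]
      have : g⁻¹ * (y * (g * x * g⁻¹)) * g = g⁻¹ * (g * x * g⁻¹ * y) * g := by rw [hy]
      calc g⁻¹ * y * g * x = g⁻¹ * (y * (g * x * g⁻¹)) * g := by group
        _ = _ := this
        _ = _ := by group
    · rintro ⟨z, hz, rfl⟩
      rw [mem_centralizer_singleton_iff] at hz
      simp only [MulEquiv.coe_toMonoidHom, MulAut.conj_apply]
      calc g * z * g⁻¹ * (g * x * g⁻¹) = g * (z * x) * g⁻¹ := by group
        _ = g * (x * z) * g⁻¹ := by rw [hz]
        _ = _ := by group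
  rw [this]
  exact Subgroup.index_map_equiv _ (MulAut.conj g)

theorem card_eq_index_mul_card_centralizer (x : G) :
    Nat.card G = (centralizer ({x} : Set G)).index * Nat.card (centralizer ({x} : Set G)) := by
  rw [mul_comm]; exact (Subgroup.card_mul_index _).symm

theorem exists_ne_one_mem_sylow_centralizing [Finite G] {p : ℕ} [Fact p.Prime] (P : Sylow p G)
    (h : p ∣ Nat.card G) :
    ∃ z : G, z ∈ (P : Subgroup G) ∧ z ≠ 1 ∧ z ∈ centralizer ((P : Subgroup G) : Set G) := by
  have hne : (P : Subgroup G) ≠ ⊥ := P.ne_bot_of_dvd_card h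
  have : Nontrivial (P : Subgroup G) := (Subgroup.nontrivial_iff_ne_bot _).mpr hne
  have hc := P.isPGroup'.center_nontrivial
  obtain ⟨z, hz⟩ := exists_ne (1 : center (P : Subgroup G))
  refine ⟨(z : (P : Subgroup G)), z.1.2, ?_, ?_⟩
  · intro h0
    apply hz
    ext
    exact h0
  · rw [mem_centralizer_iff]
    intro y hy
    have := (mem_center_iff.mp z.2) ⟨y, hy⟩
    exact congrArg Subtype.val this

theorem exists_ne_one_mem_center_of_isPGroup [Finite G] {p : ℕ} [Fact p.Prime] (R : Subgroup G)
    (hR : IsPGroup p R) (h : R ≠ ⊥) :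
    ∃ z : G, z ∈ R ∧ z ≠ 1 ∧ ∀ y ∈ R, y * z = z * y := by
  have : Nontrivial R := (Subgroup.nontrivial_iff_ne_bot _).mpr h
  have hc := hR.center_nontrivial
  obtain ⟨z, hz⟩ := exists_ne (1 : center R)
  refine ⟨(z : R), z.1.2, ?_, ?_⟩
  · intro h0
    apply hz
    ext
    exact h0
  · intro y hy
    have := (mem_center_iff.mp z.2) ⟨y, hy⟩
    exact congrArg Subtype.val this

end Cfsg.Agent.H24
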