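import Mathlib
import Cfsg.Agent.H24.ClassSize3

set_option autoImplicit false

/-! # H24/ClassSize4: conjugates of an element under a subgroup -/

namespace Cfsg.Agent.H24

open Subgroup

variable {G : Type*} [Group G]

/-- the set of `N`-conjugates of `x` has `|N : C_N(x)|` elements. -/
theorem natCard_conj_subgroup (N : Subgroup G) (x : G) :
    Nat.card {g : G // ∃ n ∈ N, n * x * n⁻¹ = g} = (centralizer ({x} : Set G)).relIndex N := by
  symm
  unfold Subgroup.relIndex Subgroup.index
  refine Nat.card_congr (Equiv.ofBijective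
    (fun q => ⟨Quotient.liftOn' q (fun n : N => (n : G) * x * (n : G)⁻¹) ?_, ?_⟩) ⟨?_, ?_⟩)
  · intro a b hab
    rw [QuotientGroup.leftRel_apply, mem_subgroupOf, mem_centralizer_singleton_iff] at hab
    have hab' : ((a : G)⁻¹ * b) * x = x * ((a : G)⁻¹ * b) := hab
    show (a : G) * x * (a : G)⁻¹ = (b : G) * x * (b : G)⁻¹
    calc (a : G) * x * (a : G)⁻¹ = a * (x * ((a : G)⁻¹ * b)) * (b : G)⁻¹ := by group
      _ = a * (((a : G)⁻¹ * b) * x) * (b : G)⁻¹ := by rw [hab']
      _ = b * x * (b : G)⁻¹ := by group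
  · induction q using QuotientGroup.induction_on with
    | H n => exact ⟨n, n.2, rfl⟩
  · intro q1 q2
    induction q1 using QuotientGroup.induction_on with
    | H a =>
      induction q2 using QuotientGroup.induction_on with
      | H b =>
        intro h
        have h' : (a : G) * x * (a : G)⁻¹ = b * x * (b : G)⁻¹ := congrArg Subtype.val h
        rw [QuotientGroup.eq, mem_subgroupOf, mem_centralizer_singleton_iff]
        show ((a : G)⁻¹ * b) * x = x * ((a : G)⁻¹ * b)
        calc ((a : G)⁻¹ * b) * x = (a : G)⁻¹ * (b * x * (b : G)⁻¹) * b := by group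
          _ = (a : G)⁻¹ * (a * x * (a : G)⁻¹) * b := by rw [h']
          _ = x * ((a : G)⁻¹ * b) := by group
  · rintro ⟨g, n, hn, rfl⟩
    exact ⟨QuotientGroup.mk ⟨n, hn⟩, rfl⟩

theorem relIndex_eq_card_div {G : Type*} [Group G] [Finite G] (H N : Subgroup G) :
    H.relIndex N = Nat.card N / Nat.card ↥(N ⊓ H) := by
  have h1 : Nat.card ↥(H.subgroupOf N) * H.relIndex N = Nat.card N := Subgroup.card_mul_index _
  have h2 : Nat.card ↥(H.subgroupOf N) = Nat.card ↥(N ⊓ H) := by
    rw [← Subgroup.inf_subgroupOf_left]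
    exact Nat.card_congr (Subgroup.subgroupOfEquivOfLe inf_le_left).toEquiv
  rw [← h1, h2, Nat.mul_div_cancel_left _ Nat.card_pos]

end Cfsg.Agent.H24
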