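import Mathlib
import Cfsg.Agent.H24.Decomp

set_option autoImplicit false

/-! # H24/DirectFactor: `P C(P) = G` implies the Sylow subgroup `P` is a direct factor -/

namespace Cfsg.Agent.H24

open Subgroup
open scoped Pointwise

/-- if `P ⊔ C(P) = ⊤` for a Sylow subgroup then `P` is a direct factor. -/
theorem direct_factor_of_sup_centralizer {G : Type*} [Group G] [Finite G] {p : ℕ} [Fact p.Prime]
    (P : Sylow p G)
    (htop : (P : Subgroup G) ⊔ centralizer ((P : Subgroup G) : Set G) = ⊤) :
    (P : Subgroup G).Normal ∧ ∃ H : Subgroup G, H.Normal ∧ ¬ p ∣ Nat.card H ∧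
      (P : Subgroup G) ⊓ H = ⊥ ∧ (P : Subgroup G) ⊔ H = ⊤ ∧
      H ≤ centralizer ((P : Subgroup G) : Set G) := by
  set C : Subgroup G := Subgroup.centralizer ((P : Subgroup G) : Set G) with hC
  have hPn : (P : Subgroup G).Normal := by
    rw [← Subgroup.normalizer_eq_top_iff, eq_top_iff, ← htop]
    apply sup_le Subgroup.le_normalizer
    exact Subgroup.centralizer_le_normalizer _
  have hCn : C.Normal := by
    rw [hC]; infer_instance
  refine ⟨hPn, ?_⟩
  have hcop : (Nat.card (P : Subgroup G)).Coprime (P : Subgroup G).index := P.card_coprime_index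
  obtain ⟨H, hH⟩ := Subgroup.exists_right_complement'_of_coprime hcop
  have hHc : Nat.card H = (P : Subgroup G).index := by
    have h1 := hH.card_mul
    have h2 := Subgroup.card_mul_index (P : Subgroup G)
    rw [← h2] at h1
    exact Nat.eq_of_mul_eq_mul_left Nat.card_pos h1
  have hHp : ¬ p ∣ Nat.card H := by rw [hHc]; exact P.not_dvd_index
  have hHC : H ≤ C := by
    intro x hx
    have h1 : orderOf (QuotientGroup.mk x : G ⧸ C) ∣ Nat.card H :=
      (orderOf_map_dvd (QuotientGroup.mk' C) x).trans (Subgroup.orderOf_dvd_natCard H hx)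
    have h2 : orderOf (QuotientGroup.mk x : G ⧸ C) ∣ Nat.card (P : Subgroup G) := by
      refine (_root_.orderOf_dvd_natCard _).trans ?_
      show C.index ∣ _
      rw [← Subgroup.relIndex_top_right, ← htop, Subgroup.relIndex_sup_right]
      exact Subgroup.relIndex_dvd_card _ _
    have h3 : orderOf (QuotientGroup.mk x : G ⧸ C) = 1 := by
      apply Nat.eq_one_of_dvd_coprimes _ h1 h2
      rw [hHc]; exact hcop.symm
    rw [orderOf_eq_one_iff, QuotientGroup.eq_one_iff] at h3
    exact h3
  refine ⟨H, ?_, hHp, hH.disjoint.eq_bot, hH.sup_eq_top, hHC⟩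
  rw [← Subgroup.normalizer_eq_top_iff, eq_top_iff, ← hH.sup_eq_top]
  refine sup_le ?_ Subgroup.le_normalizer
  intro y hy
  rw [Subgroup.mem_normalizer_iff]
  have h1 : ∀ z ∈ H, y * z * y⁻¹ = z := by
    intro z hz
    have h2 := Subgroup.mem_centralizer_iff.1 (hHC hz) y hy
    rw [h2]; group
  intro z
  constructor
  · intro hz; rw [h1 z hz]; exact hz
  · intro hz
    have h2 := h1 _ hz
    have h3 : y * z * y⁻¹ = z := mul_left_cancel (mul_right_cancel h2)
    rwa [h3] at hz

/-- if every `q`-element (`q ≠ p`) centralizes `P` then `P ⊔ C(P) = ⊤`. -/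
theorem sup_centralizer_eq_top {G : Type*} [Group G] [Finite G] {p : ℕ} [Fact p.Prime]
    (P : Sylow p G)
    (h : ∀ y : G, (∃ q b : ℕ, q.Prime ∧ q ≠ p ∧ orderOf y = q ^ b) →
      y ∈ centralizer ((P : Subgroup G) : Set G)) :
    (P : Subgroup G) ⊔ centralizer ((P : Subgroup G) : Set G) = ⊤ := by
  set K := (P : Subgroup G) ⊔ centralizer ((P : Subgroup G) : Set G) with hK
  rw [← Subgroup.index_eq_one]
  by_contra hne
  obtain ⟨q, hq, hqd⟩ := Nat.exists_prime_and_dvd hne
  have hfq : Fact q.Prime := ⟨hq⟩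
  by_cases hqp : q = p
  · subst hqp
    exact P.not_dvd_index (hqd.trans (Subgroup.index_dvd_of_le le_sup_left))
  · obtain ⟨Q⟩ : Nonempty (Sylow q G) := inferInstance
    have hQ : (Q : Subgroup G) ≤ K := by
      intro y hy
      apply mem_sup_right
      obtain ⟨k, hk⟩ := exists_orderOf_eq_pow_of_mem Q.isPGroup' hy
      exact h y ⟨q, k, hq, hqp, hk⟩
    exact Q.not_dvd_index (hqd.trans (Subgroup.index_dvd_of_le hQ))

/-- index of the intersection of two subgroups of coprime index. -/
theorem index_inf_eq_mul_of_coprime {G : Type*} [Group G] [Finite G] {H K : Subgroup G}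
    (h : H.index.Coprime K.index) : (H ⊓ K).index = H.index * K.index := by
  have h1 : H.index ∣ (H ⊓ K).index := Subgroup.index_dvd_of_le inf_le_left
  have h2 : K.index ∣ (H ⊓ K).index := Subgroup.index_dvd_of_le inf_le_right
  have h3 : H.index * K.index ∣ (H ⊓ K).index := Nat.Coprime.mul_dvd_of_dvd_of_dvd h h1 h2
  have h4 : (H ⊓ K).index ≤ H.index * K.index := Subgroup.index_inf_le
  have hpos : 0 < (H ⊓ K).index := Nat.pos_of_ne_zero Subgroup.index_ne_zero_of_finite
  exact le_antisymm h4 (Nat.le_of_dvd hpos h3)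

/-- membership in a Sylow subgroup that is normal -/
theorem mem_of_normal_sylow {G : Type*} [Group G] [Finite G] {p : ℕ} [Fact p.Prime]
    (P : Sylow p G) (hP : (P : Subgroup G).Normal) {x : G} (hx : ∃ k : ℕ, orderOf x = p ^ k) :
    x ∈ (P : Subgroup G) := by
  obtain ⟨R, hR⟩ := (isPGroup_zpowers_of_orderOf hx).exists_le_sylow
  have : R = P := by
    have := Sylow.unique_of_normal P hP
    exact Subsingleton.elim _ _
  rw [this] at hR
  exact hR (mem_zpowers x)

end Cfsg.Agent.H24
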