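import Mathlib
import Cfsg.Agent.H1.Cores
import Cfsg.Agent.H25.Primary
import Cfsg.Agent.H24.Decomp

set_option autoImplicit false

/-! # H24/Engel: groups in which every element commutes with its conjugates are nilpotent;
small index lemmas -/

namespace Cfsg.Agent.H24

open Subgroup

/-- if every element commutes with all its conjugates the finite group is nilpotent. -/
theorem isNilpotent_of_commute_conj {K : Type*} [Group K] [Finite K]
    (h : ∀ x g : K, Commute (g * x * g⁻¹) x) : Group.IsNilpotent K := by
  have key : ∀ x : K, x ∈ Cfsg.fittingSubgroup K := by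
    intro x
    have hN : (normalClosure ({x} : Set K)).Normal := normalClosure_normal
    have hcomm : ∀ a ∈ normalClosure ({x} : Set K), ∀ b ∈ normalClosure ({x} : Set K),
        a * b = b * a := by
      have h1 : normalClosure ({x} : Set K) ≤
          centralizer (normalClosure ({x} : Set K) : Set K) := by
        have hcn : (centralizer (normalClosure ({x} : Set K) : Set K)).Normal := inferInstance
        apply normalClosure_le_normal
        rw [Set.singleton_subset_iff, SetLike.mem_coe, mem_centralizer_iff]
        intro b hb
        -- `b` in the closure of conjugates of `x`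
        have h2 : normalClosure ({x} : Set K) ≤ centralizer ({x} : Set K) := by
          unfold normalClosure
          rw [closure_le]
          intro y hy
          rw [Group.mem_conjugatesOfSet_iff] at hy
          obtain ⟨a, ha, hay⟩ := hy
          rw [Set.mem_singleton_iff] at ha
          subst ha
          obtain ⟨g, hg⟩ := isConj_iff.1 hay
          rw [SetLike.mem_coe, mem_centralizer_singleton_iff, ← hg]
          exact h a g
        exact mem_centralizer_singleton_iff.1 (h2 hb)
      intro a ha b hb
      exact (mem_centralizer_iff.1 (h1 ha) b hb).symm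
    have hnil : Group.IsNilpotent (normalClosure ({x} : Set K)) :=
      Cfsg.Agent.H25.nilpotent_of_comm (fun a b => Subtype.ext (hcomm a a.2 b b.2))
    exact Cfsg.Agent.H1.le_fitting hN hnil (subset_normalClosure rfl)
  have h1 := Cfsg.Agent.H1.fitting_isNilpotent K
  have h2 : Cfsg.fittingSubgroup K = ⊤ := eq_top_iff.2 (fun x _ => key x)
  rw [h2] at h1
  exact (Group.isNilpotent_congr (Subgroup.topEquiv (G := K))).1 h1

/-- `y ^ |N : C| ∈ C` for `C` normalized by `N`. -/
theorem pow_relIndex_mem {G : Type*} [Group G] {C N : Subgroup G}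
    (hn : (C.subgroupOf N).Normal) {y : G} (hy : y ∈ N) : y ^ C.relIndex N ∈ C := by
  have h1 : ((QuotientGroup.mk (⟨y, hy⟩ : N) : N ⧸ C.subgroupOf N)) ^ C.relIndex N = 1 := by
    have := pow_card_eq_one' (x := (QuotientGroup.mk (⟨y, hy⟩ : N) : N ⧸ C.subgroupOf N))
    exact this
  rw [← QuotientGroup.mk_pow, QuotientGroup.eq_one_iff] at h1
  exact h1

/-- a `p`-element normalizing `C`, where `C` contains a Sylow `p`-subgroup of `G`, is in `C`. -/
theorem mem_of_normalizer_of_sylow_le {G : Type*} [Group G] [Finite G] {p : ℕ} [Fact p.Prime]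
    (P : Sylow p G) (C : Subgroup G) (hPC : (P : Subgroup G) ≤ C) {y : G}
    (hy : y ∈ normalizer (C : Set G)) (hyp : ∃ k : ℕ, orderOf y = p ^ k) : y ∈ C := by
  have hp := Fact.out (p := p.Prime)
  have hn : (C.subgroupOf (normalizer (C : Set G))).Normal := normal_in_normalizer
  have h1 := pow_relIndex_mem hn hy
  refine Cfsg.Agent.H25.mem_of_pow_mem ?_ h1
  obtain ⟨k, hk⟩ := hyp
  rw [hk]
  apply Nat.Coprime.pow_right
  rw [Nat.coprime_comm, Nat.Prime.coprime_iff_not_dvd hp]
  intro hd
  have h2 : C.relIndex (normalizer (C : Set G)) ∣ (P : Subgroup G).index := by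
    refine Dvd.dvd.trans ?_ (Subgroup.index_dvd_of_le hPC)
    exact Subgroup.relIndex_dvd_index_of_le le_normalizer
  exact P.not_dvd_index (hd.trans h2)

end Cfsg.Agent.H24
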