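import Cfsg.Agent.FT
import Cfsg.Agent.H2.NComp

set_option autoImplicit false

/-!
Easy consequences of the odd order theorem (helper24).
-/

namespace Cfsg.Agent.H24

open Cfsg Subgroup

universe u

variable {G : Type u} [Group G]

/-- A group of odd order is solvable. -/
theorem solvable_of_not_two_dvd [Finite G] (h : ¬ 2 ∣ Nat.card G) : Group.IsSolvable G :=
  Cfsg.Agent.FT.odd_order (by rwa [Nat.odd_iff, ← Nat.two_dvd_ne_zero])

/-- A group with a normal `2`-complement is solvable. -/
theorem solvable_of_hasNormalTwoComplement [Finite G] (h : HasNormalPComplement 2 G) :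
    Group.IsSolvable G := by
  haveI : Fact (Nat.Prime 2) := ⟨Nat.prime_two⟩
  obtain ⟨K, hK, hKp, k, hk⟩ := H2.hasNormalPComplement_iff.1 h
  haveI := hK
  haveI h2 : Group.IsSolvable K := solvable_of_not_two_dvd hKp
  haveI h3 : Group.IsSolvable (G ⧸ K) := by
    have h4 : IsPGroup 2 (G ⧸ K) := IsPGroup.of_card (by rw [← Subgroup.index_eq_card]; exact hk)
    haveI : Group.IsNilpotent (G ⧸ K) := h4.isNilpotent
    infer_instance
  exact Group.isSolvable_of_ker_le_range K.subtype (QuotientGroup.mk' K) (by simp)

end Cfsg.Agent.H24
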