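import Mathlib

set_option autoImplicit false

/-! # H24/Friend: regular friendship graphs of degree `> 2` do not exist -/

namespace Cfsg.Agent.H24

open Finset Matrix

theorem no_regular_friendship {V : Type*} [Fintype V] [DecidableEq V] [Nonempty V]
    (adj : V → V → Prop) [DecidableRel adj] (hirr : ∀ v, ¬ adj v v) (hsymm : ∀ u v, adj u v → adj v u)
    {c : ℕ} (hc : 2 < c) (hdeg : ∀ u, (univ.filter (fun w => adj u w)).card = c)
    (huniq : ∀ u v, u ≠ v → (univ.filter (fun w => adj u w ∧ adj w v)).card = 1) : False := by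
  classical
  obtain ⟨r, hr, hrc⟩ := Nat.exists_prime_and_dvd (n := c - 1) (by omega)
  haveI : Fact r.Prime := ⟨hr⟩
  have hc1 : (c : ZMod r) = 1 := by
    have h1 : ((c - 1 : ℕ) : ZMod r) = 0 := (ZMod.natCast_eq_zero_iff _ _).2 hrc
    rw [Nat.cast_sub (by omega), Nat.cast_one, sub_eq_zero] at h1
    exact h1
  let M : Matrix V V (ZMod r) := Matrix.of (fun u v => if adj u v then 1 else 0)
  let J : Matrix V V (ZMod r) := Matrix.of (fun _ _ => 1)
  have hM : ∀ u v, M u v = if adj u v then 1 else 0 := fun u v => rfl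
  have hrow : ∀ u, ∑ v, M u v = 1 := by
    intro u
    simp only [hM]
    rw [Finset.sum_boole, hdeg, hc1]
  have hMM : M * M = J := by
    ext u v
    rw [Matrix.mul_apply]
    show _ = (1 : ZMod r)
    have h1 : ∀ w, M u w * M w v = if (adj u w ∧ adj w v) then 1 else 0 := by
      intro w
      rw [hM, hM]
      by_cases h1 : adj u w <;> by_cases h2 : adj w v <;> simp [h1, h2]
    simp only [h1]
    rw [Finset.sum_boole]
    by_cases huv : u = v
    · subst huv
      have h2 : (univ.filter (fun w => adj u w ∧ adj w u)) = univ.filter (fun w => adj u w) := by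
        ext w
        simp only [mem_filter, mem_univ, true_and]
        exact ⟨fun h => h.1, fun h => ⟨h, hsymm _ _ h⟩⟩
      rw [h2, hdeg, hc1]
    · rw [huniq u v huv, Nat.cast_one]
  have hMJ : M * J = J := by
    ext u v
    rw [Matrix.mul_apply]
    show _ = (1 : ZMod r)
    have h1 : ∀ w, M u w * J w v = M u w := fun w => mul_one _
    simp only [h1]
    exact hrow u
  have hcard : ((Fintype.card V : ℕ) : ZMod r) = 1 := by
    obtain ⟨u⟩ := (inferInstance : Nonempty V)
    have h1 : ∑ v, (M * M) u v = 1 := by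
      have h2 : ∀ v, (M * M) u v = ∑ w, M u w * M w v := fun v => Matrix.mul_apply
      simp only [h2]
      rw [Finset.sum_comm]
      have h3 : ∀ w, ∑ v, M u w * M w v = M u w := by
        intro w
        rw [← Finset.mul_sum, hrow, mul_one]
      simp only [h3]
      exact hrow u
    rw [hMM] at h1
    have h4 : ∑ v : V, J u v = (Fintype.card V : ZMod r) := by
      show ∑ v : V, (1 : ZMod r) = _
      rw [Finset.sum_const, Finset.card_univ, nsmul_eq_mul, mul_one]
    rw [← h4]; exact h1
  have hpow : ∀ k : ℕ, M ^ (k + 2) = J := by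
    intro k
    induction k with
    | zero => rw [zero_add, pow_two, hMM]
    | succ k ih =>
      have : k + 1 + 2 = (k + 2) + 1 := by ring
      rw [this, pow_succ', ih, hMJ]
  have htr := ZMod.trace_pow_card (p := r) M
  have hpow' : ∀ n : ℕ, 2 ≤ n → M ^ n = J := by
    intro n hn
    obtain ⟨k, rfl⟩ := Nat.exists_eq_add_of_le' hn
    exact hpow k
  have h1 : Matrix.trace (M ^ r) = 1 := by
    have h2 : M ^ r = J := hpow' r hr.two_le
    rw [h2]
    show ∑ v : V, (1 : ZMod r) = 1
    rw [Finset.sum_const, Finset.card_univ, nsmul_eq_mul, mul_one, hcard]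
  have h2 : Matrix.trace M = 0 := by
    show ∑ v : V, M v v = 0
    apply Finset.sum_eq_zero
    intro v _
    rw [hM, if_neg (hirr v)]
  rw [h1, h2, zero_pow hr.ne_zero] at htr
  exact one_ne_zero htr

end Cfsg.Agent.H24
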