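import Cfsg.Agent.H11.Weak
import Cfsg.Agent.H27.DefZero
import Cfsg.Agent.H27.Burnside
import Cfsg.Agent.H27.Kernel
import Cfsg.Agent.H27.PMod
import Cfsg.Agent.H3.BurnsidePQ
import Cfsg.Agent.H3.Burnside

set_option autoImplicit false

/-!
Kazarin's theorem: the key step, via the principal block for a third prime (helper24).
-/

namespace Cfsg.Agent.H24

open Cfsg Cfsg.Agent.H11 Subgroup
open scoped ComplexConjugate

variable {G : Type*} [Group G]

/-- If an irreducible character has maximal norm at `x`, and `G = N ⟨x⟩` with `N` minimal normal,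
then `x` centralizes `N`, or the character is linear and trivial on `N`. -/
theorem central_or_linear [Fintype G] (N : Subgroup G) [N.Normal]
    (hmin : ∀ K : Subgroup G, K.Normal → K ≤ N → K = ⊥ ∨ K = N) (x : G)
    (hgen : N ⊔ zpowers x = ⊤) (χ : IrrCharacter G)
    (hχ : ‖(χ : G → ℂ) x‖ = charDegree (χ : G → ℂ)) :
    x ∈ centralizer (N : Set G) ∨
      (∃ μ : G →* ℂˣ, (∀ g, (χ : G → ℂ) g = (μ g : ℂ)) ∧ ∀ g ∈ N, μ g = 1) := by
  obtain ⟨χ, n, ρ, hρ, rfl⟩ := χ
  simp only at hχ ⊢
  have hirr : IsIrrCharacter G ρ.character := ⟨n, ρ, hρ, rfl⟩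
  have hch : IsCharacter G ρ.character := ⟨n, ρ, rfl⟩
  have hdeg : (charDegree ρ.character : ℂ) = n := by
    rw [H27.charDegree_cast hch]; simp
  have hdeg' : charDegree ρ.character = n := by exact_mod_cast hdeg
  have hfr : Module.finrank ℂ (Fin n → ℂ) = n := by simp
  have hxs : x ∈ H3.scalarSubgroup ρ := by
    rw [H3.mem_scalarSubgroup]
    exact (H3.rep_norm_eq_iff_scalar ρ x).1 (by rw [hχ, hdeg', hfr])
  have hK : ((MonoidHom.ker ρ) ⊓ N).Normal := inferInstance
  rcases hmin _ hK inf_le_right with h | h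
  · left
    rw [mem_centralizer_iff]
    intro m hm
    have h1 := H3.commutator_scalar ρ m x ((H3.mem_scalarSubgroup ρ x).1 hxs)
    have h2 : (m * x) * (x * m)⁻¹ ∈ (MonoidHom.ker ρ) ⊓ N := by
      refine mem_inf.2 ⟨?_, ?_⟩
      · rw [MonoidHom.mem_ker, map_mul, h1, ← map_mul, mul_inv_cancel, map_one]
      · have : (m * x) * (x * m)⁻¹ = m * (x * m⁻¹ * x⁻¹) := by group
        rw [this]
        exact N.mul_mem hm ((inferInstance : N.Normal).conj_mem _ (N.inv_mem hm) x)
    rw [h, mem_bot, mul_inv_eq_one] at h2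
    exact h2
  · right
    have hN : N ≤ MonoidHom.ker ρ := by rw [← h]; exact inf_le_left
    have hNs : N ≤ H3.scalarSubgroup ρ := by
      intro g hg
      rw [H3.mem_scalarSubgroup]
      refine ⟨1, ?_⟩
      rw [(MonoidHom.mem_ker).1 (hN hg)]; ext v; simp
    have htop : ∀ g, g ∈ H3.scalarSubgroup ρ := by
      intro g
      have : (⊤ : Subgroup G) ≤ H3.scalarSubgroup ρ := by
        rw [← hgen]; exact sup_le hNs (by rwa [zpowers_le])
      exact this (mem_top g)
    have hnorm : ∀ g, ‖ρ.character g‖ = (n : ℝ) := by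
      intro g
      have := (H3.rep_norm_eq_iff_scalar ρ g).2 ((H3.mem_scalarSubgroup ρ g).1 (htop g))
      rw [this, hfr]
    have hinner := H3.classInner_self_of_irr hirr
    have hn1 : (n : ℂ) ^ 2 = 1 := by
      have h1 : ∀ g, ρ.character g * conj (ρ.character g) = (n : ℂ) ^ 2 := by
        intro g
        rw [Complex.mul_conj, Complex.normSq_eq_norm_sq, hnorm g]
        push_cast; rfl
      rw [classInner, Finset.sum_congr rfl (fun g _ => h1 g), Finset.sum_const, Finset.card_univ,
        nsmul_eq_mul, ← Nat.card_eq_fintype_card, ← mul_assoc, inv_mul_cancel₀ H3.card_ne_zeroC,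
        one_mul] at hinner
      exact hinner
    have hn : n = 1 := by
      have : n ^ 2 = 1 := by exact_mod_cast hn1
      nlinarith
    have hone : ρ.character 1 = 1 := by
      rw [Representation.char_one, hfr, hn]; simp
    obtain ⟨μ, hμ⟩ := H27.exists_hom_of_one hch hone
    refine ⟨μ, hμ, fun g hg => ?_⟩
    have h1 : ρ.character g = ρ.character 1 := by
      have h0 : ρ g = ρ 1 := by rw [(MonoidHom.mem_ker).1 (hN hg), map_one ρ]
      rw [Representation.character, Representation.character, h0]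
    rw [hμ, hμ] at h1
    have h2 : (μ g : ℂ) = ((1 : ℂˣ) : ℂ) := by rw [h1, map_one]
    exact_mod_cast h2

/-- a root of unity of order a power of `r` congruent to one modulo `M` above `s ≠ r`. -/
theorem root_eq_one_of_congr {s r a : ℕ} {M : Ideal AlgInt} (hM : IsPModular s M)
    (hr : r.Prime) (hsr : s ≠ r) {z : ℂ} (hz : z ^ (r ^ a) = 1)
    (hc : MemLocalIdeal M (1 - z)) : z = 1 := by
  have hpr := hM.2.1.isPrime
  by_contra hne
  have hpos : 0 < r ^ a := pow_pos hr.pos a
  have hint : IsIntegral ℤ z := by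
    refine ⟨Polynomial.X ^ (r ^ a) - 1, Polynomial.monic_X_pow_sub_C _ hpos.ne', ?_⟩
    simp [hz]
  let Z : AlgInt := ⟨z, hint⟩
  have hZ : (1 : AlgInt) - Z ∈ M := by
    have := li_coe_iff (M := M) (a := 1 - Z)
    apply this.1
    push_cast
    exact hc
  have hsum : ∑ i ∈ Finset.range (r ^ a), z ^ i = 0 := by
    have := mul_geom_sum z (r ^ a)
    rw [hz, sub_self] at this
    exact (mul_eq_zero.1 this).resolve_left (sub_ne_zero.2 hne)
  have hsumZ : ∑ i ∈ Finset.range (r ^ a), Z ^ i = 0 := by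
    apply Subtype.ext
    push_cast
    exact hsum
  have hmk : Ideal.Quotient.mk M Z = 1 := by
    have := (Ideal.Quotient.eq (I := M) (x := 1) (y := Z)).2 hZ
    rw [map_one] at this
    exact this.symm
  have h1 : Ideal.Quotient.mk M ((r ^ a : ℕ) : AlgInt) = 0 := by
    have h2 := congrArg (Ideal.Quotient.mk M) hsumZ
    rw [map_sum, map_zero] at h2
    simp only [map_pow, hmk, one_pow, Finset.sum_const, Finset.card_range, nsmul_eq_mul, mul_one]
      at h2
    rw [map_natCast]
    exact h2
  rw [Ideal.Quotient.eq_zero_iff_mem] at h1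
  have h3 : ((s : ℕ) : AlgInt) ∈ M := hM.2.2
  have hcop : Nat.Coprime (r ^ a) s :=
    Nat.Coprime.pow_left a ((Nat.coprime_primes hr hM.1).2 (Ne.symm hsr))
  have hbez := (Nat.isCoprime_iff_coprime.2 hcop)
  obtain ⟨u, v, huv⟩ := hbez
  have h4 : (1 : AlgInt) ∈ M := by
    have : (1 : AlgInt) = (u : AlgInt) * ((r ^ a : ℕ) : AlgInt) + (v : AlgInt) * ((s : ℕ) : AlgInt) := by
      have := congrArg (fun t : ℤ => (t : AlgInt)) huv
      push_cast at this ⊢
      exact this.symm
    rw [this]
    exact M.add_mem (M.mul_mem_left _ h1) (M.mul_mem_left _ h3)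
  exact hpr.ne_top ((Ideal.eq_top_iff_one M).2 h4)

theorem not_mem_pow_prime {s p k : ℕ} {M : Ideal AlgInt} (hM : IsPModular s M)
    (hp : p.Prime) (hsp : s ≠ p) : ¬ MemLocalIdeal M ((p : ℂ) ^ k) := by
  have hpr := hM.2.1.isPrime
  intro h
  have h1 : ((p ^ k : ℕ) : AlgInt) ∈ M := by
    have := li_coe_iff (M := M) (a := ((p ^ k : ℕ) : AlgInt))
    apply this.1
    push_cast
    exact h
  have h3 : ((s : ℕ) : AlgInt) ∈ M := hM.2.2
  have hcop : Nat.Coprime (p ^ k) s :=
    Nat.Coprime.pow_left k ((Nat.coprime_primes hp hM.1).2 (Ne.symm hsp))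
  obtain ⟨u, v, huv⟩ := (Nat.isCoprime_iff_coprime.2 hcop)
  have h4 : (1 : AlgInt) ∈ M := by
    have : (1 : AlgInt) = (u : AlgInt) * ((p ^ k : ℕ) : AlgInt) + (v : AlgInt) * ((s : ℕ) : AlgInt) := by
      have := congrArg (fun t : ℤ => (t : AlgInt)) huv
      push_cast at this ⊢
      exact this.symm
    rw [this]
    exact M.add_mem (M.mul_mem_left _ h1) (M.mul_mem_left _ h3)
  exact hpr.ne_top ((Ideal.eq_top_iff_one M).2 h4)

/-- The key step. -/
theorem mem_centralizer_of_principal_block [Finite G] {p r s k a : ℕ} (hp : p.Prime)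
    (hr : r.Prime) (hs : s.Prime) (hsp : s ≠ p) (hsr : s ≠ r) (N : Subgroup G) [N.Normal]
    (hmin : ∀ K : Subgroup G, K.Normal → K ≤ N → K = ⊥ ∨ K = N) (hsN : s ∣ Nat.card G)
    (x : G) (hx : orderOf x = r ^ a) (hidx : (centralizer ({x} : Set G)).index = p ^ k)
    (hgen : N ⊔ zpowers x = ⊤) : x ∈ centralizer (N : Set G) := by
  classical
  haveI := Fintype.ofFinite G
  haveI := Fintype.ofFinite (IrrCharacter G)
  by_contra hcon
  obtain ⟨M, hM⟩ := H27.exists_isPModular hs
  have hpr := hM.2.1.isPrime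
  -- nonprincipal characters of the principal block have degree divisible by `p`
  have key : ∀ χ ∈ principalBlock M G, χ ≠ H27.oneIrr G → p ∣ charDegree (χ : G → ℂ) := by
    intro χ hχ hne
    by_contra hpd
    have hchar := H27.isIrr_isCharacter χ.2
    have hcong : MemLocalIdeal M (centralChar (fun _ : G => (1 : ℂ)) x - centralChar (χ : G → ℂ) x) :=
      hχ x
    have hc1 : centralChar (fun _ : G => (1 : ℂ)) x = (p : ℂ) ^ k := by
      simp [centralChar, hidx]
    rw [hc1] at hcong
    have hx0 : (χ : G → ℂ) x ≠ 0 := by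
      intro h0
      have : centralChar (χ : G → ℂ) x = 0 := by simp [centralChar, h0]
      rw [this, sub_zero] at hcong
      exact not_mem_pow_prime hM hp hsp hcong
    have hnorm : ‖(χ : G → ℂ) x‖ = charDegree (χ : G → ℂ) := by
      refine (H27.irr_coprime_class χ.2 x ?_).resolve_left hx0
      rw [hidx]
      exact Nat.Coprime.pow_right k ((hp.coprime_iff_not_dvd.2 hpd).symm)
    rcases central_or_linear N hmin x hgen χ hnorm with h | ⟨μ, hμ, hμN⟩
    · exact hcon h
    · have hzx : ((μ x : ℂˣ) : ℂ) ^ (r ^ a) = 1 := by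
        have : (μ x) ^ (r ^ a) = 1 := by rw [← map_pow, ← hx, pow_orderOf_eq_one, map_one]
        rw [← Units.val_pow_eq_pow_val, this, Units.val_one]
      have hcx : centralChar (χ : G → ℂ) x = (p : ℂ) ^ k * (μ x : ℂ) := by
        simp [centralChar, hidx, hμ]
      rw [hcx] at hcong
      have hint : IsIntegral ℤ ((μ x : ℂˣ) : ℂ) := by
        rw [← hμ]; exact H27.isCharacter_isIntegral hchar x
      have h1 : MemLocalIdeal M (1 - (μ x : ℂ)) := by
        have h2 : (p : ℂ) ^ k - (p : ℂ) ^ k * (μ x : ℂ) = (p : ℂ) ^ k * (1 - (μ x : ℂ)) := by ring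
        rw [h2] at hcong
        let Z : AlgInt := ⟨_, hint⟩
        have h3 : ((p ^ k : ℕ) : AlgInt) * (1 - Z) ∈ M := by
          apply (li_coe_iff (M := M)).1
          push_cast
          exact hcong
        rcases hpr.mem_or_mem h3 with h4 | h4
        · exfalso
          apply not_mem_pow_prime (k := k) hM hp hsp
          have := (li_coe_iff (M := M)).2 h4
          push_cast at this
          exact this
        · have := (li_coe_iff (M := M)).2 h4
          push_cast at this
          exact this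
      have h5 := root_eq_one_of_congr hM hr hsr hzx h1
      apply hne
      apply Subtype.ext
      funext g
      rw [hμ, H27.oneIrr_apply]
      have h6 : (⊤ : Subgroup G) ≤ μ.ker := by
        rw [← hgen, sup_le_iff, zpowers_le]
        refine ⟨fun g hg => hμN g hg, ?_⟩
        rw [MonoidHom.mem_ker]
        exact Units.ext h5
      have h7 := (MonoidHom.mem_ker).1 (h6 (mem_top g))
      rw [h7]; simp
  -- an element of order `s`
  haveI : Fact s.Prime := ⟨hs⟩
  obtain ⟨y, hy⟩ := exists_prime_orderOf_dvd_card' s hsN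
  have horth := weak_block_orthogonality hM (H27.isPBlock_principal (M := M) (G := G)) 1 y
    (by rw [orderOf_one]; exact hs.one_lt.ne' ∘ Nat.dvd_one.1) (by rw [hy])
  -- split off the principal character
  have hmem := H27.oneIrr_mem (M := M) (G := G)
  rw [finsum_mem_eq_finite_toFinset_sum _ (Set.toFinite _)] at horth
  rw [← Finset.add_sum_erase _ _ ((Set.Finite.mem_toFinset _).2 hmem)] at horth
  have h1 : ((H27.oneIrr G : IrrCharacter G) : G → ℂ) 1 *
      conj (((H27.oneIrr G : IrrCharacter G) : G → ℂ) y) = 1 := by simp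
  rw [h1] at horth
  -- divisibility
  have hdiv : ∃ z : ℂ, IsIntegral ℤ z ∧
      ∑ χ ∈ ((Set.toFinite (principalBlock M G)).toFinset).erase (H27.oneIrr G),
        ((χ : G → ℂ) 1 * conj ((χ : G → ℂ) y)) = p * z := by
    refine ⟨∑ χ ∈ ((Set.toFinite (principalBlock M G)).toFinset).erase (H27.oneIrr G),
      (((charDegree (χ : G → ℂ) / p : ℕ) : ℂ) * conj ((χ : G → ℂ) y)), ?_, ?_⟩
    · refine IsIntegral.sum _ fun χ _ => ?_
      refine IsIntegral.mul ?_ ?_
      · generalize charDegree (χ : G → ℂ) / p = c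
        have h0 := isIntegral_algebraMap (R := ℤ) (A := ℂ) (x := (c : ℤ))
        simpa using h0
      · have := H27.isCharacter_isIntegral (H27.isIrr_isCharacter χ.2) y
        exact this.map (Complex.conjAe.toAlgHom.restrictScalars ℤ)
    · rw [Finset.mul_sum]
      refine Finset.sum_congr rfl fun χ hχ => ?_
      rw [Finset.mem_erase, Set.Finite.mem_toFinset] at hχ
      obtain ⟨m, hm⟩ := key χ hχ.2 hχ.1
      rw [← H27.charDegree_cast (H27.isIrr_isCharacter χ.2), hm, Nat.mul_div_cancel_left _ hp.pos]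
      push_cast; ring
  obtain ⟨z, hz, hzs⟩ := hdiv
  rw [hzs] at horth
  -- `1 = - p z`
  have hpz : z = ((-1 / p : ℚ) : ℂ) := by
    have hp0 : (p : ℂ) ≠ 0 := by exact_mod_cast hp.ne_zero
    push_cast
    field_simp
    linear_combination horth
  have hq : IsIntegral ℤ ((-1 / p : ℚ)) := by
    rw [hpz] at hz
    exact (isIntegral_algebraMap_iff (algebraMap ℚ ℂ).injective).1 hz
  obtain ⟨m, hm⟩ := IsIntegrallyClosed.isIntegral_iff.1 hq
  have hp0 : (p : ℚ) ≠ 0 := by exact_mod_cast hp.ne_zero
  have hm2 : (m : ℚ) * p = -1 := by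
    have : (m : ℚ) = -1 / p := by simpa using hm
    rw [this]; field_simp
  have hm3 : m * (p : ℤ) = -1 := by exact_mod_cast hm2
  have : (p : ℤ) ∣ 1 := ⟨-m, by linarith⟩
  have h2 : p ∣ 1 := by exact_mod_cast this
  exact hp.one_lt.ne' (Nat.dvd_one.1 h2)

end Cfsg.Agent.H24
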