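import Cfsg.Agent.H1.MinNonNil
import Cfsg.Agent.H2.CoprimeAb
import Cfsg.Agent.H24.MaxNil
import Cfsg.Agent.H24.NormZ
import Mathlib

/-!
# Groups whose nonabelian subgroups are self-normalizing (helper24)
-/

set_option autoImplicit false

open Subgroup
open scoped commutatorElement

namespace Cfsg.Agent.H24

variable {G : Type*} [Group G]

theorem isMulCommutative_iff_forall {H : Subgroup G} :
    IsMulCommutative H ↔ ∀ a ∈ H, ∀ b ∈ H, a * b = b * a := by
  constructor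
  · intro h a ha b hb
    exact congrArg Subtype.val (h.is_comm.comm ⟨a, ha⟩ ⟨b, hb⟩)
  · intro h
    exact ⟨⟨fun a b => Subtype.ext (h a a.2 b b.2)⟩⟩

/-- the elements of order prime to `p` of an abelian subgroup -/
def pPrimePart (p : ℕ) (M : Subgroup G) (hM : IsMulCommutative M) : Subgroup G where
  carrier := {m | m ∈ M ∧ (orderOf m).Coprime p}
  one_mem' := ⟨M.one_mem, by rw [orderOf_one]; exact Nat.coprime_one_left p⟩
  mul_mem' := by
    rintro a b ⟨ha, ha'⟩ ⟨hb, hb'⟩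
    refine ⟨M.mul_mem ha hb, ?_⟩
    have h : Commute a b := isMulCommutative_iff_forall.1 hM a ha b hb
    exact Nat.Coprime.coprime_dvd_left (h.orderOf_mul_dvd_lcm.trans (Nat.lcm_dvd_mul _ _))
      (Nat.Coprime.mul_left ha' hb')
  inv_mem' := by
    rintro a ⟨ha, ha'⟩
    exact ⟨M.inv_mem ha, by rw [orderOf_inv]; exact ha'⟩

theorem mem_pPrimePart {p : ℕ} {M : Subgroup G} {hM : IsMulCommutative M} {x : G} :
    x ∈ pPrimePart p M hM ↔ x ∈ M ∧ (orderOf x).Coprime p := Iff.rfl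

/-- the `p`-elements of an abelian subgroup -/
def pPart (p : ℕ) [hp : Fact p.Prime] (M : Subgroup G) (hM : IsMulCommutative M) : Subgroup G where
  carrier := {m | m ∈ M ∧ ∃ k : ℕ, orderOf m = p ^ k}
  one_mem' := ⟨M.one_mem, 0, by rw [orderOf_one, pow_zero]⟩
  mul_mem' := by
    rintro a b ⟨ha, i, hi⟩ ⟨hb, j, hj⟩
    refine ⟨M.mul_mem ha hb, ?_⟩
    have h : Commute a b := isMulCommutative_iff_forall.1 hM a ha b hb
    have h1 : orderOf (a * b) ∣ p ^ (i + j) := by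
      rw [pow_add, ← hi, ← hj]
      exact h.orderOf_mul_dvd_lcm.trans (Nat.lcm_dvd_mul _ _)
    obtain ⟨k, _, hk⟩ := (Nat.dvd_prime_pow hp.out).1 h1
    exact ⟨k, hk⟩
  inv_mem' := by
    rintro a ⟨ha, ha'⟩
    exact ⟨M.inv_mem ha, by rw [orderOf_inv]; exact ha'⟩

theorem selfnorm_forward [Finite G] (hsol : Group.IsSolvable G) (hnn : ¬ Group.IsNilpotent G)
    (hS : ∀ H : Subgroup G, ¬ IsMulCommutative H → normalizer (H : Set G) = H) :
    ∃ (x : G) (A : Subgroup G) (p : ℕ), p.Prime ∧ A.Normal ∧ IsMulCommutative A ∧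
      (∃ k : ℕ, orderOf x = p ^ k) ∧ ¬ p ∣ Nat.card A ∧ (zpowers x).IsComplement' A ∧
      x ^ p ∈ center G ∧ ∀ a : G, a ∈ A → a ≠ 1 → x * a * x⁻¹ ≠ a := by
  haveI : Nontrivial G := by
    by_contra hcon
    rw [not_nontrivial_iff_subsingleton] at hcon
    exact hnn inferInstance
  obtain ⟨M, hMn, hMc, hcomm⟩ := Cfsg.Agent.H1.exists_normal_prime_index hsol
  haveI := hMn
  have hMp : M.index.Prime := by
    exact Cfsg.Agent.H1.index_prime_of_normal_coatom hMc
  set p := M.index with hpdef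
  haveI hp : Fact p.Prime := ⟨hMp⟩
  have hMab : IsMulCommutative M := by
    by_contra hcon
    have h1 := hS M hcon
    rw [Subgroup.normalizer_eq_top_iff.2 hMn] at h1
    exact hMc.1 h1.symm
  have hMab' := isMulCommutative_iff_forall.1 hMab
  have hcopM : ∀ y : G, (orderOf y).Coprime p → y ∈ M := by
    intro y hy
    exact Cfsg.Agent.H25.mem_of_pow_mem hy.symm (Subgroup.pow_index_mem M y)
  -- a p-element outside M
  obtain ⟨x, hxM, k, hxk⟩ : ∃ x : G, x ∉ M ∧ ∃ k : ℕ, orderOf x = p ^ k := by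
    obtain ⟨g, -, hg⟩ := Set.exists_of_ssubset (lt_top_iff_ne_top.2 hMc.1 : M < ⊤)
    obtain ⟨i, j, hij, hi, hj⟩ := exists_pPart_decomp p g
    refine ⟨g ^ i, fun hiM => hg ?_, hi⟩
    rw [hij]
    exact M.mul_mem hiM (hcopM _ hj)
  have hMx : M ⊔ zpowers x = ⊤ := by
    rcases hMc.le_iff.1 (le_sup_left : M ≤ M ⊔ zpowers x) with h | h
    · exact h
    · exact absurd (h ▸ mem_sup_right (mem_zpowers x) : x ∈ M) hxM
  have hdec : ∀ g : G, ∃ m ∈ M, ∃ j : ℤ, m * x ^ j = g := by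
    intro g
    have h1 : g ∈ M ⊔ zpowers x := by rw [hMx]; exact mem_top g
    rw [Subgroup.mem_sup_of_normal_left] at h1
    obtain ⟨m, hm, _, ⟨j, rfl⟩, h⟩ := h1
    exact ⟨m, hm, j, h⟩
  have hcentral : ∀ z : G, (∀ m ∈ M, m * z = z * m) → x * z = z * x → z ∈ center G := by
    intro z h1 h2
    rw [Subgroup.mem_center_iff]
    intro g
    obtain ⟨m, hm, j, rfl⟩ := hdec g
    have h3 : Commute x z := h2
    have h4 : Commute m z := h1 m hm
    exact (h4.mul_left (h3.zpow_left j)).eq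
  have hxp : x ^ p ∈ center G := by
    apply hcentral
    · intro m hm
      exact hMab' m hm _ (Subgroup.pow_index_mem M x)
    · exact (pow_mul_comm' x p).symm
  set A := pPrimePart p M hMab with hA
  have hAM : A ≤ M := fun a ha => ha.1
  have hAn : A.Normal := by
    constructor
    rintro a ⟨ha, ha'⟩ g
    refine ⟨hMn.conj_mem a ha g, ?_⟩
    have : orderOf (g * a * g⁻¹) = orderOf a := MulEquiv.orderOf_eq (MulAut.conj g) a
    rw [this]; exact ha'
  haveI := hAn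
  have hAab : IsMulCommutative A :=
    isMulCommutative_iff_forall.2 fun a ha b hb => hMab' a (hAM ha) b (hAM hb)
  have hpA : ¬ p ∣ Nat.card A := by
    intro hd
    obtain ⟨a, ha⟩ := exists_prime_orderOf_dvd_card' p hd
    have h1 := a.2.2
    rw [Subgroup.orderOf_coe, ha] at h1
    exact hMp.one_lt.ne' ((Nat.coprime_self p).1 h1)
  have hAx : ∃ a ∈ A, x * a * x⁻¹ ≠ a := by
    by_contra hcon
    push Not at hcon
    apply hnn
    apply Cfsg.Agent.H25.nilpotent_of_center_quotient_pGroup (p := p)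
    intro y hy
    have hyM := hcopM y hy
    apply hcentral
    · intro m hm; exact hMab' m hm y hyM
    · have := hcon y ⟨hyM, hy⟩
      calc x * y = (x * y * x⁻¹) * x := by group
        _ = y * x := by rw [this]
  have hAxd : Disjoint A (zpowers x) := by
    apply Subgroup.disjoint_of_coprime_natCard
    rw [Nat.card_zpowers, hxk]
    exact Nat.Coprime.pow_right _ ((Nat.Prime.coprime_iff_not_dvd hMp).2 hpA).symm
  -- subgroups B ⟨x⟩ with B ≤ A not centralised
  have hnab : ∀ B : Subgroup G, (∃ a ∈ B, x * a * x⁻¹ ≠ a) → ¬ IsMulCommutative (B ⊔ zpowers x : Subgroup G) := by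
    rintro B ⟨a, haB, hax⟩ hcon
    have h1 := isMulCommutative_iff_forall.1 hcon x (mem_sup_right (mem_zpowers x)) a (mem_sup_left haB)
    apply hax
    rw [h1]; group
  have hNAx := hS _ (hnab A hAx)
  -- M_p ≤ ⟨x⟩
  have hxpgroup : IsPGroup p (zpowers x) := IsPGroup.of_card (n := k) (by rw [Nat.card_zpowers, hxk])
  set B := pPart p M hMab with hB
  have hBn : B.Normal := by
    constructor
    rintro a ⟨ha, ha'⟩ g
    refine ⟨hMn.conj_mem a ha g, ?_⟩
    have : orderOf (g * a * g⁻¹) = orderOf a := MulEquiv.orderOf_eq (MulAut.conj g) a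
    rw [this]; exact ha'
  haveI := hBn
  have hBp : IsPGroup p B := by
    rw [IsPGroup.iff_orderOf]
    rintro ⟨b, hb⟩
    obtain ⟨j, hj⟩ := hb.2
    exact ⟨j, by rw [← Subgroup.orderOf_coe]; exact hj⟩
  have hBx : IsPGroup p (B ⊔ zpowers x : Subgroup G) := hBp.to_sup_of_normal_left hxpgroup
  have hdisjB : ∀ a ∈ A, a ∈ B ⊔ zpowers x → a = 1 := by
    intro a ha ha'
    obtain ⟨j, hj⟩ := IsPGroup.iff_orderOf.1 hBx ⟨a, ha'⟩
    rw [← Subgroup.orderOf_coe] at hj
    have hj' : orderOf a = p ^ j := hj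
    have h1 := ha.2
    rw [hj'] at h1
    rcases Nat.eq_zero_or_pos j with h0 | h0
    · rw [h0, pow_zero, orderOf_eq_one_iff] at hj'; exact hj'
    · rw [Nat.coprime_pow_left_iff h0, Nat.coprime_self] at h1
      exact absurd h1 hMp.one_lt.ne'
  have hBle : B ⊔ zpowers x = zpowers x := by
    by_contra hcon
    have hlt : zpowers x < B ⊔ zpowers x := lt_of_le_of_ne le_sup_right (Ne.symm hcon)
    have h1 := Cfsg.Agent.H1.lt_normalizer_inf_of_nilpotent hBx.isNilpotent hlt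
    obtain ⟨u, hu, hux⟩ := Set.exists_of_ssubset h1
    have huN : u ∈ normalizer ((A ⊔ zpowers x : Subgroup G) : Set G) := by
      refine mem_normalizer_of_conj_mem' ?_
      intro y hy
      rw [Subgroup.mem_sup_of_normal_left] at hy
      obtain ⟨a, ha, z, hz, rfl⟩ := hy
      have h2 : u * (a * z) * u⁻¹ = (u * a * u⁻¹) * (u * z * u⁻¹) := by group
      rw [h2]
      exact mul_mem (mem_sup_left (hAn.conj_mem a ha u))
        (mem_sup_right ((Subgroup.mem_normalizer_iff.1 hu.1 z).1 hz))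
    rw [hNAx, Subgroup.mem_sup_of_normal_left] at huN
    obtain ⟨a, ha, z, hz, hazu⟩ := huN
    have h3 : a ∈ B ⊔ zpowers x := by
      have h4 : a = u * z⁻¹ := by rw [← hazu]; group
      rw [h4]
      exact (B ⊔ zpowers x).mul_mem hu.2 ((B ⊔ zpowers x).inv_mem (mem_sup_right hz))
    have h4 := hdisjB a ha h3
    rw [h4, one_mul] at hazu
    exact hux (hazu ▸ hz)
  have hBx' : B ≤ zpowers x := by rw [← hBle]; exact le_sup_left
  have hMAx : M ≤ A ⊔ zpowers x := by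
    intro m hm
    obtain ⟨i, j, hij, hi, hj⟩ := exists_pPart_decomp p m
    rw [hij]
    exact mul_mem (mem_sup_right (hBx' ⟨M.pow_mem hm i, hi⟩)) (mem_sup_left ⟨M.pow_mem hm j, hj⟩)
  have htop : A ⊔ zpowers x = ⊤ := by
    rw [eq_top_iff, ← hMx]
    exact sup_le hMAx le_sup_right
  have hcompl : (zpowers x).IsComplement' A := by
    apply Subgroup.isComplement'_of_disjoint_and_mul_eq_univ hAxd.symm
    rw [← Subgroup.mul_normal, sup_comm, htop]; rfl
  refine ⟨x, A, p, hMp, hAn, hAab, ⟨k, hxk⟩, hpA, hcompl, hxp, ?_⟩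
  intro a ha ha1 hax
  have hnormA : zpowers x ≤ normalizer (A : Set G) := by
    rw [Subgroup.normalizer_eq_top_iff.2 hAn]; exact le_top
  have hcop : (Nat.card (zpowers x)).Coprime (Nat.card A) := by
    rw [Nat.card_zpowers, hxk]
    exact Nat.Coprime.pow_left _ ((Nat.Prime.coprime_iff_not_dvd hMp).2 hpA)
  obtain ⟨hd1, hd2⟩ := Cfsg.Agent.H2.coprime_abelian_decomp A (zpowers x) hAab hnormA hcop
  have hcaz : a ∈ A ⊓ centralizer ((zpowers x : Subgroup G) : Set G) := by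
    refine ⟨ha, ?_⟩
    show a ∈ centralizer ((zpowers x : Subgroup G) : Set G)
    rw [centralizer_zpowers, mem_centralizer_singleton_iff]
    calc x * a = (x * a * x⁻¹) * x := by group
      _ = a * x := by rw [hax]
  have hne : ∃ c ∈ ⁅A, zpowers x⁆, x * c * x⁻¹ ≠ c := by
    by_contra hcon
    push Not at hcon
    have h1 : ⁅A, zpowers x⁆ ≤ ⊥ := by
      rw [← hd2]
      intro c hc
      have hcA : c ∈ A := by
        rw [← hd1]; exact mem_sup_left hc
      refine ⟨hc, hcA, ?_⟩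
      show c ∈ centralizer ((zpowers x : Subgroup G) : Set G)
      rw [centralizer_zpowers, mem_centralizer_singleton_iff]
      calc x * c = (x * c * x⁻¹) * x := by group
        _ = c * x := by rw [hcon c hc]
    obtain ⟨b, hb, hbx⟩ := hAx
    apply hbx
    have h2 : ⁅b, x⁆ = 1 := by
      have := h1 (Subgroup.commutator_mem_commutator hb (mem_zpowers x))
      exact Subgroup.mem_bot.1 this
    rw [commutatorElement_eq_one_iff_mul_comm] at h2
    rw [← h2]; group
  have hN1 := hS _ (hnab _ hne)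
  have haN : a ∈ normalizer ((⁅A, zpowers x⁆ ⊔ zpowers x : Subgroup G) : Set G) := by
    have hacen : a ∈ center G := by
      apply hcentral
      · intro m hm; exact hMab' m hm a (hAM ha)
      · calc x * a = (x * a * x⁻¹) * x := by group
          _ = a * x := by rw [hax]
    refine mem_normalizer_of_conj_mem' ?_
    intro y hy
    rw [← Subgroup.mem_center_iff.1 hacen y]
    simpa using hy
  rw [hN1] at haN
  have hnorm2 : zpowers x ≤ normalizer ((⁅A, zpowers x⁆ : Subgroup G) : Set G) :=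
    Subgroup.normalizer_commutator_ge_right _ _
  rw [sup_comm] at haN
  obtain ⟨z, hz, c, hc, hzc⟩ := exists_mul_of_mem_sup' hnorm2 haN
  have hcA : c ∈ A := by
    rw [← hd1]; exact mem_sup_left hc
  have hzA : z ∈ A ⊓ zpowers x := by
    refine ⟨?_, hz⟩
    have h4 : z = a * c⁻¹ := by rw [← hzc]; group
    rw [h4]; exact A.mul_mem ha (A.inv_mem hcA)
  rw [hAxd.eq_bot, Subgroup.mem_bot] at hzA
  rw [hzA, one_mul] at hzc
  have h5 : a ∈ ⁅A, zpowers x⁆ ⊓ (A ⊓ centralizer ((zpowers x : Subgroup G) : Set G)) :=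
    ⟨hzc ▸ hc, hcaz⟩
  rw [hd2, Subgroup.mem_bot] at h5
  exact ha1 h5

theorem selfnorm_backward [Finite G] (hnn : ¬ Group.IsNilpotent G) {x : G} {A : Subgroup G}
    {p k : ℕ} (hp : p.Prime) (hAn : A.Normal) (hAab : IsMulCommutative A)
    (hxk : orderOf x = p ^ k) (hcompl : (zpowers x).IsComplement' A)
    (hxp : x ^ p ∈ center G) (hfpf : ∀ a : G, a ∈ A → a ≠ 1 → x * a * x⁻¹ ≠ a)
    (H : Subgroup G) (hH : ¬ IsMulCommutative H) : normalizer (H : Set G) = H := by
  have hAab' := isMulCommutative_iff_forall.1 hAab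
  have hdec : ∀ g : G, ∃ a ∈ A, ∃ j : ℕ, g = a * x ^ j := by
    intro g
    have h1 : g ∈ A ⊔ zpowers x := by rw [sup_comm, hcompl.sup_eq_top]; exact mem_top g
    rw [Subgroup.mem_sup_of_normal_left] at h1
    obtain ⟨m, hm, z, hz, h⟩ := h1
    obtain ⟨j, hj⟩ := (mem_powers_iff_mem_zpowers.2 hz)
    have hj' : x ^ j = z := hj
    exact ⟨m, hm, j, by rw [hj', h]⟩
  -- an element of H outside A⟨x^p⟩
  obtain ⟨h, hhH, a0, ha0, j, hj, hpj⟩ : ∃ h ∈ H, ∃ a ∈ A, ∃ j : ℕ, h = a * x ^ j ∧ ¬ p ∣ j := by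
    by_contra hcon
    push Not at hcon
    apply hH
    rw [isMulCommutative_iff_forall]
    intro u hu v hv
    obtain ⟨a, ha, i, hi⟩ := hdec u
    obtain ⟨b, hb, j, hj⟩ := hdec v
    obtain ⟨i', rfl⟩ := hcon u hu a ha i hi
    obtain ⟨j', rfl⟩ := hcon v hv b hb j hj
    have hz : ∀ (n : ℕ) (g : G), Commute g (x ^ (p * n)) := by
      intro n g
      rw [pow_mul]
      exact Commute.pow_right (Subgroup.mem_center_iff.1 hxp g) n
    rw [hi, hj]
    have h1 : Commute a b := hAab' a ha b hb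
    have h2 : Commute (a * x ^ (p * i')) (b * x ^ (p * j')) := by
      apply Commute.mul_left
      · exact h1.mul_right (hz j' a)
      · exact (hz i' b).symm.mul_right (hz j' _)
    exact h2.eq
  -- y = a x in H
  obtain ⟨y, hyH, a1, ha1, hy⟩ : ∃ y ∈ H, ∃ a ∈ A, y = a * x := by
    have hcop : Nat.Coprime j (p ^ k) :=
      (Nat.Coprime.pow_left k ((Nat.Prime.coprime_iff_not_dvd hp).2 hpj)).symm
    obtain ⟨m, hm⟩ : ∃ m : ℕ, x ^ (j * m) = x := by
      by_cases h1 : p ^ k = 1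
      · rw [h1, orderOf_eq_one_iff] at hxk
        exact ⟨0, by rw [hxk]; simp⟩
      · obtain ⟨m, hm⟩ := Nat.exists_mul_mod_eq_one_of_coprime hcop
          (lt_of_le_of_ne (Nat.one_le_iff_ne_zero.2 (pow_ne_zero _ hp.ne_zero)) (Ne.symm h1))
        refine ⟨m, ?_⟩
        have h3 : j * m ≡ 1 [MOD orderOf x] := by
          rw [hxk]
          have h4 : 1 < p ^ k :=
            lt_of_le_of_ne (Nat.one_le_iff_ne_zero.2 (pow_ne_zero _ hp.ne_zero)) (Ne.symm h1)
          show j * m % p ^ k = 1 % p ^ k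
          rw [hm.2, Nat.mod_eq_of_lt h4]
        have h5 := (pow_eq_pow_iff_modEq (x := x)).2 h3
        rw [h5, pow_one]
    refine ⟨h ^ m, H.pow_mem hhH m, h ^ m * (x ^ (j * m))⁻¹, ?_, by rw [hm]; group⟩
    rw [← QuotientGroup.eq_one_iff (N := A)]
    have h6 : (h : G ⧸ A) = ((x ^ j : G) : G ⧸ A) := by
      rw [hj, QuotientGroup.mk_mul, (QuotientGroup.eq_one_iff a0).2 ha0, one_mul]
    rw [QuotientGroup.mk_mul, QuotientGroup.mk_pow, h6, QuotientGroup.mk_inv, ← QuotientGroup.mk_pow,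
      ← pow_mul, mul_inv_cancel]
  -- the map δ
  let δ : G → G := fun b => b * (y * b⁻¹ * y⁻¹)
  have hδmem : ∀ b ∈ A, δ b ∈ A := fun b hb => A.mul_mem hb (hAn.conj_mem _ (A.inv_mem hb) y)
  have hδmul : ∀ b ∈ A, ∀ c ∈ A, δ (b * c) = δ b * δ c := by
    intro b hb c hc
    have h1 : y * b⁻¹ * y⁻¹ ∈ A := hAn.conj_mem _ (A.inv_mem hb) y
    have h2 : y * c⁻¹ * y⁻¹ ∈ A := hAn.conj_mem _ (A.inv_mem hc) y
    show b * c * (y * (b * c)⁻¹ * y⁻¹) = b * (y * b⁻¹ * y⁻¹) * (c * (y * c⁻¹ * y⁻¹))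
    calc b * c * (y * (b * c)⁻¹ * y⁻¹) = b * (c * (y * c⁻¹ * y⁻¹)) * (y * b⁻¹ * y⁻¹) := by group
      _ = b * ((c * (y * c⁻¹ * y⁻¹)) * (y * b⁻¹ * y⁻¹)) := by rw [mul_assoc]
      _ = b * ((y * b⁻¹ * y⁻¹) * (c * (y * c⁻¹ * y⁻¹))) := by
        rw [hAab' _ (A.mul_mem hc h2) _ h1]
      _ = b * (y * b⁻¹ * y⁻¹) * (c * (y * c⁻¹ * y⁻¹)) := by group
  have hδker : ∀ b ∈ A, δ b = 1 → b = 1 := by
    intro b hb h1
    by_contra hne
    apply hfpf b hb hne
    have h2 : y * b * y⁻¹ = b := by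
      have h3 : b * (y * b⁻¹ * y⁻¹) = 1 := h1
      have h4 : y * b⁻¹ * y⁻¹ = b⁻¹ := by
        rw [← mul_right_inj b, h3, mul_inv_cancel]
      have := congrArg Inv.inv h4
      simpa [mul_assoc] using this
    have h5 : a1 * (x * b * x⁻¹) * a1⁻¹ = b := by
      rw [hy] at h2
      calc a1 * (x * b * x⁻¹) * a1⁻¹ = a1 * x * b * (a1 * x)⁻¹ := by group
        _ = b := h2
    have h6 : x * b * x⁻¹ ∈ A := hAn.conj_mem _ hb x
    rw [hAab' a1 ha1 _ h6] at h5
    simpa [mul_assoc] using h5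
  have hδinj : ∀ b ∈ A, ∀ c ∈ A, δ b = δ c → b = c := by
    intro b hb c hc h1
    have h2 : δ (b * c⁻¹) = 1 := by
      have h3 := hδmul (b * c⁻¹) (A.mul_mem hb (A.inv_mem hc)) c hc
      rw [inv_mul_cancel_right, h1] at h3
      exact mul_eq_right.1 h3.symm
    exact mul_inv_eq_one.1 (hδker _ (A.mul_mem hb (A.inv_mem hc)) h2)
  -- δ is a bijection on H ∩ A
  have hδsurj : ∀ c ∈ H ⊓ A, ∃ b ∈ H ⊓ A, δ b = c := by
    intro c hc
    have h1 : ∀ b : (H ⊓ A : Subgroup G), δ b ∈ H ⊓ A := by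
      rintro ⟨b, hb⟩
      exact ⟨H.mul_mem hb.1 (H.mul_mem (H.mul_mem hyH (H.inv_mem hb.1)) (H.inv_mem hyH)),
        hδmem b hb.2⟩
    let f : (H ⊓ A : Subgroup G) → (H ⊓ A : Subgroup G) := fun b => ⟨δ b, h1 b⟩
    have hf : Function.Injective f := by
      intro b c hbc
      exact Subtype.ext (hδinj b b.2.2 c c.2.2 (congrArg Subtype.val hbc))
    obtain ⟨b, hb⟩ := (Finite.injective_iff_surjective.1 hf) ⟨c, hc⟩
    exact ⟨b, b.2, congrArg Subtype.val hb⟩
  apply le_antisymm _ le_normalizer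
  intro n hn
  obtain ⟨a, ha, i, hi⟩ := hdec n
  -- n y^{-i} ∈ A ∩ N(H)
  have hnA : n * (y ^ i)⁻¹ ∈ A := by
    rw [← QuotientGroup.eq_one_iff (N := A)]
    have h6 : (y : G ⧸ A) = (x : G ⧸ A) := by
      rw [hy, QuotientGroup.mk_mul, (QuotientGroup.eq_one_iff a1).2 ha1, one_mul]
    rw [hi, QuotientGroup.mk_mul, QuotientGroup.mk_mul, QuotientGroup.mk_inv, QuotientGroup.mk_pow,
      QuotientGroup.mk_pow, h6, (QuotientGroup.eq_one_iff a).2 ha, one_mul, mul_inv_cancel]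
  have hyN : y ^ i ∈ H := H.pow_mem hyH i
  have hnN : n * (y ^ i)⁻¹ ∈ normalizer (H : Set G) :=
    (normalizer (H : Set G)).mul_mem hn ((normalizer (H : Set G)).inv_mem (le_normalizer hyN))
  set m := n * (y ^ i)⁻¹ with hm
  have hδm : δ m ∈ H ⊓ A := by
    refine ⟨?_, hδmem m hnA⟩
    show m * (y * m⁻¹ * y⁻¹) ∈ H
    have h1 := (Subgroup.mem_normalizer_iff.1 hnN y).1 hyH
    have h2 : m * (y * m⁻¹ * y⁻¹) = (m * y * m⁻¹) * y⁻¹ := by group
    rw [h2]; exact H.mul_mem h1 (H.inv_mem hyH)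
  obtain ⟨b, hb, hbm⟩ := hδsurj _ hδm
  have hbm' := hδinj b hb.2 m hnA hbm
  have h7 : n = b * y ^ i := by rw [hbm', hm]; group
  rw [h7]; exact H.mul_mem hb.1 hyN

end Cfsg.Agent.H24
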