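import Cfsg.Agent.H1.Chief
import Cfsg.Agent.H1.SysNorm
import Cfsg.Agent.H18.PCore
import Cfsg.Agent.H23.Nilp
import Cfsg.Agent.H24.PiHom
import Cfsg.Agent.H24.ClassSize2
import Cfsg.Agent.H24.ClassSize3
import Cfsg.Agent.H24.SelfNorm
import Cfsg.Agent.H3.BurnsidePQ
import Cfsg.Agent.H25.SolvCrit
import Mathlib

/-!
# Sizes of `p`-regular classes (helper24)
-/

set_option autoImplicit false

open Subgroup
open scoped Pointwise

universe u

namespace Cfsg.Agent.H24

variable {G : Type*} [Group G]

theorem ncard_carrier (x : G) [Finite G] :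
    (ConjClasses.mk x).carrier.ncard = (centralizer ({x} : Set G)).index := by
  rw [← ncard_isConj]
  congr 1

/-- The centralizer index in a normal subgroup divides the one in the group. -/
theorem index_centralizer_normal_dvd (N : Subgroup G) [N.Normal] (x : N) :
    (centralizer ({x} : Set N)).index ∣ (centralizer ({(x : G)} : Set G)).index := by
  have h1 : centralizer ({x} : Set N) = (centralizer ({(x : G)} : Set G)).subgroupOf N := by
    ext y
    rw [Subgroup.mem_subgroupOf, mem_centralizer_singleton_iff, mem_centralizer_singleton_iff]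
    constructor
    · intro h; exact congrArg Subtype.val h
    · intro h; exact Subtype.ext h
  rw [h1]
  exact Cfsg.Agent.H1.relIndex_dvd_index_of_normal_right _ N

theorem index_centralizer_quotient_dvd (N : Subgroup G) [N.Normal] (x : G) :
    (centralizer ({(x : G ⧸ N)} : Set (G ⧸ N))).index ∣ (centralizer ({x} : Set G)).index := by
  have h1 : (centralizer ({x} : Set G)).map (QuotientGroup.mk' N) ≤
      centralizer ({(x : G ⧸ N)} : Set (G ⧸ N)) := by
    rintro _ ⟨y, hy, rfl⟩
    rw [mem_centralizer_singleton_iff]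
    have := mem_centralizer_singleton_iff.1 hy
    show (QuotientGroup.mk' N) x * (QuotientGroup.mk' N) y = (QuotientGroup.mk' N) y * (QuotientGroup.mk' N) x
    rw [← map_mul, this, map_mul]
  exact (Subgroup.index_dvd_of_le h1).trans
    (Subgroup.index_map_dvd _ (QuotientGroup.mk'_surjective N))

theorem exists_lift_coprime_order [Finite G] {p : ℕ} [Fact p.Prime] (N : Subgroup G) [N.Normal]
    (y : G ⧸ N) (hy : (orderOf y).Coprime p) :
    ∃ x : G, (x : G ⧸ N) = y ∧ (orderOf x).Coprime p := by
  obtain ⟨g, rfl⟩ := QuotientGroup.mk_surjective y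
  obtain ⟨i, j, hij, ⟨k, hk⟩, hj⟩ := exists_pPart_decomp p g
  refine ⟨g ^ j, ?_, hj⟩
  have h1 : ((g ^ i : G) : G ⧸ N) = 1 := by
    rw [← orderOf_eq_one_iff]
    have h2 : orderOf ((g ^ i : G) : G ⧸ N) ∣ p ^ k := by
      rw [← hk]; exact orderOf_map_dvd (QuotientGroup.mk' N) _
    have h3 : orderOf ((g ^ i : G) : G ⧸ N) ∣ orderOf (g : G ⧸ N) := by
      rw [QuotientGroup.mk_pow]; exact orderOf_pow_dvd i
    have h4 := Nat.dvd_gcd h3 h2
    rw [Nat.Coprime.pow_right k hy] at h4
    exact Nat.dvd_one.1 h4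
  conv_rhs => rw [hij]
  rw [QuotientGroup.mk_mul, h1, one_mul]

/-- classes of `p`-regular elements have `p`-power size -/
def RegP (p : ℕ) (G : Type u) [Group G] : Prop :=
  ∀ x : G, (orderOf x).Coprime p → ∃ k : ℕ, (centralizer ({x} : Set G)).index = p ^ k

theorem regP_isSolvable {p : ℕ} (hp : p.Prime) : ∀ (G : Type u) [Group G] [Finite G],
    RegP p G → Group.IsSolvable G := by
  haveI : Fact p.Prime := ⟨hp⟩
  refine Cfsg.Agent.H25.solvable_induction (RegP p) ?_ ?_ ?_
  · intro G _ _ N _ h x hx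
    obtain ⟨k, hk⟩ := h (x : G) (by rw [Subgroup.orderOf_coe]; exact hx)
    have h1 := index_centralizer_normal_dvd N x
    rw [hk] at h1
    obtain ⟨j, _, hj⟩ := (Nat.dvd_prime_pow hp).1 h1
    exact ⟨j, hj⟩
  · intro G _ _ N _ h y hy
    obtain ⟨x, rfl, hx⟩ := exists_lift_coprime_order N y hy
    obtain ⟨k, hk⟩ := h x hx
    have h1 := index_centralizer_quotient_dvd N x
    rw [hk] at h1
    obtain ⟨j, _, hj⟩ := (Nat.dvd_prime_pow hp).1 h1
    exact ⟨j, hj⟩
  · intro G _ _ _ h
    by_cases hex : ∃ x : G, x ≠ 1 ∧ (orderOf x).Coprime p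
    · obtain ⟨x, hx1, hx⟩ := hex
      obtain ⟨k, hk⟩ := h x hx
      have h1 := Cfsg.Agent.H3.prime_card_of_prime_power_class p k hp x hx1 hk
      haveI : Fact (Nat.card G).Prime := ⟨h1⟩
      have h2 : IsCyclic G := isCyclic_of_prime_card (p := Nat.card G) rfl
      letI := IsCyclic.commGroup (α := G)
      infer_instance
    · push Not at hex
      have h1 : IsPGroup p G := by
        intro g
        obtain ⟨i, j, hij, ⟨k, hk⟩, hj⟩ := exists_pPart_decomp p g
        have h2 : g ^ j = 1 := by
          by_contra hne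
          exact hex _ hne hj
        refine ⟨k, ?_⟩
        have h3 : g = g ^ i := by
          conv_lhs => rw [hij, h2, mul_one]
        rw [h3, ← hk, pow_orderOf_eq_one]
      have := h1.isNilpotent
      infer_instance

/-- If `O_p(G) = 1` and all `p`-regular classes have `p`-power size, the Fitting subgroup is an
abelian normal `p`-complement. -/
theorem regP_core [Finite G] {p : ℕ} [hp : Fact p.Prime] (hsol : Group.IsSolvable G)
    (hO : Cfsg.pCore p G = ⊥) (h : RegP p G) :
    (∀ a ∈ Cfsg.fittingSubgroup G, ∀ b ∈ Cfsg.fittingSubgroup G, a * b = b * a) ∧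
      (∀ x : G, (orderOf x).Coprime p ↔ x ∈ Cfsg.fittingSubgroup G) := by
  set F := Cfsg.fittingSubgroup G with hF
  have hCF := Cfsg.Agent.H1.centralizer_fitting_le hsol
  have h1 : ∀ x : G, (orderOf x).Coprime p → x ∈ centralizer (F : Set G) := by
    intro x hx
    have h2 : F ≤ centralizer ({x} : Set G) := by
      apply Cfsg.Agent.H25.le_of_primary
      intro y hy q k hq hk
      haveI : Fact q.Prime := ⟨hq⟩
      have hyq : IsPGroup q (zpowers y) := IsPGroup.of_card (n := k) (by rw [Nat.card_zpowers, hk])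
      have hyc := Cfsg.Agent.H23.mem_pCore_of_mem_fitting hy hyq
      by_cases hqp : q = p
      · subst hqp
        rw [hO, Subgroup.mem_bot] at hyc
        rw [hyc]; exact one_mem _
      · obtain ⟨m, hm⟩ := h x hx
        haveI : (Cfsg.pCore q G).Normal := inferInstance
        have h3 := Cfsg.Agent.H1.relIndex_dvd_index_of_normal_right
          (centralizer ({x} : Set G)) (Cfsg.pCore q G)
        rw [hm] at h3
        obtain ⟨c, hc⟩ := IsPGroup.iff_card.1 (Cfsg.Agent.H18.isPGroup_pCore q G)
        have h4 : (centralizer ({x} : Set G)).relIndex (Cfsg.pCore q G) ∣ q ^ c := by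
          rw [← hc]; exact Subgroup.relIndex_dvd_card _ _
        have h5 : Nat.Coprime (p ^ m) (q ^ c) :=
          Nat.Coprime.pow _ _ ((Nat.coprime_primes hp.out hq).2 (Ne.symm hqp))
        have h6 := Nat.dvd_gcd h3 h4
        rw [h5, Nat.dvd_one, Subgroup.relIndex_eq_one] at h6
        exact h6 hyc
    rw [Subgroup.mem_centralizer_iff]
    intro y hy
    exact (mem_centralizer_singleton_iff.1 (h2 hy)).symm
  have h2 : ∀ x ∈ F, (orderOf x).Coprime p := by
    intro x hx
    rw [Nat.coprime_comm, Nat.Prime.coprime_iff_not_dvd hp.out]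
    intro hd
    obtain ⟨m, hm⟩ := hd
    have hm0 : m ≠ 0 := by
      rintro rfl
      rw [mul_zero] at hm
      exact (orderOf_pos x).ne' hm
    have h3 : orderOf (x ^ m) = p := by
      rw [orderOf_pow_of_dvd hm0 ⟨p, by rw [hm, mul_comm]⟩, hm]
      exact Nat.mul_div_cancel _ (Nat.pos_of_ne_zero hm0)
    have h4 : x ^ m ∈ Cfsg.pCore p G := by
      refine Cfsg.Agent.H23.mem_pCore_of_mem_fitting (F.pow_mem hx m) ?_
      exact IsPGroup.of_card (n := 1) (by rw [Nat.card_zpowers, h3, pow_one])
    rw [hO, Subgroup.mem_bot] at h4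
    rw [h4, orderOf_one] at h3
    exact hp.out.one_lt.ne h3
  refine ⟨fun a ha b hb => ?_, fun x => ⟨fun hx => hCF (h1 x hx), h2 x⟩⟩
  exact (Subgroup.mem_centralizer_iff.1 (h1 a (h2 a ha)) b hb).symm

end Cfsg.Agent.H24
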