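import Cfsg.Agent.H24.Kazarin
import Cfsg.Agent.H24.RegClass
import Cfsg.Agent.H1.SysNorm
import Cfsg.Agent.H1.Chief
import Cfsg.Agent.H1.Basic
import Cfsg.Agent.H10.Basic
import Cfsg.Agent.H25.Primary

set_option autoImplicit false

/-!
Kazarin's theorem (helper24).
-/

namespace Cfsg.Agent.H24

open Cfsg Subgroup

variable {G : Type*} [Group G]

theorem isSolvable_of_map_inf (N L : Subgroup G) [N.Normal]
    (h1 : Group.IsSolvable (L.map (QuotientGroup.mk' N))) (h2 : Group.IsSolvable ↥(L ⊓ N)) :
    Group.IsSolvable L := by
  let f : L →* L.map (QuotientGroup.mk' N) := (QuotientGroup.mk' N).subgroupMap L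
  refine Group.isSolvable_of_ker_le_range (Subgroup.inclusion (inf_le_left : L ⊓ N ≤ L)) f ?_
  intro y hy
  rw [MonoidHom.mem_ker] at hy
  have hyN : (y : G) ∈ N := by
    have := congrArg Subtype.val hy
    rw [← QuotientGroup.eq_one_iff]
    exact this
  exact ⟨⟨(y : G), mem_inf.2 ⟨y.2, hyN⟩⟩, rfl⟩

theorem relIndex_sup_zpowers_dvd (N : Subgroup G) [N.Normal] (x : G) :
    (centralizer ({x} : Set G)).relIndex (N ⊔ zpowers x) ∣ (centralizer ({x} : Set G)).index := by
  set K := centralizer ({x} : Set G) with hK
  set H := N ⊔ zpowers x with hH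
  have hx : zpowers x ≤ K := by
    rw [zpowers_le, hK, mem_centralizer_singleton_iff]
  have h1 : (K ⊓ H) ⊔ N = H := by
    apply le_antisymm (sup_le inf_le_right le_sup_left)
    rw [hH]
    exact sup_le le_sup_right ((le_inf hx le_sup_right).trans le_sup_left)
  have h2 := H1.relIndex_eq_relIndex_sup_of_normal (K ⊓ H) N
  have h3 : (K ⊓ H).relIndex N = K.relIndex N := by
    have : N ≤ H := le_sup_left
    rw [← inf_relIndex_right (K ⊓ H) N, inf_assoc, inf_eq_right.2 this, inf_relIndex_right]
  have h4 : (K ⊓ H).relIndex H = K.relIndex H := inf_relIndex_right K H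
  rw [h3] at h2
  have h5 : K.relIndex N = K.relIndex H := by
    rw [h2, ← h4]
    first
      | rw [h1]
      | rw [sup_comm, h1]
  rw [← h5]
  exact H1.relIndex_dvd_index_of_normal_right K N

theorem index_centralizer_coe (H : Subgroup G) (x : H) :
    (centralizer ({x} : Set H)).index = (centralizer ({(x : G)} : Set G)).relIndex H := by
  rw [relIndex]
  congr 1
  ext y
  rw [mem_centralizer_singleton_iff, mem_subgroupOf, mem_centralizer_singleton_iff]
  exact Subtype.ext_iff

/-- if `x` centralizes `N` and the image of its normal closure modulo `N` is solvable, then its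
normal closure is solvable. -/
theorem solvable_normalClosure_of_centralizes (N : Subgroup G) [N.Normal] (x : G)
    (hx : x ∈ centralizer (N : Set G))
    (h1 : Group.IsSolvable ((normalClosure ({x} : Set G)).map (QuotientGroup.mk' N))) :
    Group.IsSolvable (normalClosure ({x} : Set G)) := by
  refine isSolvable_of_map_inf N _ h1 ?_
  haveI : (centralizer (N : Set G)).Normal := inferInstance
  have hle : normalClosure ({x} : Set G) ≤ centralizer (N : Set G) :=
    normalClosure_le_normal (by simpa using hx)
  refine Group.isSolvable_of_comm fun a b => ?_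
  apply Subtype.ext
  have ha := (mem_centralizer_iff.1 (hle (mem_inf.1 a.2).1)) (b : G) (mem_inf.1 b.2).2
  show (a : G) * b = b * a
  exact ha.symm

/-- The case of an element of prime power order. -/
theorem kazarin_aux {p : ℕ} (hp : p.Prime) {r : ℕ} (hr : r.Prime) (n : ℕ) :
    ∀ (G : Type*) [Group G] [Finite G], Nat.card G = n → ∀ (x : G) (a k : ℕ),
      orderOf x = r ^ a → (centralizer ({x} : Set G)).index = p ^ k →
        Group.IsSolvable (normalClosure ({x} : Set G)) := by
  induction n using Nat.strong_induction_on with
  | _ n ih =>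
    intro G _ _ hG x a k hx hk
    by_cases htriv : (⊤ : Subgroup G) = ⊥
    · have : normalClosure ({x} : Set G) = ⊥ := by
        rw [eq_bot_iff, ← htriv]; exact le_top
      rw [this]; infer_instance
    obtain ⟨N, hN, hne, -, hmin⟩ := H1.exists_minimal_normal_le (G := G) (N := ⊤)
      inferInstance htriv
    -- the quotient
    have hquot : Group.IsSolvable ((normalClosure ({x} : Set G)).map (QuotientGroup.mk' N)) := by
      rw [map_normalClosure _ _ (QuotientGroup.mk'_surjective N), Set.image_singleton]
      have hcard : Nat.card (G ⧸ N) < n := by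
        rw [← hG, ← Subgroup.index_eq_card, ← Subgroup.card_mul_index N]
        have h1 : 1 < Nat.card N := by
          rw [Subgroup.one_lt_card_iff_ne_bot]; exact hne
        have h2 : 0 < N.index := Nat.pos_of_ne_zero Subgroup.index_ne_zero_of_finite
        nlinarith
      have hord : orderOf (QuotientGroup.mk' N x) ∣ r ^ a := by
        rw [← hx]; exact orderOf_map_dvd _ _
      obtain ⟨a', -, ha'⟩ := (Nat.dvd_prime_pow hr).1 hord
      have hidx := index_centralizer_quotient_dvd N x
      rw [hk] at hidx
      obtain ⟨k', -, hk'⟩ := (Nat.dvd_prime_pow hp).1 hidx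
      exact ih _ hcard (G ⧸ N) rfl _ a' k' ha' hk'
    by_cases hNs : Group.IsSolvable N
    · refine isSolvable_of_map_inf N _ hquot ?_
      exact H1.isSolvable_of_le inf_le_right hNs
    apply solvable_normalClosure_of_centralizes N x ?_ hquot
    by_cases hH : N ⊔ zpowers x = ⊤
    · -- a third prime
      by_contra hcon
      apply hNs
      refine H3.burnside_paqb p r hp hr _ N rfl fun s hs hsN => ?_
      by_contra hsn
      rw [not_or] at hsn
      apply hcon
      exact mem_centralizer_of_principal_block hp hr hs hsn.1 hsn.2 N hmin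
        (hsN.trans (Subgroup.card_subgroup_dvd_card N)) x hx hk hH
    · -- induction
      set H := N ⊔ zpowers x with hHdef
      have hxH : x ∈ H := (le_sup_right : zpowers x ≤ H) (mem_zpowers x)
      have hNH : N ≤ H := le_sup_left
      have hcard : Nat.card H < n := by
        rw [← hG]
        exact lt_of_le_of_ne (Subgroup.card_le_card_group H) fun h =>
          hH (Subgroup.eq_top_of_card_eq H h)
      have hidx : (centralizer ({(⟨x, hxH⟩ : H)} : Set H)).index ∣ p ^ k := by
        rw [index_centralizer_coe, ← hk]
        exact relIndex_sup_zpowers_dvd N x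
      obtain ⟨k', -, hk'⟩ := (Nat.dvd_prime_pow hp).1 hidx
      have hsol := ih _ hcard H rfl ⟨x, hxH⟩ a k' (by rw [Subgroup.orderOf_mk]; exact hx) hk'
      set L := normalClosure ({(⟨x, hxH⟩ : H)} : Set H) with hL
      -- the intersection with `N`
      have hrad : H10.solvRad N = ⊥ := by
        haveI := H10.solvRad_characteristic N
        rcases hmin ((H10.solvRad N).map N.subtype) inferInstance (map_subtype_le _) with h | h
        · rwa [Subgroup.map_eq_bot_iff_of_injective _ N.subtype_injective] at h
        · exfalso
          apply hNs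
          have h1 := H1.isSolvable_map N.subtype (H10.solvRad_isSolvable N)
          rw [h] at h1
          exact h1
      have hint : (L.map H.subtype) ⊓ N = ⊥ := by
        have h1 : ((L.map H.subtype).subgroupOf N).Normal := by
          constructor
          intro y hy g
          rw [mem_subgroupOf] at hy ⊢
          obtain ⟨z, hz, hzy⟩ := hy
          refine ⟨⟨(g : G), hNH g.2⟩ * z * ⟨(g : G), hNH g.2⟩⁻¹,
            (inferInstance : L.Normal).conj_mem z hz _, ?_⟩
          have hzy' : (z : G) = (y : G) := hzy
          simp [hzy']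
        have h2 : Group.IsSolvable ((L.map H.subtype).subgroupOf N) := by
          have h3 : Group.IsSolvable (L.map H.subtype) := H1.isSolvable_map H.subtype hsol
          have h4 : Group.IsSolvable ↥((L.map H.subtype) ⊓ N) := H1.isSolvable_of_le inf_le_left h3
          let e := Subgroup.subgroupOfEquivOfLe (H := (L.map H.subtype) ⊓ N) (K := N) inf_le_right
          rw [Subgroup.inf_subgroupOf_right] at e
          exact H1.isSolvable_of_equiv e.symm h4
        have h3 := H10.le_solvRad h1 h2
        rw [hrad, le_bot_iff, Subgroup.subgroupOf_eq_bot] at h3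
        exact h3.eq_bot
      rw [mem_centralizer_iff]
      intro m hm
      have hxL : x ∈ L.map H.subtype := ⟨⟨x, hxH⟩, subset_normalClosure rfl, rfl⟩
      have h1 : m * x * m⁻¹ * x⁻¹ ∈ (L.map H.subtype) ⊓ N := by
        refine mem_inf.2 ⟨?_, ?_⟩
        · refine mul_mem ?_ (inv_mem hxL)
          refine ⟨⟨m, hNH hm⟩ * ⟨x, hxH⟩ * ⟨m, hNH hm⟩⁻¹,
            (inferInstance : L.Normal).conj_mem _ (subset_normalClosure rfl) _, ?_⟩
          simp
        · have : m * x * m⁻¹ * x⁻¹ = m * (x * m⁻¹ * x⁻¹) := by group
          rw [this]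
          exact mul_mem hm (hN.conj_mem _ (inv_mem hm) x)
      rw [hint, mem_bot, mul_inv_eq_one, mul_inv_eq_iff_eq_mul] at h1
      exact h1

/-- Kazarin's theorem. -/
theorem kazarin [Finite G] {p : ℕ} (hp : p.Prime) (k : ℕ) (x : G)
    (hk : (centralizer ({x} : Set G)).index = p ^ k) :
    Group.IsSolvable (normalClosure ({x} : Set G)) := by
  haveI := H10.solvRad_normal G
  have hmem : x ∈ H10.solvRad G := by
    by_contra hcon
    obtain ⟨r, hr, m, hm, a, ha⟩ := H25.exists_primary_notMem (H10.solvRad G) hcon
    apply hm
    have hle : centralizer ({x} : Set G) ≤ centralizer ({x ^ m} : Set G) := by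
      intro y hy
      rw [mem_centralizer_singleton_iff] at hy ⊢
      exact (Commute.pow_left hy m)
    have hdvd := Subgroup.index_dvd_of_le hle
    rw [hk] at hdvd
    obtain ⟨k', -, hk'⟩ := (Nat.dvd_prime_pow hp).1 hdvd
    have := kazarin_aux hp hr _ G rfl (x ^ m) a k' ha hk'
    exact H10.le_solvRad inferInstance this (subset_normalClosure rfl)
  have hle : normalClosure ({x} : Set G) ≤ H10.solvRad G :=
    normalClosure_le_normal (by simpa using hmem)
  exact H1.isSolvable_of_le hle (H10.solvRad_isSolvable G)

end Cfsg.Agent.H24
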