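import Mathlib
import Cfsg.Agent.H24.CC
import Cfsg.Agent.H24.ClassSize4
import Cfsg.Agent.H1.NilHall
import Cfsg.Agent.H1.Coprime2
import Cfsg.Agent.H2.AbHall
import Cfsg.Agent.S0079

set_option autoImplicit false

/-! # H24/NilCount: many classes of `π`-elements, local lemmas -/

namespace Cfsg.Agent.H24

open Subgroup
open scoped Pointwise

variable {C : Type*} [Group C]

/-- a group whose order has only prime factors `> p`, normalizing a `p`-group `Q` with
`|Q : Q ∩ Z| ≤ p`, centralizes `Q` -/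
theorem le_centralizer_of_relIndex_le [Finite C] {p : ℕ} [hp : Fact p.Prime] (Z T Q : Subgroup C)
    (hZ : Z ≤ center C) (hQ : IsPGroup p Q) (hTQ : T ≤ normalizer (Q : Set C))
    (hsmall : Z.relIndex Q ≤ p) (hb : ∀ q : ℕ, q.Prime → q ∣ Nat.card T → p + 1 ≤ q) :
    T ≤ centralizer (Q : Set C) := by
  have hZn : Z.Normal := by
    constructor
    intro z hz g
    have := (mem_center_iff.1 (hZ hz) g)
    rw [this]
    simpa using hz
  have hpT : ¬ p ∣ Nat.card T := fun h => by have := hb p hp.out h; omega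
  intro t ht
  rw [mem_centralizer_iff]
  intro u hu
  set u' : C ⧸ Z := QuotientGroup.mk' Z u with hu'
  set T' := T.map (QuotientGroup.mk' Z) with hT'
  have h1 : (centralizer ({u'} : Set (C ⧸ Z))).relIndex T' ≤ p := by
    rw [← natCard_conj_subgroup]
    refine le_trans ?_ hsmall
    have h2 : Z.relIndex Q = Nat.card (Q.map (QuotientGroup.mk' Z)) := by
      rw [← Subgroup.relIndex_ker, QuotientGroup.ker_mk']
    rw [h2]
    refine Nat.card_le_card_of_injective (fun g : {g : C ⧸ Z // ∃ n ∈ T', n * u' * n⁻¹ = g} =>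
      (⟨g.1, ?_⟩ : Q.map (QuotientGroup.mk' Z))) ?_
    · obtain ⟨g, n, hn, rfl⟩ := g
      obtain ⟨m, hm, rfl⟩ := hn
      refine ⟨m * u * m⁻¹, (mem_normalizer_iff.1 (hTQ hm) u).1 hu, by simp [hu']⟩
    · intro a b hab
      exact Subtype.ext (Subtype.mk.inj hab)
  have h2 : (centralizer ({u'} : Set (C ⧸ Z))).relIndex T' = 1 := by
    by_contra hne
    obtain ⟨q, hq, hd⟩ := Nat.exists_prime_and_dvd hne
    have h3 : q ∣ Nat.card T := hd.trans ((relIndex_dvd_card _ _).trans (Subgroup.card_map_dvd _ _))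
    have h4 := hb q hq h3
    have h5 := Nat.le_of_dvd (Nat.pos_of_ne_zero (by
      intro h0
      have := relIndex_dvd_card (centralizer ({u'} : Set (C ⧸ Z))) T'
      rw [h0, zero_dvd_iff] at this
      exact Nat.card_pos.ne' this)) hd
    omega
  rw [relIndex_eq_one] at h2
  have h3 := h2 (mem_map_of_mem (QuotientGroup.mk' Z) ht)
  rw [mem_centralizer_singleton_iff] at h3
  have h4 : t * u * t⁻¹ * u⁻¹ ∈ Z := by
    rw [← QuotientGroup.eq_one_iff]
    have h5 : ((t * u * t⁻¹ * u⁻¹ : C) : C ⧸ Z) = QuotientGroup.mk' Z t * u' * (QuotientGroup.mk' Z t)⁻¹ * u'⁻¹ := rfl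
    rw [h5, h3]
    group
  set z := t * u * t⁻¹ * u⁻¹ with hz
  have hzc := mem_center_iff.1 (hZ h4)
  have h6 : ∀ n : ℕ, t ^ n * u * (t ^ n)⁻¹ = z ^ n * u := by
    intro n
    induction n with
    | zero => simp
    | succ n ih =>
      calc t ^ (n+1) * u * (t ^ (n+1))⁻¹ = t * (t ^ n * u * (t ^ n)⁻¹) * t⁻¹ := by rw [pow_succ']; group
        _ = t * (z ^ n * u) * t⁻¹ := by rw [ih]
        _ = z ^ n * (t * u * t⁻¹ * u⁻¹) * u := by
          have h7 : t * z ^ n = z ^ n * t := by
            have : Commute t z := hzc t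
            exact (this.pow_right n).eq
          calc t * (z ^ n * u) * t⁻¹ = (t * z ^ n) * u * t⁻¹ := by group
            _ = (z ^ n * t) * u * t⁻¹ := by rw [h7]
            _ = _ := by group
        _ = z ^ (n+1) * u := by rw [← hz, pow_succ]
  have h7 : z ^ orderOf t = 1 := by
    have := h6 (orderOf t)
    rw [pow_orderOf_eq_one] at this
    simp only [one_mul, inv_one, mul_one] at this
    exact (mul_eq_right.1 this.symm)
  have h8 : z ∈ Q := mul_mem ((mem_normalizer_iff.1 (hTQ ht) u).1 hu) (inv_mem hu)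
  have h9 : z = 1 := by
    rw [← orderOf_eq_one_iff]
    by_contra hne
    obtain ⟨q, hq, hd⟩ := Nat.exists_prime_and_dvd hne
    have h10 := isPiElt_of_mem_pGroup hQ h8 q hq hd
    rw [Set.mem_singleton_iff] at h10
    rw [h10] at hd
    apply hpT
    have h11 : orderOf t ∣ Nat.card T := by
      have := orderOf_dvd_natCard (⟨t, ht⟩ : T)
      rwa [Subgroup.orderOf_mk] at this
    exact (hd.trans (orderOf_dvd_of_pow_eq_one h7)).trans h11
  rw [hz] at h9
  calc u * t = 1 * (u * t) := by group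
    _ = (t * u * t⁻¹ * u⁻¹) * (u * t) := by rw [h9]
    _ = t * u := by group

/-- the key count for the centralizer of `D` -/
theorem exists_sylow_centralized [Finite C] {p : ℕ} [hp : Fact p.Prime]
    (T : Subgroup C) (hT : Group.IsNilpotent T) (hHall : (Nat.card T).Coprime T.index)
    (hb : ∀ q : ℕ, q.Prime → q ∣ Nat.card T → p + 1 ≤ q)
    (hU : ∀ U : Sylow p C, (center C).relIndex U ≤ p)
    (hcc : Nat.card T * (p + 2) < 2 * (p + 1) * CC (T : Set C)) :
    ∃ Q : Sylow p C, T ≤ centralizer ((Q : Subgroup C) : Set C) := by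
  classical
  set B : Set C := {z | z ∈ T ∧ ∃ z' ∈ T, z' ≠ z ∧ IsConj z z'} with hB
  set F₀ : Set C := {z | z ∈ T ∧ ∀ z' ∈ T, IsConj z z' → z' = z} with hF0
  have hun : B ∪ F₀ = (T : Set C) := by
    ext z
    constructor
    · rintro (h | h)
      · exact h.1
      · exact h.1
    · intro hz
      by_cases h : ∃ z' ∈ T, z' ≠ z ∧ IsConj z z'
      · exact Or.inl ⟨hz, h⟩
      · push Not at h
        exact Or.inr ⟨hz, fun z' hz' hc => by
          by_contra hne
          exact h z' hz' hne hc⟩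
  have hdis : Disjoint B F₀ := by
    rw [Set.disjoint_left]
    rintro z ⟨_, z', hz', hne, hc⟩ ⟨_, h⟩
    exact hne (h z' hz' hc)
  have hcardT : B.ncard + F₀.ncard = Nat.card T := by
    rw [← Set.ncard_union_eq hdis (Set.toFinite _) (Set.toFinite _), hun]
    rfl
  have h2B : 2 * CC B ≤ B.ncard := by
    apply mul_CC_le
    rintro b ⟨hb, z', hz', hne, hc⟩
    have h1 : ({b, z'} : Set C) ⊆ {x ∈ B | IsConj b x} := by
      rintro x (rfl | rfl)
      · exact ⟨⟨hb, z', hz', hne, hc⟩, IsConj.refl _⟩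
      · exact ⟨⟨hz', b, hb, hne.symm, hc.symm⟩, hc⟩
    have h2 := Set.ncard_le_ncard h1 (Set.toFinite _)
    rw [Set.ncard_pair hne.symm] at h2
    exact h2
  have hF0' : CC F₀ ≤ F₀.ncard := CC_le_ncard fun a ha => ⟨a, ha, IsConj.refl a⟩
  have hCC : CC (T : Set C) ≤ CC B + CC F₀ := by
    rw [← hun]
    exact CC_union_le B F₀
  have hmain : Nat.card T < (p + 1) * F₀.ncard := by
    have h1 : 2 * CC (T : Set C) ≤ Nat.card T + F₀.ncard := by omega
    have h2 : 2 * (p + 1) * CC (T : Set C) ≤ (p + 1) * (Nat.card T + F₀.ncard) := by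
      rw [mul_comm 2 (p+1), mul_assoc]
      exact Nat.mul_le_mul_left _ h1
    have h3 := hcc.trans_le h2
    nlinarith
  -- general principle
  have key : ∀ X : Subgroup C, (∀ z ∈ F₀, z ∈ X) → T ≤ X := by
    intro X hX
    have h1 : F₀ ⊆ ((T ⊓ X : Subgroup C) : Set C) := fun z hz => ⟨hz.1, hX z hz⟩
    have h2 : F₀.ncard ≤ Nat.card (T ⊓ X : Subgroup C) := Set.ncard_le_ncard h1 (Set.toFinite _)
    have h3 : Nat.card (T ⊓ X : Subgroup C) = Nat.card T := by
      by_contra hne
      have h4 := mul_le_of_dvd_of_ne (b := p + 1) Nat.card_pos.ne' hb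
        (Subgroup.card_dvd_of_le (inf_le_left : T ⊓ X ≤ T)) hne
      have h5 : (p + 1) * F₀.ncard ≤ (p + 1) * Nat.card (T ⊓ X : Subgroup C) := Nat.mul_le_mul_left _ h2
      omega
    have h4 : T ⊓ X = T := Subgroup.eq_of_le_of_card_ge inf_le_left h3.ge
    rw [← h4]
    exact inf_le_right
  have hconjF : ∀ z ∈ F₀, ∀ g ∈ normalizer (T : Set C), g * z * g⁻¹ = z := by
    intro z hz g hg
    exact hz.2 _ ((mem_normalizer_iff.1 hg z).1 hz.1) (isConj_iff.2 ⟨g, rfl⟩)
  have hTN : T ≤ centralizer ((normalizer (T : Set C) : Subgroup C) : Set C) := by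
    apply key
    intro z hz
    rw [mem_centralizer_iff]
    intro g hg
    have := hconjF z hz g hg
    calc g * z = (g * z * g⁻¹) * g := by group
      _ = z * g := by rw [this]
  have hTab : ∀ x ∈ T, ∀ y ∈ T, x * y = y * x := by
    intro x hx y hy
    exact (mem_centralizer_iff.1 (hTN hy) x (Subgroup.le_normalizer hx))
  -- fusion
  have hfus : ∀ x ∈ T, ∀ y ∈ T, (∃ g : C, g * x * g⁻¹ = y) → ∃ h ∈ T, h * x * h⁻¹ = y := by
    rintro x hx y hy ⟨g, hg⟩
    refine ⟨1, one_mem _, ?_⟩
    have hTX : T ≤ centralizer ({y} : Set C) := by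
      intro t ht
      rw [mem_centralizer_singleton_iff]
      exact hTab t ht y hy
    have hTX' : T.map (MulAut.conj g).toMonoidHom ≤ centralizer ({y} : Set C) := by
      rintro _ ⟨t, ht, rfl⟩
      rw [mem_centralizer_singleton_iff]
      show g * t * g⁻¹ * y = y * (g * t * g⁻¹)
      rw [← hg]
      calc g * t * g⁻¹ * (g * x * g⁻¹) = g * (t * x) * g⁻¹ := by group
        _ = g * (x * t) * g⁻¹ := by rw [hTab t ht x hx]
        _ = _ := by group
    have hcard : Nat.card (T.map (MulAut.conj g).toMonoidHom) = Nat.card T :=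
      Nat.card_congr (T.equivMapOfInjective _ (MulAut.conj g).injective).symm.toEquiv
    obtain ⟨c, hc, hcc⟩ := H2.exists_conj_of_abelian_hall _ (centralizer ({y} : Set C)) T
      (T.map (MulAut.conj g).toMonoidHom) rfl hTX hTX' hTab (by
        rintro _ ⟨s, hs, rfl⟩ _ ⟨t, ht, rfl⟩
        show g * s * g⁻¹ * (g * t * g⁻¹) = g * t * g⁻¹ * (g * s * g⁻¹)
        calc g * s * g⁻¹ * (g * t * g⁻¹) = g * (s * t) * g⁻¹ := by group
          _ = g * (t * s) * g⁻¹ := by rw [hTab s hs t ht]
          _ = _ := by group) hcard.symm (Nat.Coprime.coprime_dvd_right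
            (Subgroup.relIndex_dvd_index_of_le hTX) hHall)
    have hn : c * g ∈ normalizer (T : Set C) := by
      rw [mem_normalizer_iff]
      intro t
      constructor
      · intro ht
        rw [← hcc]
        refine ⟨g * t * g⁻¹, ⟨t, ht, rfl⟩, ?_⟩
        show c * (g * t * g⁻¹) * c⁻¹ = _
        group
      · intro ht
        rw [← hcc] at ht
        obtain ⟨_, ⟨s, hs, rfl⟩, hs'⟩ := ht
        have h1 : c * (g * s * g⁻¹) * c⁻¹ = c * g * t * (c * g)⁻¹ := hs'
        have h2 : s = t := by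
          have h3 : s = (c * g)⁻¹ * (c * (g * s * g⁻¹) * c⁻¹) * (c * g) := by group
          rw [h3, h1]; group
        rwa [← h2]
    have h1 := mem_centralizer_iff.1 (hTN hx) _ hn
    have h2 : (c * g) * x * (c * g)⁻¹ = x := by rw [h1]; group
    have h3 : c * y * c⁻¹ = y := by
      rw [mem_centralizer_singleton_iff] at hc
      rw [hc]; group
    have h4 : (c * g) * x * (c * g)⁻¹ = c * (g * x * g⁻¹) * c⁻¹ := by group
    rw [hg, h3, h2] at h4
    rw [h4]; group
  obtain ⟨L, hLn, hL⟩ := (Cfsg.Agent.S0079.result T hT hHall).2 hfus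
  have hLcard : Nat.card L * Nat.card T = Nat.card C := hL.card_mul
  have hLidx : Nat.card L = T.index := by
    have h1 := T.card_mul_index
    rw [← hLcard, mul_comm] at h1
    exact (Nat.eq_of_mul_eq_mul_right Nat.card_pos h1).symm
  have hpT : ¬ p ∣ Nat.card T := fun h => by have := hb p hp.out h; omega
  obtain ⟨P, -, hP⟩ := H1.exists_invariant_sylow_ge T L (by rw [Subgroup.normalizer_eq_top_iff.2 hLn]; exact le_top)
    (by rw [hLidx]; exact hHall) (Or.inl (by infer_instance)) p ⊥ bot_le IsPGroup.of_bot (by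
      intro t ht
      rw [mem_normalizer_iff]
      intro h
      rw [mem_bot, mem_bot]
      constructor
      · rintro rfl; group
      · intro h'
        have : h = t⁻¹ * (t * h * t⁻¹) * t := by group
        rw [this, h']; group)
  set Q := (P : Subgroup L).map L.subtype with hQ
  have hQcard : Nat.card Q = p ^ (Nat.card C).factorization p := by
    have h1 : Nat.card Q = Nat.card P := Nat.card_congr ((P : Subgroup L).equivMapOfInjective _ L.subtype_injective).symm.toEquiv
    rw [h1, P.card_eq_multiplicity, ← hLcard, Nat.factorization_mul Nat.card_pos.ne' Nat.card_pos.ne',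
      Finsupp.add_apply, Nat.factorization_eq_zero_of_not_dvd hpT, add_zero]
  refine ⟨Sylow.ofCard Q hQcard, ?_⟩
  refine le_centralizer_of_relIndex_le (center C) T Q le_rfl (P.isPGroup'.map _) hP ?_ hb
  exact hU (Sylow.ofCard Q hQcard)

end Cfsg.Agent.H24
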