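import Mathlib
import Cfsg.Agent.H24.NilCount
import Cfsg.Agent.H24.ClassSize
import Cfsg.Agent.H2.NComp

set_option autoImplicit false

/-! # H24/NilCount2: Frattini argument for nilpotent Hall subgroups; Sylow dichotomy -/

namespace Cfsg.Agent.H24

open Subgroup
open scoped Pointwise

variable {N : Type*} [Group N]

/-- relative Wielandt conjugacy -/
theorem wielandt_rel [Finite N] {T X K : Subgroup N} (hT : Group.IsNilpotent T)
    (hHall : (Nat.card T).Coprime (T.relIndex X)) (hTX : T ≤ X) (hKX : K ≤ X)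
    (hK : ∀ q : ℕ, q.Prime → q ∣ Nat.card K → q ∣ Nat.card T) :
    ∃ x ∈ X, K ≤ MulAut.conj x • T := by
  have h1 : Group.IsNilpotent (T.subgroupOf X) :=
    Group.nilpotent_of_mulEquiv (Subgroup.subgroupOfEquivOfLe hTX).symm
  obtain ⟨x, hx⟩ := H1.wielandt_hall h1 (by rw [H1.card_subgroupOf hTX]; exact hHall)
    (Nat.card (K.subgroupOf X)) (K.subgroupOf X) rfl (by
      rw [H1.card_subgroupOf hTX, H1.card_subgroupOf hKX]; exact hK)
  refine ⟨x, x.2, ?_⟩
  have h2 := Subgroup.map_mono (f := X.subtype) hx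
  rw [H1.map_conj_smul, Subgroup.map_subgroupOf_eq_of_le hTX, Subgroup.map_subgroupOf_eq_of_le hKX] at h2
  exact h2

/-- Frattini argument for nilpotent Hall subgroups -/
theorem frattini_nilpotent_hall [Finite N] {T K : Subgroup N} [K.Normal] (hT : Group.IsNilpotent T)
    (hHall : (Nat.card T).Coprime T.index) (hTK : T ≤ K) (n : N) :
    ∃ k ∈ K, ∃ m ∈ normalizer (T : Set N), n = k * m := by
  have h1 : MulAut.conj n • T ≤ K := by
    rw [← H1.conj_smul_normal (N := K) n, H1.conj_smul_le_conj_smul_iff]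
    exact hTK
  obtain ⟨k, hk, hkn⟩ := wielandt_rel (X := K) (K := MulAut.conj n • T) hT
    (hHall.coprime_dvd_right (Subgroup.relIndex_dvd_index_of_le hTK)) hTK h1 (by
      rw [H1.card_conj_smul]; intro q _ h; exact h)
  have h2 : MulAut.conj n • T = MulAut.conj k • T :=
    Subgroup.eq_of_le_of_card_ge hkn (by rw [H1.card_conj_smul, H1.card_conj_smul])
  refine ⟨k, hk, k⁻¹ * n, ?_, by group⟩
  rw [H1.mem_normalizer_iff_conj_smul, ← H1.conj_smul_smul, h2, H1.conj_smul_smul]
  simp

/-- if `N = K·M` with `K` normal then `|N : M|` divides `|K|` -/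
theorem index_dvd_card_of_mul [Finite N] {K M : Subgroup N} [K.Normal]
    (h : ∀ n : N, ∃ k ∈ K, ∃ m ∈ M, n = k * m) : M.index ∣ Nat.card K := by
  have htop : K ⊔ M = ⊤ := by
    rw [eq_top_iff]
    intro n _
    obtain ⟨k, hk, m, hm, rfl⟩ := h n
    exact mul_mem (mem_sup_left hk) (mem_sup_right hm)
  have h1 : K.relIndex M = K.index := by
    rw [← relIndex_sup_left (K := K) (H := M), htop, relIndex_top_right]
  have h2 : Nat.card K * K.index = Nat.card N := K.card_mul_index
  have h3 : Nat.card M * M.index = Nat.card N := M.card_mul_index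
  have h4 : Nat.card (K.subgroupOf M) * K.relIndex M = Nat.card M := (K.subgroupOf M).card_mul_index
  rw [h1] at h4
  refine ⟨Nat.card (K.subgroupOf M), ?_⟩
  have h5 : 0 < K.index := Nat.pos_of_ne_zero (Subgroup.index_ne_zero_of_finite)
  apply Nat.eq_of_mul_eq_mul_right h5
  rw [h2, ← h3, ← h4]
  ring

theorem sylow_dichotomy [Finite N] {p : ℕ} [hp : Fact p.Prime] (D T : Subgroup N)
    [hDn : D.Normal] (hD : IsPGroup p D) (hT : Group.IsNilpotent T)
    (hHall : (Nat.card T).Coprime T.index)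
    (hpT : ¬ p ∣ Nat.card T) (hTD : T ≤ centralizer (D : Set N))
    (hcard : Nat.card D * p = p ^ (Nat.card N).factorization p) :
    (∃ P₁ : Sylow p N, (P₁ : Subgroup N) ≤ normalizer (T : Set N)) ∨
    (∃ (P₂ : Sylow p N) (g : N), g ∈ normalizer ((P₂ : Subgroup N) : Set N) ∧
      (∀ y ∈ (P₂ : Subgroup N), g * y * g⁻¹ = y ↔ y ∈ D) ∧
      ∃ u ∈ (P₂ : Subgroup N), u ∈ centralizer (D : Set N) ∧ u ∉ D) := by
  classical
  set C := centralizer (D : Set N) with hC
  haveI hCn : C.Normal := Subgroup.normal_centralizer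
  obtain ⟨Q₀⟩ := (inferInstance : Nonempty (Sylow p C))
  by_cases h : normalizer ((Q₀ : Subgroup C) : Set C) ≤ centralizer ((Q₀ : Subgroup C) : Set C)
  · left
    have hpc := hasNormalPComplement_of_relIndex_eq_one Q₀ (relIndex_eq_one.2 h)
    obtain ⟨K₀, hK₀n, hpK₀, k, hk⟩ := H2.hasNormalPComplement_iff.1 hpc
    haveI := hK₀n
    have hmem : ∀ x : N, x ∈ K₀.map C.subtype ↔ x ∈ C ∧ Nat.Coprime (orderOf x) p := by
      intro x
      constructor
      · rintro ⟨y, hy, rfl⟩
        refine ⟨y.2, ?_⟩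
        have := (H2.mem_normal_complement_iff hpK₀ hk y).1 hy
        rwa [← Subgroup.orderOf_coe] at this
      · rintro ⟨h1, h2⟩
        refine ⟨⟨x, h1⟩, ?_, rfl⟩
        refine (H2.mem_normal_complement_iff hpK₀ hk _).2 ?_
        rwa [Subgroup.orderOf_mk]
    haveI hKn : (K₀.map C.subtype).Normal := by
      constructor
      intro x hx g
      rw [hmem] at hx ⊢
      refine ⟨hCn.conj_mem x hx.1 g, ?_⟩
      have h1 : orderOf (g * x * g⁻¹) = orderOf x := by
        have := MulEquiv.orderOf_eq (MulAut.conj g) x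
        simpa using this
      rw [h1]
      exact hx.2
    have hTK : T ≤ K₀.map C.subtype := by
      intro t ht
      rw [hmem]
      refine ⟨hTD ht, ?_⟩
      have h1 : orderOf t ∣ Nat.card T := by
        have := orderOf_dvd_natCard (⟨t, ht⟩ : T)
        rwa [Subgroup.orderOf_mk] at this
      exact Nat.Coprime.coprime_dvd_left h1 ((Nat.Prime.coprime_iff_not_dvd hp.out).2 hpT).symm
    have hidx := index_dvd_card_of_mul (frattini_nilpotent_hall hT hHall hTK)
    have hnd : ¬ p ∣ (normalizer (T : Set N)).index := by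
      intro hd
      apply hpK₀
      have := hd.trans hidx
      rwa [H1.card_map_subtype] at this
    obtain ⟨Q, hQ, -⟩ := exists_sylow_le_of_not_dvd_index _ hnd ⊥ IsPGroup.of_bot bot_le
    exact ⟨Q, hQ⟩
  · right
    obtain ⟨g₀, hg₀, hg₀'⟩ := Set.not_subset.1 h
    have hgC : (g₀ : N) ∈ C := g₀.2
    have hgD : ∀ d ∈ D, (g₀ : N) * d * (g₀ : N)⁻¹ = d := by
      intro d hd
      have := mem_centralizer_iff.1 hgC d hd
      rw [← this]; group
    set U := (Q₀ : Subgroup C).map C.subtype with hU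
    have hUp : IsPGroup p U := Q₀.isPGroup'.map _
    have hDU : IsPGroup p (D ⊔ U : Subgroup N) := IsPGroup.to_sup_of_normal_left hD hUp
    obtain ⟨P₂, hP₂⟩ := hDU.exists_le_sylow
    have hUnD : ∃ u ∈ U, (g₀ : N) * u * (g₀ : N)⁻¹ ≠ u := by
      by_contra hcon
      push Not at hcon
      apply hg₀'
      show g₀ ∈ centralizer ((Q₀ : Subgroup C) : Set C)
      rw [mem_centralizer_iff]
      intro q hq
      apply Subtype.ext
      have h1 := hcon (q : N) ⟨q, hq, rfl⟩
      show (q : N) * (g₀ : N) = (g₀ : N) * q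
      calc (q : N) * (g₀ : N) = ((g₀ : N) * q * (g₀ : N)⁻¹) * g₀ := by rw [h1]
        _ = _ := by group
    obtain ⟨u, hu, hgu⟩ := hUnD
    have huD : u ∉ D := fun h => hgu (hgD u h)
    have hP₂card : Nat.card (P₂ : Subgroup N) = Nat.card D * p := by
      rw [hcard]; exact P₂.card_eq_multiplicity
    -- any subgroup between `D` and `P₂`
    have hbetween : ∀ F : Subgroup N, D ≤ F → F ≤ P₂ → F ≠ D → F = P₂ := by
      intro F h1 h2 h3
      have h4 : Nat.card D ∣ Nat.card F := Subgroup.card_dvd_of_le h1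
      have h5 : Nat.card F ∣ Nat.card D * p := by
        rw [← hP₂card]; exact Subgroup.card_dvd_of_le h2
      obtain ⟨t, ht⟩ := h4
      rw [ht] at h5
      have h6 : t ∣ p := Nat.dvd_of_mul_dvd_mul_left Nat.card_pos h5
      rcases (Nat.dvd_prime hp.out).1 h6 with h7 | h7
      · exfalso
        apply h3
        rw [h7, mul_one] at ht
        exact (Subgroup.eq_of_le_of_card_ge h1 ht.le).symm
      · rw [h7] at ht
        exact Subgroup.eq_of_le_of_card_ge h2 (by rw [ht, hP₂card])
    have hP₂eq : D ⊔ U = P₂ := by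
      apply hbetween _ le_sup_left hP₂
      intro h1
      apply huD
      rw [← h1]
      exact mem_sup_right hu
    refine ⟨P₂, g₀, ?_, ?_, u, hP₂ (mem_sup_right hu), ?_, huD⟩
    · rw [← hP₂eq, H1.mem_normalizer_iff_conj_smul, H1.conj_smul_sup, H1.conj_smul_normal]
      congr 1
      rw [hU]
      have h1 := H1.map_conj_smul (f := C.subtype) (g := g₀) (H := (Q₀ : Subgroup C))
      have h2 : MulAut.conj g₀ • (Q₀ : Subgroup C) = Q₀ := H1.mem_normalizer_iff_conj_smul.1 hg₀
      rw [h2] at h1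
      exact h1.symm
    · intro y hy
      have h1 : (P₂ : Subgroup N) ⊓ centralizer ({(g₀ : N)} : Set N) = D := by
        by_contra hne
        have h2 := hbetween _ (le_inf (le_sup_left.trans hP₂) (by
          intro d hd
          rw [mem_centralizer_singleton_iff]
          exact (mem_centralizer_iff.1 hgC d hd))) inf_le_left hne
        apply hgu
        have h3 : u ∈ (P₂ : Subgroup N) ⊓ centralizer ({(g₀ : N)} : Set N) := by
          rw [h2]; exact hP₂ (mem_sup_right hu)
        have h4 := mem_centralizer_singleton_iff.1 h3.2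
        rw [← h4]; group
      constructor
      · intro h2
        rw [← h1]
        refine mem_inf.2 ⟨hy, ?_⟩
        rw [mem_centralizer_singleton_iff]
        calc y * (g₀ : N) = ((g₀ : N) * y * (g₀ : N)⁻¹) * g₀ := by rw [h2]
          _ = _ := by group
      · exact hgD y
    · obtain ⟨v, _, hv⟩ := hu
      rw [← hv]
      exact v.2

theorem hall_join [Finite N] {p : ℕ} [hp : Fact p.Prime] {S : Finset ℕ}
    (hpS : p ∉ S) (hpT' : ∀ q ∈ S, q.Prime) (P : Sylow p N) (T : Subgroup N) (hT : Group.IsNilpotent T)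
    (hcard : Nat.card T = sPart S (Nat.card N)) (hc : T ≤ centralizer ((P : Subgroup N) : Set N)) :
    ∃ H : Subgroup N, Nat.card H = sPart (insert p S) (Nat.card N) ∧ Group.IsNilpotent H := by
  have hcomm : ∀ (m : (P : Subgroup N)) (n : T), Commute ((P : Subgroup N).subtype m) (T.subtype n) := by
    intro m n
    exact mem_centralizer_iff.1 (hc n.2) m m.2
  set f := MonoidHom.noncommCoprod (P : Subgroup N).subtype T.subtype hcomm with hf
  have hpT : ¬ p ∣ Nat.card T := by
    rw [hcard]
    intro h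
    exact hpS (mem_of_dvd_sPart hpT' hp.out h)
  have hinf : (P : Subgroup N) ⊓ T = ⊥ := by
    apply H1.inf_eq_bot_of_card_coprime
    rw [P.card_eq_multiplicity]
    exact Nat.Coprime.pow_left _ ((Nat.Prime.coprime_iff_not_dvd hp.out).2 hpT)
  have hinj : Function.Injective f := by
    rw [injective_iff_map_eq_one]
    rintro ⟨a, b⟩ hab
    have h1 : (a : N) * (b : N) = 1 := hab
    have h2 : (a : N) ∈ (P : Subgroup N) ⊓ T := mem_inf.2 ⟨a.2, by
      rw [eq_inv_of_mul_eq_one_left h1]; exact inv_mem b.2⟩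
    rw [hinf, mem_bot] at h2
    rw [h2, one_mul] at h1
    exact Prod.ext (Subtype.ext h2) (Subtype.ext h1)
  haveI : Group.IsNilpotent (P : Subgroup N) := P.isPGroup'.isNilpotent
  refine ⟨f.range, ?_, ?_⟩
  · rw [sPart_insert hpS, ← hcard, ← P.card_eq_multiplicity, ← Nat.card_prod]
    exact (Nat.card_congr (MonoidHom.ofInjective hinj).toEquiv).symm
  · exact Group.nilpotent_of_surjective f.rangeRestrict f.rangeRestrict_surjective

end Cfsg.Agent.H24
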