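import Mathlib
import Cfsg.Agent.H24.NilCount2

set_option autoImplicit false

/-! # H24/NilCount3: many classes of `π`-elements force a nilpotent Hall `π`-subgroup -/

namespace Cfsg.Agent.H24

open Subgroup
open scoped Pointwise

universe u

section

variable {p : ℕ} [hp : Fact p.Prime] {σ : Finset ℕ}

theorem CC_le_or_conj_le (hσ : ∀ q ∈ σ, q.Prime ∧ p < q)
    (ih : ∀ (X : Type u) [Group X] [Finite X],
      (∃ T : Subgroup X, Nat.card T = sPart σ (Nat.card X) ∧ Group.IsNilpotent T) ∨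
        (p + 1) * CC (piElts (σ : Set ℕ) X) ≤ sPart σ (Nat.card X))
    {G : Type u} [Group G] [Finite G] (T : Subgroup G) (hT : Group.IsNilpotent T)
    (hTcard : Nat.card T = sPart σ (Nat.card G))
    (hHall : (Nat.card T).Coprime T.index) (X : Subgroup G) :
    (p + 1) * CC (piElts (σ : Set ℕ) X) ≤ Nat.card T ∨ ∃ g : G, MulAut.conj g • T ≤ X := by
  have hprimes : ∀ q ∈ σ, q.Prime := fun q hq => (hσ q hq).1
  have hdvd : sPart σ (Nat.card X) ∣ Nat.card T := by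
    rw [hTcard]
    exact sPart_dvd Nat.card_pos.ne' (Subgroup.card_subgroup_dvd_card X)
  rcases ih X with ⟨T₁, hT₁, hT₁n⟩ | h
  · by_cases hc : sPart σ (Nat.card X) = Nat.card T
    · right
      have h1 : Nat.card (T₁.map X.subtype) = Nat.card T := by
        rw [H1.card_map_subtype, hT₁, hc]
      obtain ⟨x, hx⟩ := H1.wielandt_hall hT hHall _ (T₁.map X.subtype) rfl (by
        rw [h1]; intro q _ h; exact h)
      refine ⟨x, ?_⟩
      have h2 : T₁.map X.subtype = MulAut.conj x • T :=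
        Subgroup.eq_of_le_of_card_ge hx (by rw [H1.card_conj_smul, h1])
      rw [← h2]
      exact Subgroup.map_subtype_le _
    · left
      have h1 := mul_le_of_dvd_of_ne (b := p + 1) Nat.card_pos.ne' (by
        intro q hq hd
        rw [hTcard] at hd
        exact (hσ q (mem_of_dvd_sPart hprimes hq hd)).2) hdvd hc
      exact (Nat.mul_le_mul_left _ (CC_piElts_le σ hprimes X)).trans h1
  · left
    exact h.trans (Nat.le_of_dvd Nat.card_pos hdvd)

theorem arith_one {p n₁ n₂ d t F c K : ℕ} (hp : 2 ≤ p) (h1 : (p + 1) * n₁ ≤ t) (h2 : n₁ + n₂ ≤ c)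
    (h3 : p * c + F ≤ p * F + t) (h4 : (p + 1) * F ≤ t) (hK : K ≤ n₁ * (d * p) + n₂ * d) :
    K ≤ d * t := by
  obtain ⟨r, rfl⟩ : ∃ r, p = r + 1 := ⟨p - 1, by omega⟩
  have h5 : (r + 2) * c ≤ 2 * t := by
    have h6 : (r + 1) * ((r + 2) * c) ≤ (r + 1) * (2 * t) := by
      nlinarith [Nat.mul_le_mul_left r h4]
    exact Nat.le_of_mul_le_mul_left h6 (by omega)
  have h6 : (r + 2) * K ≤ (r + 2) * (d * t) := by
    have h7 : K ≤ d * (n₁ * r + (n₁ + n₂)) := by
      refine hK.trans (le_of_eq ?_)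
      ring
    have h8 : (r + 2) * (n₁ * r + (n₁ + n₂)) ≤ (r + 2) * t := by
      nlinarith [Nat.mul_le_mul_left r h1, Nat.mul_le_mul_left (r + 2) h2]
    calc (r + 2) * K ≤ (r + 2) * (d * (n₁ * r + (n₁ + n₂))) := Nat.mul_le_mul_left _ h7
      _ = d * ((r + 2) * (n₁ * r + (n₁ + n₂))) := by ring
      _ ≤ d * ((r + 2) * t) := Nat.mul_le_mul_left _ h8
      _ = (r + 2) * (d * t) := by ring
  exact Nat.le_of_mul_le_mul_left h6 (by omega)

theorem arith_two {p n₁ n₂ d t a₁ a₂ K : ℕ} (hp : 2 ≤ p) (h1 : n₁ ≤ d) (h2 : 2 * n₂ + d ≤ d * p)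
    (h3 : 2 * (p + 1) * a₁ ≤ t * (p + 2)) (h4 : (p + 1) * a₂ ≤ t) (hK : K ≤ n₁ * a₁ + n₂ * a₂) :
    K ≤ d * t := by
  obtain ⟨r, rfl⟩ : ∃ r, p = r + 1 := ⟨p - 1, by omega⟩
  have h5 : 2 * n₂ ≤ d * r := by nlinarith
  have h6 : 2 * (r + 2) * K ≤ 2 * (r + 2) * (d * t) := by
    calc 2 * (r + 2) * K ≤ 2 * (r + 2) * (n₁ * a₁ + n₂ * a₂) := Nat.mul_le_mul_left _ hK
      _ = n₁ * (2 * (r + 1 + 1) * a₁) + (2 * n₂) * ((r + 1 + 1) * a₂) := by ring
      _ ≤ d * (t * (r + 1 + 2)) + (d * r) * t := by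
        apply add_le_add
        · exact Nat.mul_le_mul h1 h3
        · exact Nat.mul_le_mul h5 h4
      _ ≤ 2 * (r + 2) * (d * t) := by
        nlinarith [Nat.zero_le (d * t)]
  exact Nat.le_of_mul_le_mul_left h6 (by omega)

theorem arith_three {p n₁ n₂ d t P a₂ K : ℕ} (hp : 2 ≤ p) (h1 : n₁ ≤ d) (h2 : n₂ + d ≤ P)
    (h3 : d * p ^ 2 ≤ P) (h4 : (p + 1) * a₂ ≤ t) (hK : K ≤ n₁ * t + n₂ * a₂) :
    p * K ≤ P * t := by
  have h6 : (p + 1) * K ≤ t * (d * p + P) := by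
    calc (p + 1) * K ≤ (p + 1) * (n₁ * t + n₂ * a₂) := Nat.mul_le_mul_left _ hK
      _ = n₁ * t * (p + 1) + n₂ * ((p + 1) * a₂) := by ring
      _ ≤ d * t * (p + 1) + n₂ * t := by
        apply add_le_add
        · exact Nat.mul_le_mul_right _ (Nat.mul_le_mul_right _ h1)
        · exact Nat.mul_le_mul_left _ h4
      _ = t * (d * p + (n₂ + d)) := by ring
      _ ≤ t * (d * p + P) := Nat.mul_le_mul_left _ (Nat.add_le_add_left h2 _)
  have h7 : (p + 1) * (p * K) ≤ (p + 1) * (P * t) := by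
    calc (p + 1) * (p * K) = p * ((p + 1) * K) := by ring
      _ ≤ p * (t * (d * p + P)) := Nat.mul_le_mul_left _ h6
      _ = t * (d * p ^ 2 + p * P) := by ring
      _ ≤ t * (P + p * P) := Nat.mul_le_mul_left _ (Nat.add_le_add_right h3 _)
      _ = _ := by ring
  exact Nat.le_of_mul_le_mul_left h7 (by omega)

end

end Cfsg.Agent.H24
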