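import Mathlib
import Cfsg.Agent.H24.NilCount3

set_option autoImplicit false

/-! # H24/NilCount4: main induction step -/

namespace Cfsg.Agent.H24

open Subgroup
open scoped Pointwise

universe u

variable {p : ℕ} [hp : Fact p.Prime] {σ : Finset ℕ}

/-- every `σ`-element is conjugate, inside `X`, to an element of `T` -/
theorem exists_conj_mem_hall {G : Type u} [Group G] [Finite G] (hσ : ∀ q ∈ σ, q.Prime)
    {T X : Subgroup G} (hT : Group.IsNilpotent T)
    (hTcard : Nat.card T = sPart σ (Nat.card G)) (hHall : (Nat.card T).Coprime T.index)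
    (hTX : T ≤ X) (z : G) (hzX : z ∈ X) (hz : IsPiElt (σ : Set ℕ) z) :
    ∃ x ∈ X, x * z * x⁻¹ ∈ T := by
  obtain ⟨x, hx, hxz⟩ := wielandt_rel (X := X) (K := zpowers z) hT
    (hHall.coprime_dvd_right (Subgroup.relIndex_dvd_index_of_le hTX)) hTX
    ((zpowers_le).2 hzX) (by
      intro q hq hd
      rw [Nat.card_zpowers] at hd
      have hqσ : q ∈ σ := hz q hq hd
      rw [hTcard]
      have h1 : q ∣ Nat.card G := hd.trans (orderOf_dvd_natCard z)
      have h2 := factorization_sPart hσ (Nat.card G) q
      rw [if_pos hqσ] at h2
      rw [hq.dvd_iff_one_le_factorization (sPart_pos hσ _).ne', h2]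
      exact (hq.dvd_iff_one_le_factorization Nat.card_pos.ne').1 h1)
  refine ⟨x⁻¹, inv_mem hx, ?_⟩
  have := hxz (mem_zpowers z)
  rw [H1.mem_conj_smul] at this
  rwa [inv_inv]

theorem main_step (hσ : ∀ q ∈ σ, q.Prime ∧ p < q)
    (ih : ∀ (X : Type u) [Group X] [Finite X],
      (∃ T : Subgroup X, Nat.card T = sPart σ (Nat.card X) ∧ Group.IsNilpotent T) ∨
        (p + 1) * CC (piElts (σ : Set ℕ) X) ≤ sPart σ (Nat.card X))
    (G : Type u) [Group G] [Finite G] :
    (∃ H : Subgroup G, Nat.card H = sPart (insert p σ) (Nat.card G) ∧ Group.IsNilpotent H) ∨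
      p * CC (piElts ((insert p σ : Finset ℕ) : Set ℕ) G) ≤ sPart (insert p σ) (Nat.card G) := by
  classical
  have hprimes : ∀ q ∈ σ, q.Prime := fun q hq => (hσ q hq).1
  have hpσ : p ∉ σ := fun h => lt_irrefl _ (hσ p h).2
  set f := (Nat.card G).factorization p with hf
  have hcentp : ∀ X : Subgroup G, CC (piElts ({p} : Set ℕ) X) ≤ p ^ f := by
    intro X
    obtain ⟨Q⟩ := (inferInstance : Nonempty (Sylow p X))
    refine (CC_pElts_le Q).trans ?_
    rw [Q.card_eq_multiplicity]
    apply Nat.pow_le_pow_right hp.out.pos
    exact (Nat.factorization_le_iff_dvd Nat.card_pos.ne' Nat.card_pos.ne').2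
      (Subgroup.card_subgroup_dvd_card _) p
  rcases ih G with ⟨T, hTcard, hTnil⟩ | hsmall
  swap
  · right
    have h1 := CC_le_two (G := G) (π := ((insert p σ : Finset ℕ) : Set ℕ)) (π₁ := (σ : Set ℕ))
      (π₂ := ({p} : Set ℕ)) (fun g hg => dec_insert' g hg) (piElts (σ : Set ℕ) G) ∅
      (fun u hu => ⟨u, IsConj.refl u, Or.inl hu⟩) (p ^ f) 0
      (fun x _ => hcentp _) (fun x hx => absurd hx (Set.notMem_empty x))
    rw [mul_zero, add_zero] at h1
    rw [sPart_insert hpσ]
    calc p * CC (piElts ((insert p σ : Finset ℕ) : Set ℕ) G)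
        ≤ p * (CC (piElts (σ : Set ℕ) G) * p ^ f) := Nat.mul_le_mul_left _ h1
      _ ≤ (p + 1) * (CC (piElts (σ : Set ℕ) G) * p ^ f) := Nat.mul_le_mul_right _ (Nat.le_succ p)
      _ = p ^ f * ((p + 1) * CC (piElts (σ : Set ℕ) G)) := by ring
      _ ≤ p ^ f * sPart σ (Nat.card G) := Nat.mul_le_mul_left _ hsmall
  · by_contra hcon
    push Not at hcon
    obtain ⟨hno, hbig⟩ := hcon
    have hno' : ¬ ∃ H : Subgroup G, Nat.card H = sPart (insert p σ) (Nat.card G) ∧
        Group.IsNilpotent H := fun ⟨H, h1, h2⟩ => hno H h1 h2
    have hTprimes : ∀ q : ℕ, q.Prime → q ∣ Nat.card T → q ∈ σ := by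
      intro q hq hd
      rw [hTcard] at hd
      exact mem_of_dvd_sPart hprimes hq hd
    have hb : ∀ q : ℕ, q.Prime → q ∣ Nat.card T → p + 1 ≤ q := fun q hq hd =>
      (hσ q (hTprimes q hq hd)).2
    have hpT : ¬ p ∣ Nat.card T := fun h => hpσ (hTprimes p hp.out h)
    have hidx : T.index = Nat.card G / sPart σ (Nat.card G) := by
      rw [← hTcard, ← T.card_mul_index, Nat.mul_div_cancel_left _ Nat.card_pos]
    have hHall : (Nat.card T).Coprime T.index := by
      rw [Nat.coprime_iff_gcd_eq_one]
      by_contra hne
      obtain ⟨q, hq, hd⟩ := Nat.exists_prime_and_dvd hne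
      have h1 := hTprimes q hq (hd.trans (Nat.gcd_dvd_left _ _))
      apply not_dvd_div_sPart hprimes (n := Nat.card G) Nat.card_pos.ne' h1
      rw [← hidx]
      exact hd.trans (Nat.gcd_dvd_right _ _)
    have hM := CC_le_or_conj_le hσ ih T hTnil hTcard hHall
    have hPcard : ∀ P : Sylow p G, Nat.card P = p ^ f := fun P => P.card_eq_multiplicity
    have hPcent : ∀ (P : Sylow p G) (g : G),
        ¬ (MulAut.conj g • T ≤ centralizer ((P : Subgroup G) : Set G)) := by
      intro P g hg
      exact hno' (hall_join hpσ hprimes P (MulAut.conj g • T)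
        (H1.isNilpotent_conj_smul g hTnil) (by rw [H1.card_conj_smul, hTcard]) hg)
    have hPcent' : ∀ (P : Sylow p G), ¬ (T ≤ centralizer ((P : Subgroup G) : Set G)) := by
      intro P hg
      apply hPcent P 1
      rwa [H1.conj_one_smul]
    -- the subgroup `D`
    obtain ⟨D₀⟩ := (inferInstance : Nonempty (Sylow p (centralizer (T : Set G))))
    set D : Subgroup G := (D₀ : Subgroup (centralizer (T : Set G))).map (centralizer (T : Set G)).subtype with hD
    have hDp : IsPGroup p D := D₀.isPGroup'.map _
    have hDT : D ≤ centralizer (T : Set G) := Subgroup.map_subtype_le _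
    have hTD : T ≤ centralizer (D : Set G) := by
      intro t ht
      rw [mem_centralizer_iff]
      intro d hd
      exact (mem_centralizer_iff.1 (hDT hd) t ht).symm
    -- maximality of `D`
    have hDmax : ∀ E : Subgroup G, IsPGroup p E → E ≤ centralizer (T : Set G) → D ≤ E → E = D := by
      intro E hE hET hDE
      have h1 : (D₀ : Subgroup (centralizer (T : Set G))) ≤ E.subgroupOf (centralizer (T : Set G)) := by
        intro x hx
        rw [mem_subgroupOf]
        exact hDE ⟨x, hx, rfl⟩
      have h2 : E.subgroupOf (centralizer (T : Set G)) = D₀ := D₀.is_maximal' (hE.comap_subtype) h1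
      have h3 := congrArg (Subgroup.map (centralizer (T : Set G)).subtype) h2
      rwa [Subgroup.map_subgroupOf_eq_of_le hET] at h3
    have hDconj : ∀ x : G, IsPiElt ({p} : Set ℕ) x → x ∈ centralizer (T : Set G) → ∃ d ∈ D, IsConj x d := by
      intro x hx hxT
      obtain ⟨y, hy, hxy⟩ := exists_conj_mem_sylow D₀ (u := ⟨x, hxT⟩) (by rwa [← isPiElt_coe])
      exact ⟨y, ⟨y, hy, rfl⟩, by
        have := MonoidHom.map_isConj (centralizer (T : Set G)).subtype hxy
        exact this⟩
    have hout : ∀ x : G, IsPiElt ({p} : Set ℕ) x → (¬ ∃ d ∈ D, IsConj x d) →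
        CC (piElts (σ : Set ℕ) (centralizer ({x} : Set G))) ≤ Nat.card T / (p + 1) := by
      intro x hx hxD
      rw [Nat.le_div_iff_mul_le (by omega), mul_comm]
      rcases hM (centralizer ({x} : Set G)) with h | ⟨g, hg⟩
      · exact h
      · exfalso
        apply hxD
        have h1 : g⁻¹ * x * g ∈ centralizer (T : Set G) := by
          rw [mem_centralizer_iff]
          intro t ht
          have h2 := hg (H1.conj_mem_conj_smul (g := g) ht)
          rw [mem_centralizer_singleton_iff] at h2
          calc t * (g⁻¹ * x * g) = g⁻¹ * ((g * t * g⁻¹) * x) * g := by group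
            _ = g⁻¹ * (x * (g * t * g⁻¹)) * g := by rw [h2]
            _ = _ := by group
        obtain ⟨d, hd, hxd⟩ := hDconj (g⁻¹ * x * g) (by
          have := hx.conj g⁻¹
          rwa [inv_inv] at this) h1
        refine ⟨d, hd, IsConj.trans ?_ hxd⟩
        exact isConj_iff.2 ⟨g⁻¹, by rw [inv_inv]⟩
    set cC := CC (piElts (σ : Set ℕ) (centralizer (D : Set G))) with hcC
    have hin : ∀ x ∈ D, CC (piElts (σ : Set ℕ) (centralizer ({x} : Set G))) ≤ cC := by
      intro x hx
      have hle : centralizer (D : Set G) ≤ centralizer ({x} : Set G) :=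
        Subgroup.centralizer_le (Set.singleton_subset_iff.2 hx)
      obtain ⟨R, hR1, hR2, hR3⟩ := exists_reps (piElts (σ : Set ℕ) (centralizer (D : Set G)))
      rw [hcC, ← hR1]
      refine (CC_le_of_reps (R := R.image (Subgroup.inclusion hle)) ?_).trans Finset.card_image_le
      intro z hz
      obtain ⟨c, hc, hcz⟩ := exists_conj_mem_hall hprimes hTnil hTcard hHall (hTD.trans hle) (z : G) z.2
        (isPiElt_coe.2 hz)
      obtain ⟨r, hr, hr'⟩ := hR3 ⟨c * z * c⁻¹, hTD hcz⟩ (by
        rw [mem_piElts, ← isPiElt_coe]
        exact (isPiElt_coe.2 hz).conj c)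
      refine ⟨_, Finset.mem_image_of_mem _ hr, ?_⟩
      have h1 := MonoidHom.map_isConj (Subgroup.inclusion hle) hr'
      refine IsConj.trans ?_ h1
      exact isConj_iff.2 ⟨⟨c, hc⟩, rfl⟩
    have hsigma : ∀ X : Subgroup G, CC (piElts (σ : Set ℕ) X) ≤ Nat.card T := by
      intro X
      refine (CC_piElts_le σ hprimes X).trans ?_
      rw [hTcard]
      exact Nat.le_of_dvd (sPart_pos hprimes _) (sPart_dvd Nat.card_pos.ne' (Subgroup.card_subgroup_dvd_card X))
    obtain ⟨P, hDP⟩ := hDp.exists_le_sylow
    have hDneP : D ≠ P := by
      intro h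
      apply hPcent' P
      rw [← h]
      exact hTD
    obtain ⟨m, hm⟩ := IsPGroup.iff_card.1 hDp
    have hmf : m < f := by
      have h1 : Nat.card D ∣ Nat.card P := Subgroup.card_dvd_of_le hDP
      rw [hm, hPcard] at h1
      have h2 := (Nat.pow_dvd_pow_iff_le_right hp.out.one_lt).1 h1
      rcases lt_or_eq_of_le h2 with h3 | h3
      · exact h3
      · exfalso
        apply hDneP
        apply Subgroup.eq_of_le_of_card_ge hDP
        rw [hPcard, hm, h3]
    have hbig' : p ^ f * Nat.card T < p * CC (piElts ((insert p σ : Finset ℕ) : Set ℕ) G) := by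
      rw [sPart_insert hpσ, ← hTcard] at hbig
      exact hbig
    have ha₂ : (p + 1) * (Nat.card T / (p + 1)) ≤ Nat.card T := Nat.mul_div_le _ _
    rcases Nat.lt_or_ge (m + 1) f with hcase | hcase
    · -- `|D| p² ≤ |P|`
      set A₂ : Set G := {x | x ∈ (P : Subgroup G) ∧ ¬ ∃ d ∈ D, IsConj x d} with hA₂
      have h1 := CC_le_two (G := G) (π := ((insert p σ : Finset ℕ) : Set ℕ)) (π₁ := ({p} : Set ℕ))
        (π₂ := (σ : Set ℕ)) (fun g hg => dec_insert g hg) (D : Set G) A₂ (by
          intro u hu
          obtain ⟨x, hx, hux⟩ := exists_conj_mem_sylow P hu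
          by_cases hxD : ∃ d ∈ D, IsConj x d
          · obtain ⟨d, hd, hxd⟩ := hxD
            exact ⟨d, hux.trans hxd, Or.inl hd⟩
          · exact ⟨x, hux, Or.inr ⟨hx, hxD⟩⟩) (Nat.card T) (Nat.card T / (p + 1))
        (fun x _ => hsigma _) (fun x hx => hout x (isPiElt_of_mem_pGroup P.isPGroup' hx.1) hx.2)
      have h2 : CC (D : Set G) ≤ Nat.card D := CC_le_ncard fun a ha => ⟨a, ha, IsConj.refl a⟩
      have h3 : CC A₂ + Nat.card D ≤ p ^ f := by
        have h4 : CC A₂ ≤ A₂.ncard := CC_le_ncard fun a ha => ⟨a, ha, IsConj.refl a⟩
        have h5 : A₂.ncard + (D : Set G).ncard = (A₂ ∪ (D : Set G)).ncard := by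
          rw [Set.ncard_union_eq _ (Set.toFinite _) (Set.toFinite _)]
          rw [Set.disjoint_left]
          intro a ha ha'
          exact ha.2 ⟨a, ha', IsConj.refl a⟩
        have h6 : (A₂ ∪ (D : Set G)).ncard ≤ ((P : Subgroup G) : Set G).ncard := by
          apply Set.ncard_le_ncard _ (Set.toFinite _)
          rintro a (ha | ha)
          · exact ha.1
          · exact hDP ha
        have h7 : ((P : Subgroup G) : Set G).ncard = p ^ f := hPcard P
        have h8 : (D : Set G).ncard = Nat.card D := rfl
        omega
      have h4 : Nat.card D * p ^ 2 ≤ p ^ f := by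
        rw [hm, ← pow_add]
        exact Nat.pow_le_pow_right hp.out.pos hcase
      have h5 := arith_three hp.out.two_le h2 h3 h4 ha₂ h1
      omega
    · -- `|D| p = |P|`
      have hmf1 : m + 1 = f := le_antisymm hmf hcase
      have hDcard : Nat.card D * p = p ^ f := by rw [hm, ← hmf1, pow_succ]
      have hgoal : ¬ CC (piElts ((insert p σ : Finset ℕ) : Set ℕ) G) ≤ Nat.card D * Nat.card T := by
        intro h
        have h1 : p * CC (piElts ((insert p σ : Finset ℕ) : Set ℕ) G) ≤ p * (Nat.card D * Nat.card T) :=
          Nat.mul_le_mul_left _ h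
        have h2 : p * (Nat.card D * Nat.card T) = p ^ f * Nat.card T := by rw [← hDcard]; ring
        omega
      -- pass to the normalizer of `D`
      set N := normalizer (D : Set G) with hN
      have hCN : centralizer (D : Set G) ≤ N := Subgroup.centralizer_le_normalizer _
      have hDN : D ≤ N := Subgroup.le_normalizer
      have hTN : T ≤ N := hTD.trans hCN
      have hPN : (P : Subgroup G) ≤ N := by
        have hlt : D < P := lt_of_le_of_ne hDP hDneP
        have h1 := H1.lt_normalizer_inf_of_nilpotent (P.isPGroup'.isNilpotent) hlt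
        have h2 : normalizer (D : Set G) ⊓ (P : Subgroup G) = P := by
          apply Subgroup.eq_of_le_of_card_ge inf_le_right
          have h3 : Nat.card (normalizer (D : Set G) ⊓ (P : Subgroup G) : Subgroup G) ∣ p ^ f := by
            have h3' := Subgroup.card_dvd_of_le (inf_le_right : normalizer (D : Set G) ⊓ (P : Subgroup G) ≤ P)
            have h3'' : Nat.card (P : Subgroup G) = p ^ f := hPcard P
            rwa [h3''] at h3'
          obtain ⟨j, hj, hj'⟩ := (Nat.dvd_prime_pow hp.out).1 h3
          have h4 : Nat.card D < Nat.card (normalizer (D : Set G) ⊓ (P : Subgroup G) : Subgroup G) := by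
            by_contra hge
            exact h1.ne (Subgroup.eq_of_le_of_card_ge h1.le (not_lt.1 hge))
          rw [hm, hj'] at h4
          have h5 := (Nat.pow_lt_pow_iff_right hp.out.one_lt).1 h4
          have h6 : Nat.card (P : Subgroup G) = p ^ f := hPcard P
          rw [h6, hj']
          exact Nat.pow_le_pow_right hp.out.pos (by omega)
        rw [← h2]
        exact inf_le_left
      have hfN : (Nat.card N).factorization p = f := by
        apply le_antisymm
        · exact (Nat.factorization_le_iff_dvd Nat.card_pos.ne' Nat.card_pos.ne').2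
            (Subgroup.card_subgroup_dvd_card _) p
        · rw [← hp.out.pow_dvd_iff_le_factorization Nat.card_pos.ne', ← hPcard P]
          exact Subgroup.card_dvd_of_le hPN
      haveI hD'n : (D.subgroupOf N).Normal := Subgroup.normal_in_normalizer
      have hmapcent : ∀ x : N, x ∈ centralizer ((D.subgroupOf N : Subgroup N) : Set N) ↔
          (x : G) ∈ centralizer (D : Set G) := by
        intro x
        rw [mem_centralizer_iff, mem_centralizer_iff]
        constructor
        · intro h d hd
          exact congrArg Subtype.val (h ⟨d, hDN hd⟩ (mem_subgroupOf.2 hd))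
        · intro h d hd
          exact Subtype.ext (h d (mem_subgroupOf.1 hd))
      have hdich := sylow_dichotomy (p := p) (D.subgroupOf N) (T.subgroupOf N)
        (hDp.comap_subtype)
        (Group.nilpotent_of_mulEquiv (Subgroup.subgroupOfEquivOfLe hTN).symm)
        (by
          rw [H1.card_subgroupOf hTN]
          exact hHall.coprime_dvd_right (Subgroup.relIndex_dvd_index_of_le hTN))
        (by rw [H1.card_subgroupOf hTN]; exact hpT)
        (by
          intro t ht
          rw [hmapcent]
          exact hTD (mem_subgroupOf.1 ht))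
        (by rw [H1.card_subgroupOf hDN, hfN, hDcard])
      rcases hdich with ⟨P₁, hP₁⟩ | ⟨P₂, g, hg, hfix, u, huP, huC, huD⟩
      · -- a Sylow `p`-subgroup normalizes `T`
        set Q : Subgroup G := (P₁ : Subgroup N).map N.subtype with hQ
        have hQcard : Nat.card Q = p ^ (Nat.card G).factorization p := by
          rw [H1.card_map_subtype, P₁.card_eq_multiplicity, hfN]
        have hQp : IsPGroup p Q := P₁.isPGroup'.map _
        have hQT : Q ≤ normalizer (T : Set G) := by
          rintro _ ⟨y, hy, rfl⟩
          have h1 := hP₁ hy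
          rw [mem_normalizer_iff] at h1 ⊢
          intro t
          constructor
          · intro ht
            have h2 := (h1 ⟨t, hTN ht⟩).1 (mem_subgroupOf.2 ht)
            exact mem_subgroupOf.1 h2
          · intro ht
            have h3 : t ∈ N := by
              have h4 : t = (N.subtype y)⁻¹ * (N.subtype y * t * (N.subtype y)⁻¹) * N.subtype y := by group
              rw [h4]
              exact mul_mem (mul_mem (inv_mem y.2) (hTN ht)) y.2
            have h2 := (h1 ⟨t, h3⟩).2 (mem_subgroupOf.2 ht)
            exact mem_subgroupOf.1 h2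
        set Qs : Sylow p G := Sylow.ofCard Q hQcard with hQs
        have hQs' : (Qs : Subgroup G) = Q := rfl
        have hQcent : ∀ g : G, ¬ (MulAut.conj g • T ≤ centralizer (Q : Set G)) := hPcent Qs
        set F : Subgroup G := T ⊓ centralizer (Q : Set G) with hF
        have hFne : F ≠ T := by
          intro h
          apply hQcent 1
          rw [H1.conj_one_smul, ← h]
          exact inf_le_right
        have hFcard : (p + 1) * Nat.card F ≤ Nat.card T :=
          mul_le_of_dvd_of_ne Nat.card_pos.ne' hb (Subgroup.card_dvd_of_le inf_le_left)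
            (fun h => hFne (Subgroup.eq_of_le_of_card_ge inf_le_left h.ge))
        set B : Set G := {z | z ∈ T ∧ z ∉ F} with hB
        have hBF : B.ncard + Nat.card F = Nat.card T := by
          have h1 : Nat.card F = (F : Set G).ncard := rfl
          have h2 : Nat.card T = (T : Set G).ncard := rfl
          rw [h1, h2, ← Set.ncard_union_eq _ (Set.toFinite _) (Set.toFinite _)]
          · congr 1
            ext z
            constructor
            · rintro (h | h)
              · exact h.1
              · exact h.1
            · intro h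
              by_cases hz : z ∈ F
              · exact Or.inr hz
              · exact Or.inl ⟨h, hz⟩
          · rw [Set.disjoint_left]
            intro z hz hz'
            exact hz.2 hz'
        have hpB : p * CC B ≤ B.ncard := by
          apply mul_CC_le
          intro b hbB
          have h1 : (Set.range (fun n : Q => (n : G) * b * (n : G)⁻¹)) ⊆ {x ∈ B | IsConj b x} := by
            rintro _ ⟨n, rfl⟩
            refine ⟨⟨(mem_normalizer_iff.1 (hQT n.2) b).1 hbB.1, ?_⟩, isConj_iff.2 ⟨n, rfl⟩⟩
            intro h
            apply hbB.2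
            refine mem_inf.2 ⟨hbB.1, ?_⟩
            rw [mem_centralizer_iff]
            intro q hq
            have h2 := mem_centralizer_iff.1 (mem_inf.1 h).2 ((n : G) * q * (n : G)⁻¹)
              (mul_mem (mul_mem n.2 hq) (inv_mem n.2))
            calc q * b = (n : G)⁻¹ * (((n : G) * q * (n : G)⁻¹) * ((n : G) * b * (n : G)⁻¹)) * n := by group
              _ = (n : G)⁻¹ * (((n : G) * b * (n : G)⁻¹) * ((n : G) * q * (n : G)⁻¹)) * n := by rw [h2]
              _ = b * q := by group
          refine le_trans ?_ (Set.ncard_le_ncard h1 (Set.toFinite _))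
          have h3 : (Set.range (fun n : Q => (n : G) * b * (n : G)⁻¹)).ncard =
              (centralizer ({b} : Set G)).relIndex Q := by
            rw [← natCard_conj_subgroup]
            apply Nat.card_congr
            refine Equiv.subtypeEquivRight fun x => ?_
            constructor
            · rintro ⟨n, hn⟩
              exact ⟨n, n.2, hn⟩
            · rintro ⟨n, hn, hx⟩
              exact ⟨⟨n, hn⟩, hx⟩
          rw [h3]
          have h4 : (centralizer ({b} : Set G)).relIndex Q ∣ p ^ f := by
            rw [← hQcard]
            exact relIndex_dvd_card _ _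
          obtain ⟨j, hj, hj'⟩ := (Nat.dvd_prime_pow hp.out).1 h4
          rw [hj']
          have hj0 : j ≠ 0 := by
            rintro rfl
            rw [pow_zero, relIndex_eq_one] at hj'
            apply hbB.2
            refine mem_inf.2 ⟨hbB.1, ?_⟩
            rw [mem_centralizer_iff]
            intro q hq
            exact mem_centralizer_singleton_iff.1 (hj' hq)
          calc p = p ^ 1 := (pow_one p).symm
            _ ≤ p ^ j := Nat.pow_le_pow_right hp.out.pos (Nat.pos_of_ne_zero hj0)
        have hCT : CC (T : Set G) ≤ CC B + Nat.card F := by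
          have h1 : (T : Set G) ⊆ B ∪ (F : Set G) := by
            intro z hz
            by_cases hzF : z ∈ F
            · exact Or.inr hzF
            · exact Or.inl ⟨hz, hzF⟩
          have h2 : CC (T : Set G) ≤ CC (B ∪ (F : Set G)) := CC_mono fun a ha => ⟨a, h1 ha, IsConj.refl a⟩
          have h3 : CC (F : Set G) ≤ Nat.card F := CC_le_ncard fun a ha => ⟨a, ha, IsConj.refl a⟩
          have h4 := CC_union_le B (F : Set G)
          omega
        have hpT' : p * CC (T : Set G) + Nat.card F ≤ p * Nat.card F + Nat.card T := by
          have h1 : p * CC (T : Set G) ≤ p * (CC B + Nat.card F) := Nat.mul_le_mul_left _ hCT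
          rw [mul_add] at h1
          omega
        set A₁ : Set G := {z | z ∈ T ∧ ∃ c ∈ centralizer (Q : Set G), IsConj z c} with hA₁
        set A₂ : Set G := {z | z ∈ T ∧ ¬ ∃ c ∈ centralizer (Q : Set G), IsConj z c} with hA₂
        have hTσ : ∀ z ∈ T, IsPiElt (σ : Set ℕ) z := by
          intro z hz q hq hd
          apply hTprimes q hq
          have := orderOf_dvd_natCard (⟨z, hz⟩ : T)
          rw [Subgroup.orderOf_mk] at this
          exact hd.trans this
        have hA₁c : (p + 1) * CC A₁ ≤ Nat.card T := by
          have h1 : CC A₁ ≤ CC (piElts (σ : Set ℕ) (centralizer (Q : Set G))) := by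
            obtain ⟨R, hR1, hR2, hR3⟩ := exists_reps (piElts (σ : Set ℕ) (centralizer (Q : Set G)))
            rw [← hR1]
            refine (CC_le_of_reps (R := R.image (centralizer (Q : Set G)).subtype) ?_).trans Finset.card_image_le
            rintro z ⟨hz, c, hc, hzc⟩
            obtain ⟨r, hr, hcr⟩ := hR3 ⟨c, hc⟩ (by
              rw [mem_piElts, ← isPiElt_coe]
              obtain ⟨e, he⟩ := isConj_iff.1 hzc
              show IsPiElt (σ : Set ℕ) c
              rw [← he]
              exact (hTσ z hz).conj e)
            refine ⟨_, Finset.mem_image_of_mem _ hr, hzc.trans ?_⟩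
            exact MonoidHom.map_isConj (centralizer (Q : Set G)).subtype hcr
          rcases hM (centralizer (Q : Set G)) with h | ⟨g, hg⟩
          · exact (Nat.mul_le_mul_left _ h1).trans h
          · exact absurd hg (hQcent g)
        have hsum : CC A₁ + CC A₂ ≤ CC (T : Set G) := by
          apply CC_add_le (fun z hz => hz.1) (fun z hz => hz.1)
          rintro a ⟨_, c, hc, hac⟩ b ⟨_, hb⟩ hab
          exact hb ⟨c, hc, hab.symm.trans hac⟩
        have h1 := CC_le_two (G := G) (π := ((insert p σ : Finset ℕ) : Set ℕ)) (π₁ := (σ : Set ℕ))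
          (π₂ := ({p} : Set ℕ)) (fun g hg => dec_insert' g hg) A₁ A₂ (by
            intro u hu
            obtain ⟨x, -, hx⟩ := exists_conj_mem_hall hprimes hTnil hTcard hHall (le_top) u (mem_top _) hu
            refine ⟨x * u * x⁻¹, isConj_iff.2 ⟨x, rfl⟩, ?_⟩
            by_cases h : ∃ c ∈ centralizer (Q : Set G), IsConj (x * u * x⁻¹) c
            · exact Or.inl ⟨hx, h⟩
            · exact Or.inr ⟨hx, h⟩) (Nat.card D * p) (Nat.card D)
          (fun x _ => by rw [hDcard]; exact hcentp _) (by
            rintro z ⟨hz, hz'⟩
            obtain ⟨V⟩ := (inferInstance : Nonempty (Sylow p (centralizer ({z} : Set G))))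
            refine (CC_pElts_le V).trans ?_
            set V' : Subgroup G := (V : Subgroup (centralizer ({z} : Set G))).map (centralizer ({z} : Set G)).subtype with hV'
            have hV'p : IsPGroup p V' := V.isPGroup'.map _
            have hV'c : Nat.card V' = Nat.card V := H1.card_map_subtype _
            obtain ⟨W, hW⟩ := hV'p.exists_le_sylow
            have h2 : Nat.card V' ∣ p ^ f := by
              rw [← hPcard W]
              exact Subgroup.card_dvd_of_le hW
            obtain ⟨j, hj, hj'⟩ := (Nat.dvd_prime_pow hp.out).1 h2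
            rw [← hV'c, hj', hm]
            apply Nat.pow_le_pow_right hp.out.pos
            by_contra hlt
            have hjf : j = f := by omega
            apply hz'
            have h3 : V' = W := Subgroup.eq_of_le_of_card_ge hW (by
              have h3' : Nat.card (W : Subgroup G) = p ^ f := hPcard W
              rw [h3', hj', hjf])
            obtain ⟨e, he⟩ := MulAction.exists_smul_eq G W Qs
            have he' : MulAut.conj e • (W : Subgroup G) = Q := by
              rw [← hQs', ← he]
              rfl
            refine ⟨e * z * e⁻¹, ?_, isConj_iff.2 ⟨e, rfl⟩⟩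
            rw [mem_centralizer_iff]
            intro y hy
            have h4 : y ∈ MulAut.conj e • (W : Subgroup G) := by rw [he']; exact hy
            rw [H1.mem_conj_smul, ← h3] at h4
            obtain ⟨v, hv, hv'⟩ := h4
            have h5 := mem_centralizer_singleton_iff.1 v.2
            have h6 : (v : G) = e⁻¹ * y * e := hv'
            rw [h6] at h5
            calc y * (e * z * e⁻¹) = e * ((e⁻¹ * y * e) * z) * e⁻¹ := by group
              _ = e * (z * (e⁻¹ * y * e)) * e⁻¹ := by rw [h5]
              _ = _ := by group)
        exact hgoal (arith_one hp.out.two_le hA₁c hsum hpT' hFcard h1)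
      · -- fixed points of `g` on `P₂` are `D`
        set Q : Subgroup G := (P₂ : Subgroup N).map N.subtype with hQ
        have hQcard : Nat.card Q = p ^ (Nat.card G).factorization p := by
          rw [H1.card_map_subtype, P₂.card_eq_multiplicity, hfN]
        have hQp : IsPGroup p Q := P₂.isPGroup'.map _
        set Qs : Sylow p G := Sylow.ofCard Q hQcard with hQs
        have hDQ : D ≤ Q := by
          intro d hd
          have h1 : (⟨d, hDN hd⟩ : N) ∈ D.subgroupOf N := mem_subgroupOf.2 hd
          have h2 : D.subgroupOf N ≤ P₂ := by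
            have h3 : IsPGroup p (D.subgroupOf N ⊔ (P₂ : Subgroup N) : Subgroup N) :=
              IsPGroup.to_sup_of_normal_left (hDp.comap_subtype) P₂.isPGroup'
            have h4 := P₂.is_maximal' h3 le_sup_right
            rw [← h4]
            exact le_sup_left
          exact ⟨⟨d, hDN hd⟩, h2 h1, rfl⟩
        set B : Set G := {z | z ∈ Q ∧ z ∉ D} with hB
        have hBcard : B.ncard + Nat.card D = Nat.card D * p := by
          have h0 : Nat.card Q = Nat.card D * p := by rw [hQcard, hDcard]
          have h1 : Nat.card D = (D : Set G).ncard := rfl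
          have h2 : Nat.card Q = (Q : Set G).ncard := rfl
          rw [← h0, h1, h2, ← Set.ncard_union_eq _ (Set.toFinite _) (Set.toFinite _)]
          · congr 1
            ext z
            constructor
            · rintro (h | h)
              · exact h.1
              · exact hDQ h
            · intro h
              by_cases hz : z ∈ D
              · exact Or.inr hz
              · exact Or.inl ⟨h, hz⟩
          · rw [Set.disjoint_left]
            intro z hz hz'
            exact hz.2 hz'
        have h2B : 2 * CC B ≤ B.ncard := by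
          apply mul_CC_le
          rintro b ⟨hbQ, hbD⟩
          obtain ⟨y, hy, rfl⟩ := hbQ
          have hyD : y ∉ D.subgroupOf N := fun h => hbD (mem_subgroupOf.1 h)
          have h1 : g * y * g⁻¹ ≠ y := fun h => hyD ((hfix y hy).1 h)
          have h2 : g * y * g⁻¹ ∈ (P₂ : Subgroup N) := (mem_normalizer_iff.1 hg y).1 hy
          have h3 : g * y * g⁻¹ ∉ D.subgroupOf N := by
            intro h
            apply hyD
            have := hD'n.conj_mem _ h g⁻¹
            rw [inv_inv] at this
            have h4 : g⁻¹ * (g * y * g⁻¹) * g = y := by group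
            rwa [h4] at this
          have h4 : ({N.subtype y, N.subtype (g * y * g⁻¹)} : Set G) ⊆
              {x ∈ B | IsConj (N.subtype y) x} := by
            rintro x (rfl | rfl)
            · exact ⟨⟨⟨y, hy, rfl⟩, hbD⟩, IsConj.refl _⟩
            · exact ⟨⟨⟨_, h2, rfl⟩, fun h => h3 (mem_subgroupOf.2 h)⟩,
                isConj_iff.2 ⟨N.subtype g, by simp⟩⟩
          have h5 := Set.ncard_le_ncard h4 (Set.toFinite _)
          rw [Set.ncard_pair (fun h => h1 (N.subtype_injective h).symm)] at h5
          exact h5
        have hcC' : 2 * (p + 1) * cC ≤ Nat.card T * (p + 2) := by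
          by_contra hlt
          push Not at hlt
          set C := centralizer (D : Set G) with hC
          have hTc : Nat.card (T.subgroupOf C) = Nat.card T := H1.card_subgroupOf hTD
          have hHall' : (Nat.card (T.subgroupOf C)).Coprime (T.subgroupOf C).index := by
            rw [hTc]
            exact hHall.coprime_dvd_right (Subgroup.relIndex_dvd_index_of_le hTD)
          have hTn' : Group.IsNilpotent (T.subgroupOf C) :=
            Group.nilpotent_of_mulEquiv (Subgroup.subgroupOfEquivOfLe hTD).symm
          have hcC1 : cC ≤ CC ((T.subgroupOf C : Subgroup C) : Set C) := by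
            apply CC_mono
            intro z hz
            obtain ⟨x, hx, hxz⟩ := exists_conj_mem_hall hprimes hTnil hTcard hHall hTD (z : G) z.2
              (isPiElt_coe.2 hz)
            refine ⟨⟨x, hx⟩ * z * ⟨x, hx⟩⁻¹, mem_subgroupOf.2 hxz, isConj_iff.2 ⟨⟨x, hx⟩, rfl⟩⟩
          obtain ⟨V, hV⟩ := exists_sylow_centralized (C := C) (p := p) (T.subgroupOf C) hTn' hHall'
            (by rw [hTc]; exact hb) (by
              intro U
              set U' : Subgroup G := (U : Subgroup C).map C.subtype with hU'
              have hU'C : U' ≤ C := Subgroup.map_subtype_le _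
              have hU'p : IsPGroup p U' := U.isPGroup'.map _
              have h1 : IsPGroup p (U' ⊔ D : Subgroup G) :=
                IsPGroup.to_sup_of_normal_right' hU'p hDp (hU'C.trans hCN)
              obtain ⟨W, hW⟩ := h1.exists_le_sylow
              have h2 : D.relIndex (W : Subgroup G) = p := by
                have h3 : Nat.card (D.subgroupOf (W : Subgroup G)) * D.relIndex (W : Subgroup G) = Nat.card (W : Subgroup G) :=
                  (D.subgroupOf (W : Subgroup G)).card_mul_index
                rw [H1.card_subgroupOf (le_sup_right.trans hW)] at h3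
                have h4 : Nat.card (W : Subgroup G) = Nat.card D * p := by rw [hDcard]; exact hPcard W
                rw [h4] at h3
                exact Nat.eq_of_mul_eq_mul_left Nat.card_pos h3
              have h3 : D.relIndex U' ≤ p := by
                rw [← h2]
                exact Subgroup.relIndex_le_of_le_right (le_sup_left.trans hW) (by rw [h2]; exact hp.out.ne_zero)
              have h4 : (D.subgroupOf C).relIndex (U : Subgroup C) = D.relIndex U' := by
                exact Subgroup.relIndex_comap D C.subtype (U : Subgroup C)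
              refine le_trans ?_ (h4.le.trans h3)
              apply Subgroup.relIndex_le_of_le_left
              · intro z hz
                rw [mem_center_iff]
                intro c
                apply Subtype.ext
                exact (mem_centralizer_iff.1 c.2 z (mem_subgroupOf.1 hz)).symm
              · rw [h4]
                exact relIndex_ne_zero_of_finite' _ _) (by
              rw [hTc]
              exact hlt.trans_le (Nat.mul_le_mul_left _ hcC1))
          set V' : Subgroup G := (V : Subgroup C).map C.subtype with hV'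
          have hV'C : V' ≤ C := Subgroup.map_subtype_le _
          have hV'p : IsPGroup p V' := V.isPGroup'.map _
          have h1 : IsPGroup p (V' ⊔ D : Subgroup G) :=
            IsPGroup.to_sup_of_normal_right' hV'p hDp (hV'C.trans hCN)
          have h2 : V' ≤ centralizer (T : Set G) := by
            rintro _ ⟨v, hv, rfl⟩
            rw [mem_centralizer_iff]
            intro t ht
            have h3 := mem_centralizer_iff.1 (hV (mem_subgroupOf.2 ht : (⟨t, hTD ht⟩ : C) ∈ T.subgroupOf C)) v hv
            exact (congrArg Subtype.val h3).symm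
          have h3 := hDmax _ h1 (sup_le h2 hDT) le_sup_right
          have h4 : V' ≤ D := by rw [← h3]; exact le_sup_left
          -- `u` is conjugate in `C` into `V' ≤ D`
          have huC' : (u : G) ∈ C := (hmapcent u).1 huC
          have huD' : (u : G) ∉ D := fun h => huD (mem_subgroupOf.2 h)
          have huQ : (u : G) ∈ Q := ⟨u, huP, rfl⟩
          obtain ⟨w, hw, huw⟩ := exists_conj_mem_sylow V (u := (⟨u, huC'⟩ : C)) (by
            rw [← isPiElt_coe]
            exact isPiElt_of_mem_pGroup hQp huQ)
          obtain ⟨c, hc⟩ := isConj_iff.1 huw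
          have hwD : (w : G) ∈ D := h4 ⟨w, hw, rfl⟩
          have hc' : (c : G) * u * (c : G)⁻¹ = w := congrArg Subtype.val hc
          apply huD'
          have h5 : (u : G) = (c : G)⁻¹ * w * c := by rw [← hc']; group
          have h6 := mem_centralizer_iff.1 c.2 (w : G) hwD
          rw [h5]
          have h7 : (c : G)⁻¹ * w * c = w := by
            rw [mul_assoc, h6]; group
          rw [h7]
          exact hwD
        set A₂ : Set G := {x | x ∈ Q ∧ ¬ ∃ d ∈ D, IsConj x d} with hA₂
        have h1 := CC_le_two (G := G) (π := ((insert p σ : Finset ℕ) : Set ℕ)) (π₁ := ({p} : Set ℕ))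
          (π₂ := (σ : Set ℕ)) (fun g hg => dec_insert g hg) (D : Set G) A₂ (by
            intro u hu
            obtain ⟨x, hx, hux⟩ := exists_conj_mem_sylow Qs hu
            by_cases hxD : ∃ d ∈ D, IsConj x d
            · obtain ⟨d, hd, hxd⟩ := hxD
              exact ⟨d, hux.trans hxd, Or.inl hd⟩
            · exact ⟨x, hux, Or.inr ⟨hx, hxD⟩⟩) cC (Nat.card T / (p + 1))
          hin (fun x hx => hout x (isPiElt_of_mem_pGroup hQp hx.1) hx.2)
        have h2 : CC (D : Set G) ≤ Nat.card D := CC_le_ncard fun a ha => ⟨a, ha, IsConj.refl a⟩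
        have h3 : CC A₂ ≤ CC B := CC_mono fun a ha => ⟨a, ⟨ha.1, fun h => ha.2 ⟨a, h, IsConj.refl a⟩⟩, IsConj.refl a⟩
        have h4 : 2 * CC A₂ + Nat.card D ≤ Nat.card D * p := by omega
        exact hgoal (arith_two hp.out.two_le h2 h4 hcC' ha₂ h1)

/-- **Main theorem** (Maróti–Nguyen): many classes of `π`-elements force a nilpotent Hall
`π`-subgroup. -/
theorem nilpotent_hall_or_small (S : Finset ℕ) : ∀ b : ℕ, (∀ q ∈ S, q.Prime ∧ b ≤ q) →
    ∀ (G : Type u) [Group G] [Finite G],
    (∃ T : Subgroup G, Nat.card T = sPart S (Nat.card G) ∧ Group.IsNilpotent T) ∨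
      b * CC (piElts (S : Set ℕ) G) ≤ sPart S (Nat.card G) := by
  induction S using Finset.induction_on_min with
  | empty =>
    intro b _ G _ _
    left
    exact ⟨⊥, by simp [sPart], inferInstance⟩
  | insert p σ hmin ih =>
    intro b hb G _ _
    have hp : p.Prime := (hb p (Finset.mem_insert_self _ _)).1
    haveI : Fact p.Prime := ⟨hp⟩
    rcases main_step (p := p) (σ := σ) (fun q hq =>
      ⟨(hb q (Finset.mem_insert_of_mem hq)).1, hmin q hq⟩) (fun X _ _ => ih (p + 1) (fun q hq =>
        ⟨(hb q (Finset.mem_insert_of_mem hq)).1, hmin q hq⟩) X) G with h | h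
    · exact Or.inl h
    · right
      exact (Nat.mul_le_mul_right _ (hb p (Finset.mem_insert_self _ _)).2).trans h

end Cfsg.Agent.H24
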