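import Mathlib
import Cfsg.Agent.H24.NilCount4
import Cfsg.Agent.H3.Perm
import Cfsg.Agent.H3.Integral

set_option autoImplicit false

/-! # H24/NilCount5: final form, and the class number bound via degrees -/

namespace Cfsg.Agent.H24

open Subgroup
open scoped Pointwise

universe u

/-- `p² k(H) + |H : H'| ≤ |H| + p² |H : H'|` if all prime divisors of `|H|` are `≥ p`. -/
theorem card_classes_bound {H : Type*} [Group H] [Finite H] {p : ℕ} 
    (hb : ∀ q : ℕ, q.Prime → q ∣ Nat.card H → p ≤ q) :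
    p ^ 2 * Nat.card (ConjClasses H) + (_root_.commutator H).index ≤
      Nat.card H + p ^ 2 * (_root_.commutator H).index := by
  classical
  haveI : Fintype (IrrCharacter H) := Fintype.ofFinite _
  have hd : ∀ χ : IrrCharacter H, ∃ n : ℕ, 0 < n ∧ (χ : H → ℂ) 1 = n := fun χ => H3.irr_one_eq_nat χ.2
  choose d hd0 hd1 using hd
  have hsum : ∑ χ : IrrCharacter H, d χ ^ 2 = Nat.card H := by
    have h1 := H3.sum_degree_sq (G := H)
    have h2 : ∀ χ : IrrCharacter H, ((χ : H → ℂ) 1) ^ 2 = ((d χ ^ 2 : ℕ) : ℂ) := by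
      intro χ
      rw [hd1]; push_cast; rfl
    rw [Finset.sum_congr rfl (fun χ _ => h2 χ)] at h1
    exact_mod_cast h1
  have hk : Nat.card (ConjClasses H) = Fintype.card (IrrCharacter H) := by
    rw [← H3.card_irr_eq, Nat.card_eq_fintype_card]
  have hi : (_root_.commutator H).index = (Finset.univ.filter (fun χ : IrrCharacter H => d χ = 1)).card := by
    rw [← H3.card_linear_irr, Nat.card_eq_fintype_card, Fintype.card_subtype]
    congr 1
    ext χ
    simp only [Finset.mem_filter, Finset.mem_univ, true_and]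
    rw [hd1]
    norm_cast
  have hpt : ∀ χ : IrrCharacter H, p ^ 2 + (if d χ = 1 then 1 else 0) ≤ d χ ^ 2 + (if d χ = 1 then p ^ 2 else 0) := by
    intro χ
    split_ifs with h
    · rw [h]; omega
    · have h1 : d χ ∣ Nat.card H := H3.irr_degree_dvd_card χ.2 (hd1 χ)
      obtain ⟨q, hq, hqd⟩ := Nat.exists_prime_and_dvd h
      have h2 := hb q hq (hqd.trans h1)
      have h3 := Nat.le_of_dvd (hd0 χ) hqd
      have h4 : p ≤ d χ := h2.trans h3
      rw [add_zero, add_zero]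
      exact Nat.pow_le_pow_left h4 2
  have h := Finset.sum_le_sum (fun χ (_ : χ ∈ (Finset.univ : Finset (IrrCharacter H))) => hpt χ)
  rw [Finset.sum_add_distrib, Finset.sum_add_distrib, hsum, Finset.sum_const, smul_eq_mul,
    ← Finset.sum_filter, ← Finset.sum_filter, Finset.sum_const, Finset.sum_const, smul_eq_mul,
    smul_eq_mul, mul_one, Finset.card_univ, ← hk, ← hi] at h
  rw [mul_comm (p ^ 2) (Nat.card _), mul_comm (p ^ 2) ((_root_.commutator H).index)]
  exact h

/-- The form used for the statements. -/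
theorem exists_nilpotent_hall_of_many {G : Type u} [Group G] [Finite G]
    (π : Set ℕ) (hπ : ∀ q ∈ π, q.Prime) (p : ℕ) (hmin : ∀ q ∈ π, p ≤ q)
    (m : ℕ) (hm : m ∣ Nat.card G) (hmπ : ∀ q : ℕ, q.Prime → q ∣ m → q ∈ π)
    (hm' : ∀ q ∈ π, ¬ q ∣ Nat.card G / m)
    (k : ℕ) (hk : k = Nat.card {C : ConjClasses G // ∀ q : ℕ, q.Prime → (∃ g : G, ConjClasses.mk g = C ∧ q ∣ orderOf g) → q ∈ π})
    (hmany : m < p * k) :
    ∃ T : Subgroup G, Nat.card T = m ∧ Group.IsNilpotent T ∧ k ≤ Nat.card (ConjClasses T) ∧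
      ∀ q : ℕ, q.Prime → q ∣ Nat.card T → p ≤ q := by
  classical
  set S : Finset ℕ := (Nat.card G).primeFactors.filter (fun q => q ∈ π) with hS
  have hSmem : ∀ q : ℕ, q ∈ S ↔ q.Prime ∧ q ∣ Nat.card G ∧ q ∈ π := by
    intro q
    rw [hS, Finset.mem_filter, Nat.mem_primeFactors]
    constructor
    · rintro ⟨⟨h1, h2, _⟩, h3⟩
      exact ⟨h1, h2, h3⟩
    · rintro ⟨h1, h2, h3⟩
      exact ⟨⟨h1, h2, Nat.card_pos.ne'⟩, h3⟩
  have hSp : ∀ q ∈ S, q.Prime := fun q hq => ((hSmem q).1 hq).1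
  have hmS : m = sPart S (Nat.card G) := by
    apply eq_sPart hSp Nat.card_pos.ne' hm
    · intro q hq hd
      exact (hSmem q).2 ⟨hq, hd.trans hm, hmπ q hq hd⟩
    · intro q hq
      exact hm' q ((hSmem q).1 hq).2.2
  have hkCC : k ≤ CC (piElts (S : Set ℕ) G) := by
    rw [hk]
    have h1 : {C : ConjClasses G | ∀ q : ℕ, q.Prime → (∃ g : G, ConjClasses.mk g = C ∧ q ∣ orderOf g) → q ∈ π} ⊆
        ConjClasses.mk '' (piElts (S : Set ℕ) G) := by
      intro C hC
      obtain ⟨g, rfl⟩ := ConjClasses.exists_rep C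
      refine ⟨g, ?_, rfl⟩
      intro q hq hd
      rw [Finset.mem_coe, hSmem]
      exact ⟨hq, hd.trans (orderOf_dvd_natCard g), hC q hq ⟨g, rfl, hd⟩⟩
    exact Set.ncard_le_ncard h1 (Set.toFinite _)
  rcases nilpotent_hall_or_small S p (fun q hq => ⟨hSp q hq, hmin q ((hSmem q).1 hq).2.2⟩) G with
    ⟨T, hT, hTn⟩ | h
  swap
  · exfalso
    rw [← hmS] at h
    have := Nat.mul_le_mul_left p hkCC
    omega
  have hTm : Nat.card T = m := by rw [hT, hmS]
  have hTprimes : ∀ q : ℕ, q.Prime → q ∣ Nat.card T → q ∈ S := by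
    intro q hq hd
    rw [hT] at hd
    exact mem_of_dvd_sPart hSp hq hd
  refine ⟨T, hTm, hTn, ?_, fun q hq hd => hmin q ((hSmem q).1 (hTprimes q hq hd)).2.2⟩
  have hidx : T.index = Nat.card G / sPart S (Nat.card G) := by
    rw [← hT, ← T.card_mul_index, Nat.mul_div_cancel_left _ Nat.card_pos]
  have hHall : (Nat.card T).Coprime T.index := by
    rw [Nat.coprime_iff_gcd_eq_one]
    by_contra hne
    obtain ⟨q, hq, hd⟩ := Nat.exists_prime_and_dvd hne
    have h1 := hTprimes q hq (hd.trans (Nat.gcd_dvd_left _ _))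
    apply not_dvd_div_sPart hSp (n := Nat.card G) Nat.card_pos.ne' h1
    rw [← hidx]
    exact hd.trans (Nat.gcd_dvd_right _ _)
  refine hkCC.trans ?_
  obtain ⟨R, hR1, hR2, hR3⟩ := exists_reps (Set.univ : Set T)
  have hR : R.card = Nat.card (ConjClasses T) := by
    rw [hR1]
    unfold CC
    rw [Set.image_univ, Set.range_eq_univ.2 (fun c => ConjClasses.exists_rep c), Set.ncard_univ]
  rw [← hR]
  refine (CC_le_of_reps (R := R.image T.subtype) ?_).trans Finset.card_image_le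
  intro g hg
  obtain ⟨x, -, hx⟩ := exists_conj_mem_hall hSp hTn hT hHall le_top g (mem_top _) hg
  obtain ⟨r, hr, hxr⟩ := hR3 ⟨x * g * x⁻¹, hx⟩ (Set.mem_univ _)
  refine ⟨_, Finset.mem_image_of_mem _ hr, ?_⟩
  have h1 : IsConj g (x * g * x⁻¹) := isConj_iff.2 ⟨x, rfl⟩
  exact h1.trans (MonoidHom.map_isConj T.subtype hxr)

end Cfsg.Agent.H24
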