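import Mathlib
import Cfsg.Agent.H2.NComp
import Cfsg.Agent.H2.Frobenius
import Cfsg.Agent.H1.Coprime2
import Cfsg.Agent.H1.Hall

set_option autoImplicit false
set_option linter.all false

/-! # H24/SNGrp: groups in which nonabelian subgroups are self-normalizing -/

namespace Cfsg.Agent.H24

open Subgroup
open scoped Pointwise commutatorElement

/-- every nonabelian subgroup is self-normalizing -/
def SN (G : Type*) [Group G] : Prop :=
  ∀ H : Subgroup G, ¬ IsMulCommutative H → normalizer (H : Set G) = H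

theorem isMulComm_iff {G : Type*} [Group G] (H : Subgroup G) :
    IsMulCommutative H ↔ ∀ a ∈ H, ∀ b ∈ H, a * b = b * a := by
  constructor
  · intro h a ha b hb
    exact congrArg Subtype.val (h.is_comm.comm (⟨a, ha⟩ : H) ⟨b, hb⟩)
  · intro h
    exact ⟨⟨fun a b => Subtype.ext (h a a.2 b b.2)⟩⟩

theorem isMulComm_map_iff {G G' : Type*} [Group G] [Group G'] (f : G →* G') (hf : Function.Injective f)
    (H : Subgroup G) : IsMulCommutative (H.map f) ↔ IsMulCommutative H := by
  rw [isMulComm_iff, isMulComm_iff]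
  constructor
  · intro h a ha b hb
    apply hf
    rw [map_mul, map_mul]
    exact h _ ⟨a, ha, rfl⟩ _ ⟨b, hb, rfl⟩
  · rintro h _ ⟨a, ha, rfl⟩ _ ⟨b, hb, rfl⟩
    rw [← map_mul, ← map_mul, h a ha b hb]

namespace SN

variable {G : Type*} [Group G]

theorem sub (h : SN G) (K : Subgroup G) : SN K := by
  intro H hH
  apply le_antisymm _ le_normalizer
  intro x hx
  have h1 : ¬ IsMulCommutative (H.map K.subtype) := fun hc =>
    hH ((isMulComm_map_iff K.subtype K.subtype_injective H).mp hc)
  have h2 := h _ h1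
  have h3 : (x : G) ∈ normalizer ((H.map K.subtype : Subgroup G) : Set G) := by
    rw [mem_normalizer_iff]
    intro y
    constructor
    · rintro ⟨z, hz, rfl⟩
      exact ⟨x * z * x⁻¹, (mem_normalizer_iff.mp hx z).mp hz, rfl⟩
    · rintro ⟨z, hz, hzy⟩
      have hy : y = ((x⁻¹ * z * x : K) : G) := by
        have e : y = (x : G)⁻¹ * ((x : G) * y * (x : G)⁻¹) * x := by group
        rw [e, ← hzy]; rfl
      refine ⟨x⁻¹ * z * x, ?_, hy.symm⟩
      have h4 := (mem_normalizer_iff.mp hx (x⁻¹ * z * x)).mpr (by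
        have e : x * (x⁻¹ * z * x) * x⁻¹ = z := by group
        rw [e]; exact hz)
      exact h4
  rw [h2] at h3
  obtain ⟨z, hz, hzx⟩ := h3
  have : z = x := Subtype.ext hzx
  rwa [← this]

theorem of_equiv {G' : Type*} [Group G'] (h : SN G) (e : G ≃* G') : SN G' := by
  intro H hH
  apply le_antisymm _ le_normalizer
  intro x hx
  have h1 : ¬ IsMulCommutative (H.map e.symm.toMonoidHom) := fun hc =>
    hH ((isMulComm_map_iff _ e.symm.injective H).mp hc)
  have h2 := h _ h1
  have h3 : e.symm x ∈ normalizer ((H.map e.symm.toMonoidHom : Subgroup G) : Set G) := by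
    rw [mem_normalizer_iff]
    intro y
    have key : ∀ w : G, w ∈ H.map e.symm.toMonoidHom ↔ e w ∈ H := by
      intro w
      constructor
      · rintro ⟨z, hz, rfl⟩
        simpa using hz
      · intro hw
        exact ⟨e w, hw, by simp⟩
    rw [key, key]
    have := mem_normalizer_iff.mp hx (e y)
    simpa using this
  rw [h2] at h3
  obtain ⟨z, hz, hzx⟩ := h3
  have : z = x := e.symm.injective hzx
  rwa [← this]

theorem quot (h : SN G) (N : Subgroup G) [N.Normal] : SN (G ⧸ N) := by
  intro H hH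
  apply le_antisymm _ le_normalizer
  intro x hx
  obtain ⟨g, rfl⟩ := QuotientGroup.mk'_surjective N x
  have h1 : ¬ IsMulCommutative (H.comap (QuotientGroup.mk' N)) := by
    intro hc
    apply hH
    rw [isMulComm_iff] at hc ⊢
    intro a ha b hb
    obtain ⟨a, rfl⟩ := QuotientGroup.mk'_surjective N a
    obtain ⟨b, rfl⟩ := QuotientGroup.mk'_surjective N b
    rw [← map_mul, ← map_mul, hc a ha b hb]
  have h2 := h _ h1
  have h3 : g ∈ normalizer ((H.comap (QuotientGroup.mk' N) : Subgroup G) : Set G) := by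
    rw [mem_normalizer_iff]
    intro y
    have := mem_normalizer_iff.mp hx (QuotientGroup.mk' N y)
    rw [mem_comap, mem_comap, map_mul, map_mul, map_inv]
    exact this
  rw [h2] at h3
  exact h3

theorem normal (h : SN G) (N : Subgroup G) [hN : N.Normal] (hne : N ≠ ⊤) : IsMulCommutative N := by
  by_contra hc
  have h1 := h N hc
  rw [Subgroup.normalizer_eq_top N] at h1
  exact hne h1.symm

/-- relative version: a proper subgroup `A` of `K`, normalized by `K`, is abelian. -/
theorem normal_rel (h : SN G) (A K : Subgroup G) (hAK : A < K) (hn : K ≤ normalizer (A : Set G)) :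
    ∀ a ∈ A, ∀ b ∈ A, a * b = b * a := by
  rw [← isMulComm_iff]
  by_contra hc
  have h1 := h A hc
  rw [h1] at hn
  exact absurd hn (not_le_of_gt hAK)

end SN

theorem exists_normal_index_prime {G : Type*} [Group G] [Finite G] [Nontrivial G]
    (hs : Group.IsSolvable G) : ∃ A : Subgroup G, A.Normal ∧ A.index.Prime := by
  obtain ⟨A, hA⟩ := (Set.toFinite {N : Subgroup G | N.Normal ∧ N ≠ ⊤}).exists_maximal
    ⟨⊥, inferInstance, bot_ne_top⟩
  obtain ⟨hAn, hAt⟩ := hA.prop
  haveI := hAn
  refine ⟨A, hAn, ?_⟩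
  haveI hnt : Nontrivial (G ⧸ A) := by
    rw [← Finite.one_lt_card_iff_nontrivial, ← Subgroup.index_eq_card]
    have h1 : A.index ≠ 1 := fun h => hAt (Subgroup.index_eq_one.mp h)
    have h2 : A.index ≠ 0 := Subgroup.index_ne_zero_of_finite
    omega
  haveI hsimp : IsSimpleGroup (G ⧸ A) := by
    constructor
    intro N hN
    haveI := hN
    by_cases h1 : N = ⊤
    · exact Or.inr h1
    · left
      have h2 : N.comap (QuotientGroup.mk' A) ≠ ⊤ := by
        intro h
        apply h1
        rw [eq_top_iff]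
        intro x _
        obtain ⟨g, rfl⟩ := QuotientGroup.mk'_surjective A x
        have : g ∈ N.comap (QuotientGroup.mk' A) := by rw [h]; trivial
        exact this
      have h3 : A ≤ N.comap (QuotientGroup.mk' A) := by
        intro x hx
        rw [mem_comap, (QuotientGroup.eq_one_iff (N := A) x).mpr hx |> fun h => (show QuotientGroup.mk' A x = 1 from h)]
        exact one_mem _
      have h4 := hA.le_of_ge (y := N.comap (QuotientGroup.mk' A)) ⟨inferInstance, h2⟩ h3
      rw [eq_bot_iff]
      intro x hx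
      obtain ⟨g, rfl⟩ := QuotientGroup.mk'_surjective A x
      have : g ∈ A := h4 hx
      rw [mem_bot]
      exact (QuotientGroup.eq_one_iff (N := A) g).mpr this
  haveI hs' : Group.IsSolvable (G ⧸ A) := Group.isSolvable_of_surjective (QuotientGroup.mk'_surjective A)
  have hc : ∀ a b : G ⧸ A, a * b = b * a := fun a b => IsSimpleGroup.comm_iff_isSolvable.mpr hs' a b
  letI : CommGroup (G ⧸ A) := { (inferInstance : Group (G ⧸ A)) with mul_comm := hc }
  have := IsSimpleGroup.prime_card (α := G ⧸ A)
  rwa [← Subgroup.index_eq_card] at this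

theorem exists_rel_index_prime {G : Type*} [Group G] [Finite G] (K : Subgroup G)
    (hs : Group.IsSolvable K) (hK : K ≠ ⊥) :
    ∃ A : Subgroup G, A < K ∧ K ≤ normalizer (A : Set G) ∧ (A.relIndex K).Prime := by
  haveI : Nontrivial K := (Subgroup.nontrivial_iff_ne_bot K).mpr hK
  obtain ⟨A, hA, hp⟩ := exists_normal_index_prime hs
  refine ⟨A.map K.subtype, ?_, ?_, ?_⟩
  · refine lt_of_le_of_ne (by rintro _ ⟨x, -, rfl⟩; exact x.2) ?_
    intro h
    have : A = ⊤ := by
      rw [eq_top_iff]
      intro x _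
      have hx : (x : G) ∈ A.map K.subtype := by rw [h]; exact x.2
      obtain ⟨y, hy, hyx⟩ := hx
      have : y = x := Subtype.ext hyx
      rwa [← this]
    rw [this, Subgroup.index_top] at hp
    exact Nat.not_prime_one hp
  · intro k hk
    rw [mem_normalizer_iff]
    intro y
    constructor
    · rintro ⟨z, hz, rfl⟩
      exact ⟨⟨k, hk⟩ * z * ⟨k, hk⟩⁻¹, hA.conj_mem z hz _, rfl⟩
    · rintro ⟨z, hz, hzy⟩
      have h1 := hA.conj_mem z hz (⟨k, hk⟩⁻¹)
      refine ⟨_, h1, ?_⟩
      have e : y = k⁻¹ * (k * y * k⁻¹) * k := by group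
      rw [e, ← hzy]
      simp
  · show ((A.map K.subtype).subgroupOf K).index.Prime
    have : (A.map K.subtype).subgroupOf K = A := Subgroup.comap_map_eq_self_of_injective K.subtype_injective _
    rw [this]; exact hp

theorem pow_relIndex_mem {G : Type*} [Group G] {A K : Subgroup G}
    (hn : K ≤ normalizer (A : Set G)) {x : G} (hx : x ∈ K) : x ^ (A.relIndex K) ∈ A := by
  haveI : (A.subgroupOf K).Normal := by
    constructor
    intro n hn' g
    rw [mem_subgroupOf] at hn' ⊢
    exact (mem_normalizer_iff.mp (hn g.2) n).mp hn'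
  have h1 := Subgroup.pow_index_mem (A.subgroupOf K) (⟨x, hx⟩ : K)
  rw [mem_subgroupOf] at h1
  exact h1

/-- elements of order prime to the index lie in `A`. -/
theorem mem_of_coprime_relIndex {G : Type*} [Group G] [Finite G] {A K : Subgroup G}
    (hn : K ≤ normalizer (A : Set G)) {x : G} (hx : x ∈ K) (hc : (orderOf x).Coprime (A.relIndex K)) :
    x ∈ A := by
  have h1 := pow_relIndex_mem hn hx
  have h2 : x ∈ zpowers (x ^ (A.relIndex K)) := by
    have h3 : orderOf (x ^ (A.relIndex K)) = orderOf x := Nat.Coprime.orderOf_pow hc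
    have h4 : zpowers (x ^ (A.relIndex K)) = zpowers x := by
      apply Subgroup.eq_of_le_of_card_ge
      · rw [zpowers_le]; exact pow_mem (mem_zpowers x) _
      · rw [Nat.card_zpowers, Nat.card_zpowers, h3]
    rw [h4]; exact mem_zpowers x
  have h5 : zpowers (x ^ (A.relIndex K)) ≤ A := zpowers_le.mpr h1
  exact h5 h2

/-- A `p'`-element of an abelian group normalized by a `p`-group `T` it normalizes centralizes `T`. -/
theorem comm_of_mem {G : Type*} [Group G] [Finite G] {p : ℕ} [hp : Fact p.Prime] {A T : Subgroup G}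
    (hA : ∀ a ∈ A, ∀ b ∈ A, a * b = b * a) (hT : IsPGroup p T) (hTA : T ≤ normalizer (A : Set G))
    {x : G} (hx : x ∈ A) (hxT : x ∈ normalizer (T : Set G)) (hc : (orderOf x).Coprime p) :
    x ∈ centralizer (T : Set G) := by
  rw [mem_centralizer_iff]
  intro t ht
  set c := x * t * x⁻¹ * t⁻¹ with hcdef
  have hcT : c ∈ T := T.mul_mem ((mem_normalizer_iff.mp hxT t).mp ht) (T.inv_mem ht)
  have hcA : c ∈ A := by
    have h1 : t * x⁻¹ * t⁻¹ ∈ A := (mem_normalizer_iff.mp (hTA ht) _).mp (A.inv_mem hx)
    have h2 := A.mul_mem hx h1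
    have e : x * (t * x⁻¹ * t⁻¹) = c := by rw [hcdef]; group
    rwa [e] at h2
  have hxc : x * c = c * x := hA x hx c hcA
  have hk : ∀ k : ℕ, x ^ k * t * (x ^ k)⁻¹ = c ^ k * t := by
    intro k
    induction k with
    | zero => simp
    | succ k ih =>
      have h3 : x * t * x⁻¹ = c * t := by rw [hcdef]; group
      have h4 : x * c ^ k = c ^ k * x := (Commute.pow_right (show Commute x c from hxc) k).eq
      calc x ^ (k + 1) * t * (x ^ (k + 1))⁻¹ = x * (x ^ k * t * (x ^ k)⁻¹) * x⁻¹ := by
            rw [pow_succ']; group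
        _ = x * (c ^ k * t) * x⁻¹ := by rw [ih]
        _ = (x * c ^ k) * t * x⁻¹ := by group
        _ = c ^ k * (x * t * x⁻¹) := by rw [h4]; group
        _ = c ^ (k + 1) * t := by rw [h3, pow_succ]; group
  have h5 := hk (orderOf x)
  rw [pow_orderOf_eq_one] at h5
  have h6 : c ^ orderOf x = 1 := by
    have : c ^ orderOf x * t = t := by rw [← h5]; group
    exact mul_eq_right.mp this
  have h7 : orderOf c ∣ orderOf x := orderOf_dvd_of_pow_eq_one h6
  obtain ⟨n, hn⟩ := IsPGroup.iff_orderOf.mp hT ⟨c, hcT⟩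
  have hn' : orderOf c = p ^ n := by rw [← hn, ← Subgroup.orderOf_coe]
  have h8 : orderOf c = 1 := by
    have h9 : (orderOf c).Coprime (orderOf c) := by
      conv_rhs => rw [hn']
      exact Nat.Coprime.pow_right n (Nat.Coprime.coprime_dvd_left h7 hc)
    rwa [Nat.coprime_self] at h9
  have h10 : c = 1 := orderOf_eq_one_iff.mp h8
  rw [hcdef] at h10
  have h11 : x * t * x⁻¹ = t := by
    calc x * t * x⁻¹ = (x * t * x⁻¹ * t⁻¹) * t := by group
      _ = t := by rw [h10, one_mul]
  calc t * x = (x * t * x⁻¹) * x := by rw [h11]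
    _ = x * t := by group

end Cfsg.Agent.H24
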