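import Mathlib

set_option autoImplicit false

/-!
Functions on a regular subgroup invariant under the point stabilizer (Schur rings, helper24).
-/

namespace Cfsg.Agent.H24

open MulAction

variable {G X : Type*} [Group G] [MulAction G X]

section general

variable {Q : Type*} [Group Q]

/-- Invariance under the point stabilizer of a function on a regular group. -/
def StabInv (ι : Q →* G) (α : X) {F : Type*} (f : Q → F) : Prop :=
  ∀ h ∈ stabilizer G α, ∀ x x' : Q, h • ι x • α = ι x' • α → f x = f x'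

theorem StabInv.comp {ι : Q →* G} {α : X} {F F' : Type*} {f : Q → F} (hf : StabInv ι α f)
    (g : F → F') : StabInv ι α (fun x => g (f x)) :=
  fun h hh x x' hx => congrArg g (hf h hh x x' hx)

/-- The convolution of invariant functions is invariant. -/
theorem StabInv.conv [Fintype Q] {ι : Q →* G} {α : X}
    (hreg : Function.Bijective (fun x : Q => ι x • α)) {F : Type*} [Semiring F] {f₁ f₂ : Q → F}
    (h₁ : StabInv ι α f₁) (h₂ : StabInv ι α f₂) :
    StabInv ι α (fun x => ∑ y, f₁ y * f₂ (y⁻¹ * x)) := by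
  intro h hh x x' hx
  let e : Q ≃ X := Equiv.ofBijective _ hreg
  have he : ∀ y, e y = ι y • α := fun y => rfl
  let σ : Q ≃ Q := e.trans ((MulAction.toPerm h).trans e.symm)
  have hσ : ∀ y, h • ι y • α = ι (σ y) • α := by
    intro y
    rw [← he (σ y)]
    show _ = e (e.symm (h • e y))
    rw [Equiv.apply_symm_apply, he]
  show ∑ y, f₁ y * f₂ (y⁻¹ * x) = ∑ y, f₁ y * f₂ (y⁻¹ * x')
  rw [← Equiv.sum_comp σ (fun y => f₁ y * f₂ (y⁻¹ * x'))]
  refine Finset.sum_congr rfl fun y _ => ?_
  rw [h₁ h hh y (σ y) (hσ y)]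
  congr 1
  refine h₂ ((ι (σ y))⁻¹ * h * ι y) ?_ _ _ ?_
  · rw [mem_stabilizer_iff, mul_smul, mul_smul, hσ y, inv_smul_smul]
  · rw [map_mul, map_inv, mul_smul, mul_smul, mul_smul, smul_inv_smul, hx, map_mul, map_inv,
      mul_smul]

/-- A nontrivial invariant set inside a proper subgroup gives imprimitivity. -/
theorem not_isPreprimitive_of_stabInv [Finite Q] {ι : Q →* G} {α : X}
    (hreg : Function.Bijective (fun x : Q => ι x • α)) (S : Set Q)
    (hS : ∀ h ∈ stabilizer G α, ∀ x x' : Q, h • ι x • α = ι x' • α → x ∈ S → x' ∈ S)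
    (L : Subgroup Q) (hL : L ≠ ⊤) (hSL : S ⊆ L) {x₀ : Q} (hx₀ : x₀ ∈ S) (hne : x₀ ≠ 1) :
    ¬ IsPreprimitive G X := by
  intro hprim
  have hinj : ∀ {x y : Q}, ι x • α = ι y • α → x = y := fun h => hreg.1 h
  have hsurj : ∀ β : X, ∃ x : Q, ι x • α = β := hreg.2
  have hx₀α : ι x₀ • α ≠ α := by
    intro h
    apply hne
    apply hinj
    rw [h, map_one, one_smul]
  haveI : Nontrivial X := ⟨_, _, hx₀α⟩
  have hco := (isCoatom_stabilizer_iff_preprimitive G α).2 hprim
  set L' := Subgroup.closure S with hL'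
  have hL'L : L' ≤ L := (Subgroup.closure_le L).2 hSL
  -- the stabilizer preserves `L'α`
  have key : ∀ x ∈ L', ∀ h ∈ stabilizer G α, ∃ x' ∈ L', h • ι x • α = ι x' • α := by
    have step : ∀ s ∈ S, ∀ y ∈ L', (∀ h ∈ stabilizer G α, ∃ x' ∈ L', h • ι y • α = ι x' • α) →
        ∀ h ∈ stabilizer G α, ∃ x' ∈ L', h • ι (s * y) • α = ι x' • α := by
      intro s hs y hy ih h hh
      obtain ⟨s', hs'⟩ := hsurj (h • ι s • α)
      have hs'S : s' ∈ S := hS h hh s s' hs'.symm hs
      have hh' : (ι s')⁻¹ * h * ι s ∈ stabilizer G α := by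
        rw [mem_stabilizer_iff, mul_smul, mul_smul, ← hs', inv_smul_smul]
      obtain ⟨x', hx', hx''⟩ := ih _ hh'
      refine ⟨s' * x', mul_mem (Subgroup.subset_closure hs'S) hx', ?_⟩
      rw [map_mul, mul_smul, map_mul, mul_smul, ← hx'', mul_smul, mul_smul, smul_inv_smul]
    have stepn : ∀ s ∈ S, ∀ n : ℕ, ∀ y ∈ L',
        (∀ h ∈ stabilizer G α, ∃ x' ∈ L', h • ι y • α = ι x' • α) →
        ∀ h ∈ stabilizer G α, ∃ x' ∈ L', h • ι (s ^ n * y) • α = ι x' • α := by
      intro s hs n
      induction n with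
      | zero => intro y hy ih; simpa using ih
      | succ n ihn =>
        intro y hy ih
        have h1 := step s hs (s ^ n * y) (mul_mem (pow_mem (Subgroup.subset_closure hs) n) hy)
          (ihn y hy ih)
        rwa [← mul_assoc, ← pow_succ'] at h1
    intro x hx
    induction hx using Subgroup.closure_induction_left with
    | one =>
      intro h hh
      exact ⟨1, one_mem _, by rw [map_one, one_smul]; exact hh⟩
    | mul_left s hs y hy ih => exact step s hs y hy ih
    | inv_mul_cancel s hs y hy ih =>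
      have h1 := stepn s hs (orderOf s - 1) y hy ih
      have h2 : s ^ (orderOf s - 1) = s⁻¹ := by
        rw [eq_inv_iff_mul_eq_one, ← pow_succ, Nat.sub_add_cancel (orderOf_pos s),
          pow_orderOf_eq_one]
      rwa [h2] at h1
  let M : Subgroup G :=
    { carrier := {g | ∃ x ∈ L', g • α = ι x • α}
      one_mem' := ⟨1, one_mem _, by simp⟩
      mul_mem' := by
        rintro a b ⟨x, hx, hax⟩ ⟨y, hy, hby⟩
        have hh : (ι x)⁻¹ * a ∈ stabilizer G α := by
          rw [mem_stabilizer_iff, mul_smul, hax, inv_smul_smul]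
        obtain ⟨y', hy', hyy⟩ := key y hy _ hh
        refine ⟨x * y', mul_mem hx hy', ?_⟩
        rw [mul_smul, hby, map_mul, mul_smul, ← hyy, mul_smul, smul_inv_smul]
      inv_mem' := by
        rintro a ⟨x, hx, hax⟩
        have hh : (ι x)⁻¹ * a ∈ stabilizer G α := by
          rw [mem_stabilizer_iff, mul_smul, hax, inv_smul_smul]
        obtain ⟨y', hy', hyy⟩ := key x⁻¹ (inv_mem hx) _ (inv_mem hh)
        refine ⟨y', hy', ?_⟩
        rw [← hyy, map_inv, mul_inv_rev, inv_inv, mul_smul, smul_inv_smul] }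
  have hM : ∀ g, g ∈ M ↔ ∃ x ∈ L', g • α = ι x • α := fun g => Iff.rfl
  have hle : stabilizer G α ≤ M := by
    intro g hg
    exact ⟨1, one_mem _, by rw [map_one, one_smul]; exact hg⟩
  have hlt : stabilizer G α < M := by
    refine lt_of_le_of_ne hle fun h => hx₀α ?_
    have : ι x₀ ∈ M := ⟨x₀, Subgroup.subset_closure hx₀, rfl⟩
    rw [← h] at this
    exact this
  have htop := hco.2 M hlt
  apply hL
  rw [eq_top_iff]
  intro x _
  have : ι x ∈ M := by rw [htop]; trivial
  obtain ⟨y, hy, hxy⟩ := (hM _).1 this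
  rw [hinj hxy]
  exact hL'L hy

end general

end Cfsg.Agent.H24
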