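import Cfsg.Agent.H24.SRing

set_option autoImplicit false

/-!
The theorem of Schur and Wielandt: a primitive group with a regular abelian subgroup of composite
order having a nontrivial cyclic Sylow subgroup is doubly transitive (helper24).
-/

namespace Cfsg.Agent.H24

open MulAction

variable {G X : Type*} [Group G] [MulAction G X]

section general

variable {Q : Type*} [Group Q]

theorem StabInv.inv {ι : Q →* G} {α : X} {F : Type*} {f : Q → F} (hf : StabInv ι α f) :
    StabInv ι α (fun x => f x⁻¹) := by
  intro h hh x x' hx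
  refine hf ((ι x')⁻¹ * h * ι x) ?_ _ _ ?_
  · rw [mem_stabilizer_iff, mul_smul, mul_smul, hx, inv_smul_smul]
  · rw [map_inv, map_inv, mul_smul, mul_smul, smul_inv_smul, hh]

theorem stabInv_one {ι : Q →* G} {α : X} (hreg : Function.Bijective (fun x : Q => ι x • α)) :
    StabInv ι α (fun x : Q => x = 1) := by
  intro h hh x x' hx
  have h1 : ∀ y : Q, ι y • α = α → y = 1 := fun y hy => hreg.1 (by simpa using hy)
  apply propext
  constructor
  · rintro rfl
    apply h1
    rw [← hx, map_one, one_smul]; exact hh
  · rintro rfl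
    apply h1
    rw [map_one, one_smul, smul_eq_iff_eq_inv_smul] at hx
    rw [hx]; exact (inv_mem hh : h⁻¹ ∈ stabilizer G α)

/-- the double coset relation, read on the regular subgroup. -/
def StabRel (ι : Q →* G) (α : X) (x y : Q) : Prop := ∃ h ∈ stabilizer G α, h • ι x • α = ι y • α

theorem StabRel.refl (ι : Q →* G) (α : X) (x : Q) : StabRel ι α x x :=
  ⟨1, one_mem _, by rw [one_smul]⟩

theorem StabRel.symm {ι : Q →* G} {α : X} {x y : Q} (h : StabRel ι α x y) : StabRel ι α y x := by
  obtain ⟨h, hh, hx⟩ := h
  exact ⟨h⁻¹, inv_mem hh, by rw [← hx, inv_smul_smul]⟩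

theorem StabRel.trans {ι : Q →* G} {α : X} {x y z : Q} (h : StabRel ι α x y)
    (h' : StabRel ι α y z) : StabRel ι α x z := by
  obtain ⟨h, hh, hx⟩ := h
  obtain ⟨k, hk, hy⟩ := h'
  exact ⟨k * h, mul_mem hk hh, by rw [mul_smul, hx, hy]⟩

theorem StabInv.rel {ι : Q →* G} {α : X} {F : Type*} {f : Q → F} (hf : StabInv ι α f) {x y : Q}
    (h : StabRel ι α x y) : f x = f y := by
  obtain ⟨h, hh, hx⟩ := h
  exact hf h hh x y hx

theorem stabInv_rel (ι : Q →* G) (α : X) (x : Q) : StabInv ι α (fun y => StabRel ι α x y) :=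
  fun h hh _ _ hy => propext ⟨fun H => H.trans ⟨h, hh, hy⟩, fun H => H.trans
    (StabRel.symm ⟨h, hh, hy⟩)⟩

/-- double transitivity from a single nontrivial suborbit. -/
theorem two_pretransitive_of_stabRel {ι : Q →* G} {α : X} [IsPretransitive G X]
    (hreg : Function.Bijective (fun x : Q => ι x • α)) (x₀ : Q)
    (h : ∀ y : Q, y ≠ 1 → StabRel ι α x₀ y) : IsMultiplyPretransitive G X 2 := by
  rw [is_two_pretransitive_iff]
  -- everything different from `α` is in one orbit
  have key : ∀ a b : X, a ≠ b → ∃ g : G, g • α = a ∧ g • ι x₀ • α = b := by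
    intro a b hab
    obtain ⟨g, hg⟩ := exists_smul_eq G α a
    obtain ⟨y, hy⟩ := hreg.2 (g⁻¹ • b)
    have hy1 : y ≠ 1 := by
      rintro rfl
      apply hab
      have h1 : g⁻¹ • b = α := by rw [← hy]; simp
      rw [← hg, ← h1, smul_inv_smul]
    obtain ⟨k, hk, hky⟩ := h y hy1
    refine ⟨g * k, ?_, ?_⟩
    · rw [mul_smul, show k • α = α from hk, hg]
    · rw [mul_smul, hky]
      have : ι y • α = g⁻¹ • b := hy
      rw [this, smul_inv_smul]
  intro a b c d hab hcd
  obtain ⟨g, hg1, hg2⟩ := key a b hab
  obtain ⟨k, hk1, hk2⟩ := key c d hcd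
  refine ⟨k * g⁻¹, ?_, ?_⟩
  · rw [mul_smul, ← hg1, inv_smul_smul, hk1]
  · rw [mul_smul, ← hg2, inv_smul_smul, hk2]

end general

section comm

variable {Q : Type*} [CommGroup Q] [Fintype Q]

open Classical in
/-- The power map modulo `p`. -/
theorem stabInv_pow {ι : Q →* G} {α : X} (hreg : Function.Bijective (fun x : Q => ι x • α))
    {p : ℕ} (hp : p.Prime) (T : Finset Q) (hT : StabInv ι α (fun x => x ∈ T)) :
    StabInv ι α (fun x => ((T.filter (fun y => y ^ p = x)).card : ZMod p)) := by
  haveI : Fact p.Prime := ⟨hp⟩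
  haveI : CharP (MonoidAlgebra (ZMod p) Q) p :=
    charP_of_injective_algebraMap (R := ZMod p) (A := MonoidAlgebra (ZMod p) Q)
      (algebraMap (ZMod p) (MonoidAlgebra (ZMod p) Q)).injective p
  let a : MonoidAlgebra (ZMod p) Q := ∑ y ∈ T, MonoidAlgebra.single y 1
  have hcoeff : ∀ (S : Finset Q) (g : Q → Q) (x : Q),
      (∑ y ∈ S, MonoidAlgebra.single (g y) (1 : ZMod p)).coeff x =
        ((S.filter (fun y => g y = x)).card : ZMod p) := by
    intro S g x
    rw [MonoidAlgebra.coeff_sum, Finsupp.finsetSum_apply]
    simp only [MonoidAlgebra.coeff_single, Finsupp.single_apply]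
    rw [Finset.sum_ite, Finset.sum_const_zero, add_zero, Finset.sum_const, nsmul_eq_mul, mul_one]
  have ha : StabInv ι α (fun x => a.coeff x) := by
    have h1 : ∀ x, a.coeff x = if x ∈ T then 1 else 0 := by
      intro x
      show (∑ y ∈ T, MonoidAlgebra.single y (1 : ZMod p)).coeff x = _
      rw [hcoeff T (fun y => y) x]
      split_ifs with hx
      · have : T.filter (fun y => y = x) = {x} := by
          ext y; simp only [Finset.mem_filter, Finset.mem_singleton]
          exact ⟨fun h => h.2, fun h => ⟨h ▸ hx, h⟩⟩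
        rw [this]; simp
      · have : T.filter (fun y => y = x) = ∅ := by
          ext y; simp only [Finset.mem_filter, Finset.notMem_empty, iff_false]
          rintro ⟨h, rfl⟩; exact hx h
        rw [this]; simp
    intro h hh x x' hx
    show a.coeff x = a.coeff x'
    rw [h1, h1]
    have h3 : (x ∈ T) = (x' ∈ T) := hT h hh x x' hx
    by_cases hxT : x ∈ T
    · rw [if_pos hxT, if_pos (h3 ▸ hxT)]
    · rw [if_neg hxT, if_neg (h3 ▸ hxT)]
  have hmul : ∀ (b c : MonoidAlgebra (ZMod p) Q) (x : Q),
      (b * c).coeff x = ∑ y, b.coeff y * c.coeff (y⁻¹ * x) := by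
    intro b c x
    rw [MonoidAlgebra.coeff_mul_apply_left, Finsupp.sum_fintype]
    intro i; simp
  have hpow : ∀ k : ℕ, StabInv ι α (fun x => (a ^ k).coeff x) := by
    intro k
    induction k with
    | zero =>
      have h1 := (stabInv_one (α := α) hreg).comp (fun P : Prop => if P then (1 : ZMod p) else 0)
      intro h hh x x' hx
      have h2 : ∀ x : Q, (a ^ 0).coeff x = if x = 1 then 1 else 0 := by
        intro x
        rw [pow_zero, MonoidAlgebra.one_def, MonoidAlgebra.coeff_single, Finsupp.single_apply]
        simp only [eq_comm]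
      show (a ^ 0).coeff x = (a ^ 0).coeff x'
      rw [h2, h2]
      exact h1 h hh x x' hx
    | succ k ih =>
      have h1 := StabInv.conv hreg ih ha
      intro h hh x x' hx
      show (a ^ (k + 1)).coeff x = (a ^ (k + 1)).coeff x'
      rw [pow_succ, hmul, hmul]
      exact h1 h hh x x' hx
  have h1 : a ^ p = ∑ y ∈ T, MonoidAlgebra.single (y ^ p) 1 := by
    show (∑ y ∈ T, MonoidAlgebra.single y (1 : ZMod p)) ^ p = _
    rw [sum_pow_char]
    refine Finset.sum_congr rfl fun y _ => ?_
    rw [MonoidAlgebra.single_pow, one_pow]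
  have h2 := hpow p
  rw [h1] at h2
  intro h hh x x' hx
  have h3 := h2 h hh x x' hx
  simp only [hcoeff T (fun y => y ^ p)] at h3
  exact h3

open Classical in
/-- Schur–Wielandt: a primitive group with a regular abelian subgroup whose elements of order
dividing `p` form a proper subgroup of order `p` is doubly transitive. -/
theorem two_transitive_of_regular_abelian {ι : Q →* G} {α : X}
    (hreg : Function.Bijective (fun x : Q => ι x • α)) (hprim : IsPreprimitive G X)
    {p : ℕ} (hp : p.Prime) (hE : Nat.card (powMonoidHom p : Q →* Q).ker = p)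
    (hne : (powMonoidHom p : Q →* Q).ker ≠ ⊤) : IsMultiplyPretransitive G X 2 := by
  haveI : Fact p.Prime := ⟨hp⟩
  by_contra hcon
  set E := (powMonoidHom p : Q →* Q).ker with hEdef
  have hEmem : ∀ x : Q, x ∈ E ↔ x ^ p = 1 := fun x => by
    rw [hEdef, MonoidHom.mem_ker, powMonoidHom_apply]
  have hrange : (powMonoidHom p : Q →* Q).range ≠ ⊤ := by
    intro htop
    have h1 : Nat.card (powMonoidHom p : Q →* Q).range = Nat.card Q := by
      rw [htop, Nat.card_congr Subgroup.topEquiv.toEquiv]
    have h2 := Subgroup.card_mul_index (powMonoidHom p : Q →* Q).ker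
    rw [Subgroup.index_ker, h1, ← hEdef, hE] at h2
    have h3 : 0 < Nat.card Q := Nat.card_pos
    have h4 := hp.one_lt
    nlinarith
  -- a primitivity tool
  have tool : ∀ (S : Q → Prop), StabInv ι α S → ∀ L : Subgroup Q, L ≠ ⊤ → (∀ x, S x → x ∈ L) →
      ∀ x, S x → x = 1 := by
    intro S hS L hL hSL x hx
    by_contra hx1
    exact not_isPreprimitive_of_stabInv hreg {y | S y}
      (fun h hh y y' hy hyS => by
        have := hS h hh y y' hy
        show S y'
        rw [← this]; exact hyS) L hL hSL hx hx1 hprim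
  -- facts about orbits
  let orb : Q → Finset Q := fun x => Finset.univ.filter (fun y => StabRel ι α x y)
  have horb : ∀ x y, y ∈ orb x ↔ StabRel ι α x y := fun x y => by simp [orb]
  have horbInv : ∀ x, StabInv ι α (fun y => y ∈ orb x) := by
    intro x
    have := stabInv_rel ι α x
    intro h hh y y' hy
    have h1 := this h hh y y' hy
    show (y ∈ orb x) = (y' ∈ orb x)
    rw [horb, horb]; exact h1
  have hone : ∀ x, x ≠ 1 → (1 : Q) ∉ orb x := by
    intro x hx h
    rw [horb] at h
    have := (stabInv_one hreg).rel h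
    simp at this
    exact hx this
  -- step 1
  have hnotE : ∀ x, x ≠ 1 → ∃ y ∈ orb x, y ∉ E := by
    intro x hx
    by_contra hall
    push Not at hall
    exact hx (tool _ (horbInv x) E hne hall x ((horb x x).2 (StabRel.refl ι α x)))
  -- step 3
  have hcoset : ∀ x y, y ∈ orb x → y ∉ E → ∀ e ∈ E, y * e ∈ orb x := by
    intro x y hy hyE e he
    have h1 := stabInv_pow hreg hp (orb x) (horbInv x)
    have h2 : (((orb x).filter (fun w => w ^ p = y ^ p)).card : ZMod p) = 0 := by
      by_contra h0
      have h3 := h1.comp (fun c : ZMod p => c ≠ 0)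
      have h4 := tool _ h3 _ hrange (fun z hz => by
        have h5 : ((orb x).filter (fun w => w ^ p = z)).card ≠ 0 := by
          intro h6; exact hz (by simp [h6])
        obtain ⟨w, hw⟩ := Finset.card_pos.1 (Nat.pos_of_ne_zero h5)
        rw [Finset.mem_filter] at hw
        exact ⟨w, hw.2⟩) (y ^ p) h0
      exact hyE ((hEmem y).2 h4)
    rw [ZMod.natCast_eq_zero_iff] at h2
    have h3 : 0 < ((orb x).filter (fun w => w ^ p = y ^ p)).card :=
      Finset.card_pos.2 ⟨y, Finset.mem_filter.2 ⟨hy, rfl⟩⟩
    have h4 : p ≤ ((orb x).filter (fun w => w ^ p = y ^ p)).card := Nat.le_of_dvd h3 h2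
    -- the coset
    let C : Finset Q := Finset.univ.filter (fun w => w ^ p = y ^ p)
    have hC : C.card = p := by
      rw [← hE, Nat.card_eq_fintype_card, ← Finset.card_univ (α := E)]
      symm
      refine Finset.card_bij (fun (e : E) _ => y * (e : Q)) ?_ ?_ ?_
      · intro e _
        simp only [C, Finset.mem_filter, Finset.mem_univ, true_and]
        rw [mul_pow, (hEmem _).1 e.2, mul_one]
      · intro a _ b _ hab
        exact Subtype.ext (mul_left_cancel hab)
      · intro w hw
        simp only [C, Finset.mem_filter, Finset.mem_univ, true_and] at hw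
        refine ⟨⟨y⁻¹ * w, ?_⟩, Finset.mem_univ _, by simp⟩
        rw [hEmem, mul_pow, inv_pow, hw, inv_mul_cancel]
    have hsub : (orb x).filter (fun w => w ^ p = y ^ p) ⊆ C := by
      intro w hw
      rw [Finset.mem_filter] at hw
      simp only [C, Finset.mem_filter, Finset.mem_univ, true_and]
      exact hw.2
    have heq := Finset.eq_of_subset_of_card_le hsub (by rw [hC]; exact h4)
    have hmem : y * e ∈ C := by
      simp only [C, Finset.mem_filter, Finset.mem_univ, true_and]
      rw [mul_pow, (hEmem e).1 he, mul_one]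
    rw [← heq, Finset.mem_filter] at hmem
    exact hmem.1
  -- the correlation function
  let c : Q → Q → ℕ := fun x z => ((orb x).filter (fun w => z⁻¹ * w ∈ orb x)).card
  have hcInv : ∀ x, StabInv ι α (c x) := by
    intro x
    have hf := (horbInv x).comp (fun P : Prop => if P then (1 : ℕ) else 0)
    have h1 := StabInv.conv hreg hf hf.inv
    intro h hh z z' hz
    have h2 : ∀ z, c x z = ∑ y, (if y ∈ orb x then 1 else 0) * (if (y⁻¹ * z)⁻¹ ∈ orb x then 1 else 0) := by
      intro z
      show ((orb x).filter (fun w => z⁻¹ * w ∈ orb x)).card = _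
      rw [Finset.card_filter, ← Finset.sum_filter_add_sum_filter_not Finset.univ (fun y => y ∈ orb x)]
      have h3 : ∑ y ∈ Finset.univ.filter (fun y => ¬ y ∈ orb x),
          (if y ∈ orb x then 1 else 0) * (if (y⁻¹ * z)⁻¹ ∈ orb x then 1 else 0) = 0 := by
        refine Finset.sum_eq_zero fun y hy => ?_
        rw [Finset.mem_filter] at hy
        rw [if_neg hy.2, zero_mul]
      rw [h3, add_zero]
      have h4 : Finset.univ.filter (fun y => y ∈ orb x) = orb x := by ext; simp
      rw [h4]
      refine Finset.sum_congr rfl fun y hy => ?_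
      rw [if_pos hy, one_mul, mul_inv_rev, inv_inv]
    show c x z = c x z'
    rw [h2, h2]
    have h5 := h1 h hh z z' hz
    refine Eq.trans ?_ (h5.trans ?_)
    · exact Finset.sum_congr rfl fun y _ => by congr
    · exact Finset.sum_congr rfl fun y _ => by congr
  -- step 4
  have hmeet : ∀ x, x ≠ 1 → ∃ e ∈ E, e ≠ 1 ∧ e ∈ orb x := by
    intro x hx
    by_contra hall
    push Not at hall
    have hall' : ∀ y ∈ orb x, y ∉ E := by
      intro y hy hyE
      by_cases h1 : y = 1
      · exact hone x hx (h1 ▸ hy)
      · exact hall y hyE h1 hy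
    -- the stabilizer of the orbit
    let L : Subgroup Q :=
      { carrier := {z | ∀ w, w ∈ orb x ↔ z * w ∈ orb x}
        one_mem' := fun w => by rw [one_mul]
        mul_mem' := by
          intro a b ha hb w
          rw [mul_assoc, ← ha, ← hb]
        inv_mem' := by
          intro a ha w
          rw [ha (a⁻¹ * w), mul_inv_cancel_left] }
    have hLmem : ∀ z, z ∈ L ↔ ∀ w, w ∈ orb x ↔ z * w ∈ orb x := fun z => Iff.rfl
    have hLtop : L ≠ ⊤ := by
      intro htop
      have h1 : x⁻¹ ∈ L := by rw [htop]; trivial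
      have h2 := ((hLmem _).1 h1 x).1 ((horb x x).2 (StabRel.refl ι α x))
      rw [inv_mul_cancel] at h2
      exact hone x hx h2
    have hS := (hcInv x).comp (fun k : ℕ => k = (orb x).card)
    have hSL : ∀ z, c x z = (orb x).card → z ∈ L := by
      intro z hz
      have h1 : (orb x).filter (fun w => z⁻¹ * w ∈ orb x) = orb x :=
        Finset.eq_of_subset_of_card_le (Finset.filter_subset _ _) hz.ge
      have h2 : ∀ w ∈ orb x, z⁻¹ * w ∈ orb x := by
        intro w hw
        rw [← h1, Finset.mem_filter] at hw
        exact hw.2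
      have h3 : (orb x).image (fun w => z⁻¹ * w) = orb x := by
        apply Finset.eq_of_subset_of_card_le
        · intro w hw
          obtain ⟨v, hv, rfl⟩ := Finset.mem_image.1 hw
          exact h2 v hv
        · rw [Finset.card_image_of_injective _ (mul_right_injective _)]
      intro w
      constructor
      · intro hw
        rw [← h3] at hw
        obtain ⟨v, hv, rfl⟩ := Finset.mem_image.1 hw
        simpa using hv
      · intro hw
        have := h2 _ hw
        simpa using this
    -- an element of `E`
    obtain ⟨e, he1⟩ : ∃ e : E, e ≠ 1 := by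
      by_contra hno
      push Not at hno
      have : Nat.card E ≤ 1 := by
        rw [Finite.card_le_one_iff_subsingleton]
        exact ⟨fun a b => by rw [hno a, hno b]⟩
      rw [hE] at this
      exact absurd hp.one_lt (not_lt.2 this)
    have hec : c x (e : Q) = (orb x).card := by
      show ((orb x).filter (fun w => (e : Q)⁻¹ * w ∈ orb x)).card = _
      congr 1
      rw [Finset.filter_eq_self]
      intro w hw
      have := hcoset x w hw (hall' w hw) _ (E.inv_mem e.2)
      rwa [mul_comm] at this
    apply he1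
    apply Subtype.ext
    exact tool _ hS L hLtop hSL (e : Q) hec
  -- a small orbit
  obtain ⟨x, hx, hcard⟩ : ∃ x : Q, x ≠ 1 ∧ 2 * (orb x).card ≤ Fintype.card Q - 1 := by
    obtain ⟨x₁, hx₁⟩ : ∃ x : Q, x ≠ 1 := by
      by_contra hno
      push Not at hno
      apply hne
      rw [Subgroup.eq_top_iff']
      intro x; rw [hno x]; exact one_mem _
    obtain ⟨x₂, hx₂, hx₂'⟩ : ∃ y : Q, y ≠ 1 ∧ y ∉ orb x₁ := by
      by_contra hno
      push Not at hno
      apply hcon
      haveI := hprim.toIsPretransitive
      exact two_pretransitive_of_stabRel hreg x₁ (fun y hy => (horb _ _).1 (hno y hy))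
    have hdisj : Disjoint (orb x₁) (orb x₂) := by
      rw [Finset.disjoint_left]
      intro z h1 h2
      apply hx₂'
      rw [horb] at h1 h2 ⊢
      exact h1.trans h2.symm
    have hsub : (orb x₁ ∪ orb x₂) ⊆ Finset.univ.erase (1 : Q) := by
      intro z hz
      rw [Finset.mem_erase]
      refine ⟨?_, Finset.mem_univ _⟩
      rintro rfl
      rcases Finset.mem_union.1 hz with h | h
      · exact hone _ hx₁ h
      · exact hone _ hx₂ h
    have hle := Finset.card_le_card hsub
    rw [Finset.card_union_of_disjoint hdisj, Finset.card_erase_of_mem (Finset.mem_univ _),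
      Finset.card_univ] at hle
    rcases le_total (orb x₁).card (orb x₂).card with h | h
    · exact ⟨x₁, hx₁, by omega⟩
    · exact ⟨x₂, hx₂, by omega⟩
  -- counting
  set T := orb x with hT
  set B := T.filter (fun w => w ∉ E) with hB
  have hcB : ∀ z : Q, z ≠ 1 → B.card ≤ c x z := by
    intro z hz
    obtain ⟨e, heE, he1, hez⟩ := hmeet z hz
    have h1 : c x z = c x e := (hcInv x).rel ((horb _ _).1 hez)
    rw [h1]
    refine Finset.card_le_card fun w hw => ?_
    rw [hB, Finset.mem_filter] at hw
    rw [Finset.mem_filter]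
    refine ⟨hw.1, ?_⟩
    have := hcoset x w hw.1 hw.2 _ (E.inv_mem heE)
    rwa [mul_comm] at this
  have hsum : ∑ z, c x z = T.card * T.card := by
    show ∑ z, (T.filter (fun w => z⁻¹ * w ∈ T)).card = _
    simp only [Finset.card_filter]
    rw [Finset.sum_comm]
    have : ∀ w ∈ T, ∑ z : Q, (if z⁻¹ * w ∈ T then 1 else 0) = T.card := by
      intro w _
      rw [← Finset.card_filter]
      refine Finset.card_bij (fun z _ => z⁻¹ * w) ?_ ?_ ?_
      · intro z hz; exact (Finset.mem_filter.1 hz).2
      · intro a _ b _ hab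
        exact inv_injective (mul_right_cancel hab)
      · intro v hv
        refine ⟨w * v⁻¹, ?_, ?_⟩
        · rw [Finset.mem_filter]
          refine ⟨Finset.mem_univ _, ?_⟩
          simpa using hv
        · simp
    rw [Finset.sum_congr rfl this, Finset.sum_const, smul_eq_mul]
  have hc1 : c x 1 = T.card := by
    show (T.filter (fun w => (1 : Q)⁻¹ * w ∈ T)).card = _
    congr 1
    rw [Finset.filter_eq_self]
    intro w hw
    simpa using hw
  have hlow : T.card + (Fintype.card Q - 1) * B.card ≤ T.card * T.card := by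
    rw [← hsum, ← Finset.add_sum_erase _ _ (Finset.mem_univ (1 : Q)), hc1]
    gcongr
    have : ∑ z ∈ Finset.univ.erase (1 : Q), B.card ≤ ∑ z ∈ Finset.univ.erase (1 : Q), c x z := by
      refine Finset.sum_le_sum fun z hz => hcB z (Finset.ne_of_mem_erase hz)
    rwa [Finset.sum_const, Finset.card_erase_of_mem (Finset.mem_univ _), Finset.card_univ,
      smul_eq_mul] at this
  -- sizes
  have hBp : p ≤ B.card := by
    obtain ⟨y, hy, hyE⟩ := hnotE x hx
    rw [← hE, Nat.card_eq_fintype_card, ← Finset.card_univ (α := E)]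
    refine Finset.card_le_card_of_injOn (fun e : E => y * (e : Q)) ?_ ?_
    · intro e _
      rw [Finset.mem_coe, hB, Finset.mem_filter]
      refine ⟨hcoset x y hy hyE _ e.2, fun h => hyE ?_⟩
      have := E.mul_mem h (E.inv_mem e.2)
      simpa using this
    · intro a _ b _ hab
      exact Subtype.ext (mul_left_cancel hab)
  have hA : (T.filter (fun w => w ∈ E)).card + 1 ≤ p := by
    have h1 : (T.filter (fun w => w ∈ E)).card + 1 = (insert (1 : Q) (T.filter (fun w => w ∈ E))).card := by
      rw [Finset.card_insert_of_notMem]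
      intro h
      exact hone x hx (Finset.mem_filter.1 h).1
    have hEc : (Finset.univ : Finset E).card = p := by
      rw [Finset.card_univ, ← Nat.card_eq_fintype_card, hE]
    rw [h1]
    refine le_trans ?_ hEc.le
    have h2 : (insert (1 : Q) (T.filter (fun w => w ∈ E))) ⊆ Finset.univ.image (fun e : E => (e : Q)) := by
      intro w hw
      rw [Finset.mem_image]
      rcases Finset.mem_insert.1 hw with rfl | hw
      · exact ⟨1, Finset.mem_univ _, rfl⟩
      · exact ⟨⟨w, (Finset.mem_filter.1 hw).2⟩, Finset.mem_univ _, rfl⟩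
    exact (Finset.card_le_card h2).trans Finset.card_image_le
  have hsplit : (T.filter (fun w => w ∈ E)).card + B.card = T.card := by
    rw [hB]
    exact Finset.card_filter_add_card_filter_not (s := T) (fun w => w ∈ E)
  have hTpos : 0 < T.card := Finset.card_pos.2 ⟨x, (horb x x).2 (StabRel.refl ι α x)⟩
  have hcard' : 2 * T.card ≤ Fintype.card Q - 1 := hcard
  generalize Fintype.card Q - 1 = N at hlow hcard'
  generalize (T.filter (fun w => w ∈ E)).card = a at hA hsplit
  generalize B.card = b at *
  generalize T.card = t at *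
  have h1 : t + 2 * t * b ≤ t * t := by nlinarith
  have h2 : 1 + 2 * b ≤ t := by nlinarith
  omega

end comm

end Cfsg.Agent.H24
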