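import Mathlib

set_option autoImplicit false

/-! # H24/SubgroupCount: the number of subgroups of order `p ^ β` is `≡ 1 mod p` (Wielandt). -/

namespace Cfsg.Agent.H24

open Subgroup MulAction
open scoped Pointwise

/-- if all orbits have size divisible by `d`, so does the set. -/
theorem dvd_card_of_orbits {G X : Type*} [Group G] [MulAction G X] [Finite X] (d : ℕ)
    (h : ∀ x : X, d ∣ Nat.card (orbit G x)) : d ∣ Nat.card X := by
  classical
  have := Fintype.ofFinite X
  have hfin : Fintype (Quotient (orbitRel G X)) := Fintype.ofFinite _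
  rw [Nat.card_congr (selfEquivSigmaOrbits G X), Nat.card_sigma]
  apply Finset.dvd_sum
  intro ω _
  exact h _

variable {G : Type*} [Group G] [Finite G]

theorem card_stabilizer_dvd [DecidableEq G] (A : Finset G) :
    Nat.card (stabilizer G A) ∣ A.card := by
  classical
  let act : MulAction (stabilizer G A) A :=
    { smul := fun s a => ⟨(s : G) * a, by
        have h1 : (s : G) • A = A := s.2
        have h2 : (s : G) • (a : G) ∈ (s : G) • A := Finset.smul_mem_smul_finset a.2
        rw [h1] at h2
        exact h2⟩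
      one_smul := fun a => Subtype.ext (one_mul _)
      mul_smul := fun s t a => Subtype.ext (mul_assoc _ _ _) }
  have h1 : Nat.card (stabilizer G A) ∣ Nat.card A := by
    apply dvd_card_of_orbits (G := stabilizer G A)
    intro a
    have h2 : stabilizer (stabilizer G A) a = ⊥ := by
      rw [eq_bot_iff]
      intro s hs
      have h3 : s • a = a := hs
      have h4 : (s : G) * (a : G) = a := congrArg Subtype.val h3
      rw [mem_bot]
      exact Subtype.ext (mul_eq_right.1 h4)
    have h3 : Nat.card (orbit (stabilizer G A) a) = (stabilizer (stabilizer G A) a).index := by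
      rw [Subgroup.index, Nat.card_congr (orbitEquivQuotientStabilizer (stabilizer G A) a)]
    rw [h3, h2, Subgroup.index_bot]
  have h2 : Nat.card A = A.card := by rw [Nat.card_eq_fintype_card, Fintype.card_coe]
  rwa [h2] at h1

/-- the finset of elements of a coset -/
noncomputable def cosetFinset [Fintype G] (K : Subgroup G) (q : G ⧸ K) : Finset G := by
  classical
  exact Finset.univ.filter (fun x : G => (QuotientGroup.mk x : G ⧸ K) = q)

theorem mem_cosetFinset [Fintype G] (K : Subgroup G) (q : G ⧸ K) (x : G) :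
    x ∈ cosetFinset K q ↔ (QuotientGroup.mk x : G ⧸ K) = q := by
  classical
  unfold cosetFinset
  simp

theorem card_cosetFinset [Fintype G] (K : Subgroup G) (q : G ⧸ K) :
    (cosetFinset K q).card = Nat.card K := by
  classical
  obtain ⟨g, rfl⟩ := QuotientGroup.mk_surjective q
  have h1 : (cosetFinset K (QuotientGroup.mk g : G ⧸ K)).card =
      Nat.card {x // x ∈ cosetFinset K (QuotientGroup.mk g : G ⧸ K)} := by
    rw [Nat.card_eq_fintype_card, Fintype.card_coe]
  rw [h1]
  refine Nat.card_congr
    { toFun := fun x => ⟨g⁻¹ * x.1, by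
        have := (mem_cosetFinset K _ _).1 x.2
        exact QuotientGroup.eq.1 this.symm⟩
      invFun := fun k => ⟨g * k.1, by
        rw [mem_cosetFinset, eq_comm, QuotientGroup.eq, inv_mul_cancel_left]
        exact k.2⟩
      left_inv := fun x => Subtype.ext (by simp)
      right_inv := fun k => Subtype.ext (by simp) }

theorem stabilizer_cosetFinset [Fintype G] [DecidableEq G] (K : Subgroup G) (g : G) :
    stabilizer G (cosetFinset K (QuotientGroup.mk g : G ⧸ K)) = MulAut.conj g • K := by
  ext s
  rw [mem_stabilizer_iff, Subgroup.mem_pointwise_smul_iff_inv_smul_mem]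
  simp only [MulAut.smul_def, MulAut.inv_apply, MulAut.conj_symm_apply]
  constructor
  · intro h
    have h1 : g ∈ cosetFinset K (QuotientGroup.mk g : G ⧸ K) := (mem_cosetFinset K _ _).2 rfl
    have h2 : s • g ∈ s • cosetFinset K (QuotientGroup.mk g : G ⧸ K) :=
      Finset.smul_mem_smul_finset h1
    rw [h, mem_cosetFinset, eq_comm, QuotientGroup.eq, smul_eq_mul] at h2
    rwa [mul_assoc]
  · intro h
    apply Finset.eq_of_subset_of_card_le
    · intro y hy
      rw [Finset.mem_smul_finset] at hy
      obtain ⟨x, hx, rfl⟩ := hy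
      rw [mem_cosetFinset, eq_comm, QuotientGroup.eq] at hx ⊢
      have e : g⁻¹ * (s • x) = (g⁻¹ * s * g) * (g⁻¹ * x) := by rw [smul_eq_mul]; group
      rw [e]
      exact K.mul_mem h hx
    · rw [Finset.card_smul_finset]

theorem natCard_conj_smul (K : Subgroup G) (g : G) :
    Nat.card (MulAut.conj g • K : Subgroup G) = Nat.card K :=
  (Nat.card_congr (Subgroup.equivSMul (MulAut.conj g) K).toEquiv).symm

/-- the subsets with full stabilizer correspond to cosets of subgroups. -/
theorem card_full_stabilizer [Fintype G] [DecidableEq G] (n : ℕ) (hn : 0 < n) :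
    Nat.card {A : Finset G // A.card = n ∧ Nat.card (stabilizer G A) = n} =
      Nat.card (Σ K : {K : Subgroup G // Nat.card K = n}, G ⧸ K.1) := by
  classical
  symm
  refine Nat.card_congr (Equiv.ofBijective (fun s => ⟨cosetFinset s.1.1 s.2, ?_, ?_⟩) ⟨?_, ?_⟩)
  · rw [card_cosetFinset]; exact s.1.2
  · obtain ⟨K, q⟩ := s
    obtain ⟨g, rfl⟩ := QuotientGroup.mk_surjective q
    rw [stabilizer_cosetFinset, natCard_conj_smul]; exact K.2
  · rintro ⟨⟨K, hK⟩, q⟩ ⟨⟨L, hL⟩, r⟩ h
    have h1 : cosetFinset K q = cosetFinset L r := congrArg Subtype.val h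
    obtain ⟨g, rfl⟩ := QuotientGroup.mk_surjective q
    have hg : g ∈ cosetFinset L r := by
      rw [← h1]; exact (mem_cosetFinset K _ _).2 rfl
    rw [mem_cosetFinset] at hg
    subst hg
    have hKL : K = L := by
      ext k
      have h2 : g * k ∈ cosetFinset K (QuotientGroup.mk g : G ⧸ K) ↔
        g * k ∈ cosetFinset L (QuotientGroup.mk g : G ⧸ L) := by rw [h1]
      rw [mem_cosetFinset, mem_cosetFinset, eq_comm, QuotientGroup.eq, eq_comm (a := (QuotientGroup.mk (g * k) : G ⧸ L)),
        QuotientGroup.eq, inv_mul_cancel_left] at h2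
      exact h2
    subst hKL
    rfl
  · rintro ⟨A, hA1, hA2⟩
    obtain ⟨a, ha⟩ : A.Nonempty := by rw [← Finset.card_pos, hA1]; exact hn
    set S := stabilizer G A with hS
    set K : Subgroup G := MulAut.conj a⁻¹ • S with hK
    have hKc : Nat.card K = n := by rw [hK, natCard_conj_smul]; exact hA2
    refine ⟨⟨⟨K, hKc⟩, QuotientGroup.mk a⟩, ?_⟩
    apply Subtype.ext
    show cosetFinset K (QuotientGroup.mk a) = A
    apply Finset.eq_of_subset_of_card_le
    · intro x hx
      rw [mem_cosetFinset, eq_comm, QuotientGroup.eq, hK,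
        Subgroup.mem_pointwise_smul_iff_inv_smul_mem] at hx
      simp only [MulAut.smul_def, MulAut.inv_apply, MulAut.conj_symm_apply, inv_inv] at hx
      have e : a * (a⁻¹ * x) * a⁻¹ = x * a⁻¹ := by group
      rw [e, hS, mem_stabilizer_iff] at hx
      have h2 : (x * a⁻¹) • a ∈ (x * a⁻¹) • A := Finset.smul_mem_smul_finset ha
      rw [hx, smul_eq_mul, inv_mul_cancel_right] at h2
      exact h2
    · rw [card_cosetFinset, hKc, hA1]

/-- Lucas: `C(p ^ β * m - 1, p ^ β - 1) ≡ 1 mod p`. -/
theorem choose_pow_sub_one {p : ℕ} (hp : p.Prime) (β m : ℕ) (hm : 0 < m) :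
    Nat.choose (p ^ β * m - 1) (p ^ β - 1) ≡ 1 [MOD p] := by
  have hfp : Fact p.Prime := ⟨hp⟩
  induction β with
  | zero => simp; rfl
  | succ β ih =>
    have h0 := Choose.choose_modEq_choose_mod_mul_choose_div_nat (p := p)
      (n := p ^ (β + 1) * m - 1) (k := p ^ (β + 1) - 1)
    have hpos : 0 < p ^ β := pow_pos hp.pos β
    have hdecomp : ∀ a : ℕ, 0 < a → p * a - 1 = (p - 1) + p * (a - 1) := by
      intro a ha
      obtain ⟨b, rfl⟩ : ∃ b, a = b + 1 := ⟨a - 1, by omega⟩
      have := hp.pos
      rw [Nat.add_sub_cancel, Nat.mul_add]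
      omega
    have e1 : p ^ (β + 1) * m - 1 = (p - 1) + p * (p ^ β * m - 1) := by
      rw [← hdecomp _ (Nat.mul_pos hpos hm)]; congr 1; ring
    have e2 : p ^ (β + 1) - 1 = (p - 1) + p * (p ^ β - 1) := by
      rw [← hdecomp _ hpos]; congr 1; ring
    have hlt : p - 1 < p := Nat.sub_lt hp.pos one_pos
    rw [e1, e2, Nat.add_mul_mod_self_left, Nat.add_mul_mod_self_left, Nat.mod_eq_of_lt hlt,
      Nat.add_mul_div_left _ _ hp.pos, Nat.add_mul_div_left _ _ hp.pos, Nat.div_eq_of_lt hlt,
      zero_add, zero_add, Nat.choose_self, one_mul] at h0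
    rw [e1, e2]
    exact h0.trans ih

/-- **Wielandt/Frobenius**: number of subgroups of order `p ^ β` is `≡ 1 mod p`. -/
theorem card_subgroups_modEq_one (p β : ℕ) (hp : p.Prime)
    (hdiv : p ^ β ∣ Nat.card G) : Nat.card {H : Subgroup G // Nat.card H = p ^ β} ≡ 1 [MOD p] := by
  classical
  have hfG := Fintype.ofFinite G
  obtain ⟨m, hm⟩ := hdiv
  have hm0 : 0 < m := Nat.pos_of_ne_zero (by rintro rfl; rw [mul_zero] at hm; exact Nat.card_pos.ne' hm)
  set n := p ^ β with hn
  have hn0 : 0 < n := pow_pos hp.pos β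
  set N := Nat.card {H : Subgroup G // Nat.card H = n} with hN
  -- total count
  let X := {A : Finset G // A.card = n}
  have hXcard : Nat.card X = Nat.choose (Nat.card G) n := by
    rw [Nat.card_eq_fintype_card, Nat.card_eq_fintype_card, Fintype.card_finset_len]
  -- split
  have hsplit : Nat.card X = Nat.card {A : Finset G // A.card = n ∧ Nat.card (stabilizer G A) = n} +
      Nat.card {A : Finset G // A.card = n ∧ Nat.card (stabilizer G A) ≠ n} := by
    rw [Nat.card_eq_fintype_card, Nat.card_eq_fintype_card, Nat.card_eq_fintype_card,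
      Fintype.card_subtype, Fintype.card_subtype, Fintype.card_subtype,
      ← Finset.card_union_of_disjoint]
    · congr 1
      ext A
      simp only [Finset.mem_filter, Finset.mem_univ, true_and, Finset.mem_union]
      tauto
    · rw [Finset.disjoint_filter]
      rintro A _ ⟨_, h1⟩ ⟨_, h2⟩
      exact h2 h1
  have hfirst : Nat.card {A : Finset G // A.card = n ∧ Nat.card (stabilizer G A) = n} = N * m := by
    rw [card_full_stabilizer n hn0]
    have hfin : Fintype {K : Subgroup G // Nat.card K = n} := Fintype.ofFinite _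
    rw [Nat.card_sigma]
    have h1 : ∀ K : {K : Subgroup G // Nat.card K = n}, Nat.card (G ⧸ K.1) = m := by
      intro K
      have h2 := Subgroup.card_mul_index K.1
      rw [K.2, hm] at h2
      exact Nat.eq_of_mul_eq_mul_left hn0 h2
    rw [Finset.sum_congr rfl (fun K _ => h1 K), Finset.sum_const, Finset.card_univ, smul_eq_mul,
      hN, Nat.card_eq_fintype_card]
  have hsecond : p * m ∣ Nat.card {A : Finset G // A.card = n ∧ Nat.card (stabilizer G A) ≠ n} := by
    let S : SubMulAction G (Finset G) :=
      { carrier := {A | A.card = n ∧ Nat.card (stabilizer G A) ≠ n}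
        smul_mem' := by
          rintro g A ⟨h1, h2⟩
          refine ⟨by rw [Finset.card_smul_finset]; exact h1, ?_⟩
          rw [MulAction.stabilizer_smul_eq_stabilizer_map_conj]
          have h3 : Nat.card ((stabilizer G A).map (MulAut.conj g).toMonoidHom) =
              Nat.card (stabilizer G A) :=
            Subgroup.card_map_of_injective (MulAut.conj g).injective
          rw [h3]; exact h2 }
    have h1 : p * m ∣ Nat.card S := by
      apply dvd_card_of_orbits (G := G)
      rintro ⟨A, hA1, hA2⟩
      have h2 : stabilizer G (⟨A, hA1, hA2⟩ : S) = stabilizer G A := by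
        ext g
        rw [mem_stabilizer_iff, mem_stabilizer_iff]
        exact ⟨fun h => congrArg Subtype.val h, fun h => Subtype.ext h⟩
      have h3 : Nat.card (orbit G (⟨A, hA1, hA2⟩ : S)) = (stabilizer G A).index := by
        have h5 : Nat.card (orbit G (⟨A, hA1, hA2⟩ : S)) = (stabilizer G (⟨A, hA1, hA2⟩ : S)).index :=
          Nat.card_congr (orbitEquivQuotientStabilizer G (⟨A, hA1, hA2⟩ : S))
        rw [h5, h2]
      rw [h3]
      have h4 : Nat.card (stabilizer G A) ∣ p ^ β := by
        have := card_stabilizer_dvd A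
        rw [hA1] at this
        exact this
      obtain ⟨j, hj, hj'⟩ := (Nat.dvd_prime_pow hp).1 h4
      have hjlt : j < β := lt_of_le_of_ne hj (by
        rintro rfl
        exact hA2 hj')
      have h5 := Subgroup.card_mul_index (stabilizer G A)
      rw [hj', hm, hn] at h5
      obtain ⟨i, rfl⟩ : ∃ i, β = j + (i + 1) := ⟨β - j - 1, by omega⟩
      have h6 : p ^ (j + (i + 1)) * m = p ^ j * (p ^ i * (p * m)) := by
        rw [pow_add, pow_succ]; ring
      rw [h6] at h5
      have h7 := Nat.eq_of_mul_eq_mul_left (pow_pos hp.pos j) h5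
      rw [h7]; exact Dvd.intro_left _ rfl
    exact h1
  -- binomial coefficient
  have hbin : Nat.choose (Nat.card G) n = m * Nat.choose (n * m - 1) (n - 1) := by
    have h1 : n * Nat.choose (n * m) n = n * (m * Nat.choose (n * m - 1) (n - 1)) := by
      obtain ⟨a, ha⟩ : ∃ a, n * m = a + 1 := ⟨n * m - 1, by
        have := Nat.mul_pos hn0 hm0; omega⟩
      obtain ⟨b, hb⟩ : ∃ b, n = b + 1 := ⟨n - 1, by omega⟩
      have h2 := Nat.add_one_mul_choose_eq a b
      rw [ha, hb]
      simp only [Nat.add_sub_cancel]
      rw [hb] at ha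
      calc (b + 1) * (a + 1).choose (b + 1) = (a + 1).choose (b + 1) * (b + 1) := by ring
        _ = (a + 1) * a.choose b := h2.symm
        _ = _ := by rw [← ha]; ring
    rw [hm]
    exact Nat.eq_of_mul_eq_mul_left hn0 h1
  have hch := choose_pow_sub_one hp β m hm0
  rw [← hn] at hch
  have h1 : N * m ≡ m * Nat.choose (n * m - 1) (n - 1) [MOD (p * m)] := by
    rw [← hbin, ← hXcard, hsplit, hfirst]
    have h2 := (Nat.modEq_zero_iff_dvd.2 hsecond).symm
    have h3 := h2.add_left (N * m)
    rwa [add_zero] at h3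
  have h2 : N ≡ Nat.choose (n * m - 1) (n - 1) [MOD p] := by
    have h3 : m * N ≡ m * Nat.choose (n * m - 1) (n - 1) [MOD (m * p)] := by
      rw [mul_comm m N, mul_comm m p]; exact h1
    exact Nat.ModEq.mul_left_cancel' hm0.ne' h3
  exact h2.trans hch

end Cfsg.Agent.H24
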