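import Mathlib

set_option autoImplicit false

/-! # H24/SylowInf: intersection of a Sylow subgroup with a normal subgroup -/

namespace Cfsg.Agent.H24

open Subgroup

theorem card_sup_mul_card_inf {G : Type*} [Group G] [Finite G] (N H : Subgroup G) [N.Normal] :
    Nat.card ↥(N ⊔ H) * Nat.card ↥(N ⊓ H) = Nat.card N * Nat.card H := by
  have h1 : Nat.card N * N.relIndex (N ⊔ H) = Nat.card ↥(N ⊔ H) := by
    have := Subgroup.relIndex_mul_relIndex ⊥ N (N ⊔ H) bot_le le_sup_left
    rwa [Subgroup.relIndex_bot_left, Subgroup.relIndex_bot_left] at this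
  have h2 : Nat.card ↥(N ⊓ H) * N.relIndex H = Nat.card H := by
    have := Subgroup.relIndex_mul_relIndex ⊥ (N ⊓ H) H bot_le inf_le_right
    rwa [Subgroup.relIndex_bot_left, Subgroup.relIndex_bot_left, Subgroup.inf_relIndex_right] at this
  rw [Subgroup.relIndex_sup_left] at h1
  rw [← h1, ← h2]; ring

theorem relIndex_sup_of_normal_left {G : Type*} [Group G] [Finite G] (N H : Subgroup G)
    [N.Normal] : H.relIndex (N ⊔ H) = H.relIndex N := by
  have h0 := card_sup_mul_card_inf N H
  have h1 : Nat.card H * H.relIndex (N ⊔ H) = Nat.card ↥(N ⊔ H) := by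
    have := Subgroup.relIndex_mul_relIndex ⊥ H (N ⊔ H) bot_le le_sup_right
    rwa [Subgroup.relIndex_bot_left, Subgroup.relIndex_bot_left] at this
  have h2 : Nat.card ↥(N ⊓ H) * H.relIndex N = Nat.card N := by
    have := Subgroup.relIndex_mul_relIndex ⊥ (N ⊓ H) N bot_le inf_le_left
    rwa [Subgroup.relIndex_bot_left, Subgroup.relIndex_bot_left, Subgroup.inf_relIndex_left] at this
  rw [← h1, ← h2] at h0
  have h3 : (Nat.card H * Nat.card ↥(N ⊓ H)) * H.relIndex (N ⊔ H) =
      (Nat.card H * Nat.card ↥(N ⊓ H)) * H.relIndex N := by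
    calc _ = Nat.card H * H.relIndex (N ⊔ H) * Nat.card ↥(N ⊓ H) := by ring
      _ = _ := by rw [h0]; ring
  exact Nat.eq_of_mul_eq_mul_left (Nat.mul_pos Nat.card_pos Nat.card_pos) h3

/-- `|N ∩ Q| = |N|_p`. -/
theorem card_inf_sylow {G : Type*} [Group G] [Finite G] {p : ℕ} [Fact p.Prime] (N : Subgroup G)
    [N.Normal] (Q : Sylow p G) :
    Nat.card ↥(N ⊓ (Q : Subgroup G)) = p ^ (Nat.card N).factorization p := by
  have hp := Fact.out (p := p.Prime)
  have h2 : ¬ p ∣ (Q : Subgroup G).relIndex N := by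
    intro hd
    rw [← relIndex_sup_of_normal_left] at hd
    exact Q.not_dvd_index (hd.trans (Subgroup.relIndex_dvd_index_of_le le_sup_right))
  have h3 : Nat.card ↥(N ⊓ (Q : Subgroup G)) * (Q : Subgroup G).relIndex N = Nat.card N := by
    have := Subgroup.relIndex_mul_relIndex ⊥ (N ⊓ (Q : Subgroup G)) N bot_le inf_le_left
    rwa [Subgroup.relIndex_bot_left, Subgroup.relIndex_bot_left, Subgroup.inf_relIndex_left] at this
  have h4 : IsPGroup p ↥(N ⊓ (Q : Subgroup G)) := Q.isPGroup'.to_le inf_le_right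
  obtain ⟨m, hm⟩ := h4.exists_card_eq
  rw [hm]
  congr 1
  rw [← h3, hm, Nat.factorization_mul (pow_pos hp.pos m).ne'
    (fun h0 => by rw [h0, mul_zero] at h3; exact Nat.card_pos.ne h3)]
  simp only [Finsupp.coe_add, Pi.add_apply]
  rw [Nat.factorization_eq_zero_of_not_dvd h2, hp.factorization_pow, Finsupp.single_eq_same,
    add_zero]

end Cfsg.Agent.H24
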