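import Mathlib
import Cfsg.Agent.H24.Decomp

set_option autoImplicit false

/-! # H24/TI: elementwise form of the TI condition for Sylow subgroups -/

namespace Cfsg.Agent.H24

open Subgroup
open scoped Pointwise

theorem mem_conj_smul_iff' {G : Type*} [Group G] (H : Subgroup G) (g x : G) :
    x ∈ MulAut.conj g • H ↔ g⁻¹ * x * g ∈ H := by
  rw [Subgroup.mem_pointwise_smul_iff_inv_smul_mem]
  simp only [MulAut.smul_def, MulAut.inv_apply, MulAut.conj_symm_apply]

theorem mem_sylow_smul_iff {G : Type*} [Group G] {p : ℕ} (P : Sylow p G) (g x : G) :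
    x ∈ ((g • P : Sylow p G) : Subgroup G) ↔ g⁻¹ * x * g ∈ (P : Subgroup G) := by
  rw [Sylow.coe_subgroup_smul, mem_conj_smul_iff']

/-- TI condition: pointwise form iff elementwise form. -/
theorem ti_iff {G : Type*} [Group G] (P : Subgroup G) :
    (∀ g : G, g ∉ normalizer (P : Set G) → P ⊓ (MulAut.conj g • P) = ⊥) ↔
    ∀ g x : G, x ≠ 1 → x ∈ P → g⁻¹ * x * g ∈ P → g ∈ normalizer (P : Set G) := by
  constructor
  · intro h g x hx1 hx hgx
    by_contra hg
    have h1 : x ∈ P ⊓ (MulAut.conj g • P) := mem_inf.2 ⟨hx, (mem_conj_smul_iff' P g x).2 hgx⟩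
    rw [h g hg, mem_bot] at h1
    exact hx1 h1
  · intro h g hg
    rw [eq_bot_iff]
    intro x hx
    obtain ⟨h1, h2⟩ := mem_inf.1 hx
    rw [mem_conj_smul_iff'] at h2
    rw [mem_bot]
    by_contra hx1
    exact hg (h g x hx1 h1 h2)

theorem mem_normalizer_conj_iff {G : Type*} [Group G] (P : Subgroup G) (a g : G) :
    g ∈ normalizer ((MulAut.conj a • P : Subgroup G) : Set G) ↔
      a⁻¹ * g * a ∈ normalizer (P : Set G) := by
  constructor
  · intro h
    rw [mem_normalizer_iff] at h ⊢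
    intro z
    have h1 := h (a * z * a⁻¹)
    rw [mem_conj_smul_iff', mem_conj_smul_iff'] at h1
    have e1 : a⁻¹ * (a * z * a⁻¹) * a = z := by group
    have e2 : a⁻¹ * (g * (a * z * a⁻¹) * g⁻¹) * a = a⁻¹ * g * a * z * (a⁻¹ * g * a)⁻¹ := by group
    rw [e1, e2] at h1
    exact h1
  · intro h
    rw [mem_normalizer_iff] at h ⊢
    intro z
    have h1 := h (a⁻¹ * z * a)
    rw [mem_conj_smul_iff', mem_conj_smul_iff']
    have e2 : a⁻¹ * g * a * (a⁻¹ * z * a) * (a⁻¹ * g * a)⁻¹ = a⁻¹ * (g * z * g⁻¹) * a := by group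
    rw [e2] at h1
    exact h1

/-- TI is invariant under conjugation. -/
theorem ti_conj {G : Type*} [Group G] (P : Subgroup G) (a : G)
    (h : ∀ g x : G, x ≠ 1 → x ∈ P → g⁻¹ * x * g ∈ P → g ∈ normalizer (P : Set G)) :
    ∀ g x : G, x ≠ 1 → x ∈ MulAut.conj a • P → g⁻¹ * x * g ∈ MulAut.conj a • P →
      g ∈ normalizer ((MulAut.conj a • P : Subgroup G) : Set G) := by
  intro g x hx1 hx hgx
  rw [mem_conj_smul_iff'] at hx hgx
  rw [mem_normalizer_conj_iff]
  refine h (a⁻¹ * g * a) (a⁻¹ * x * a) ?_ hx ?_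
  · intro h1
    apply hx1
    calc x = a * (a⁻¹ * x * a) * a⁻¹ := by group
      _ = 1 := by rw [h1]; group
  · have e : (a⁻¹ * g * a)⁻¹ * (a⁻¹ * x * a) * (a⁻¹ * g * a) = a⁻¹ * (g⁻¹ * x * g) * a := by group
    rw [e]; exact hgx

end Cfsg.Agent.H24
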