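import Cfsg.Agent.H24.TIB

set_option autoImplicit false
set_option linter.unusedSectionVars false
set_option linter.style.haveILetI false
set_option linter.unusedVariables false
set_option linter.unusedSimpArgs false
set_option maxHeartbeats 1000000

/-! Isolated involution centralizers: two-point stabilizers (adapted from helper9). -/

open Cfsg Subgroup

namespace Cfsg.Agent.H24

universe u

open H9.BSW HTI MulAction

variable {G : Type u} [Group G] [Finite G] {u : G}

set_option quotPrecheck false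
local notation "𝐀" => (centralizer ({u} : Set G))
local notation "𝐍" => (normalizer ((centralizer ({u} : Set G) : Subgroup G) : Set G))
local notation "𝐟" => ((centralizer ({u} : Set G)).relIndex (normalizer ((centralizer ({u} : Set G) : Subgroup G) : Set G)))

namespace Ev

section

variable (h : Ev G u)
include h

/-- subgroups of the point stabilizer meeting `A` trivially are small -/
theorem card_le_of_disjoint {H : Subgroup G} (hH : H ≤ normalizer (centralizer ({u} : Set G) : Set G))
    (hHA : ∀ x ∈ H, x ∈ centralizer ({u} : Set G) → x = 1) :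
    Nat.card H ≤ (centralizer ({u} : Set G)).relIndex (normalizer (centralizer ({u} : Set G) : Set G)) := by
  classical
  set A := centralizer ({u} : Set G) with hAdef
  set N := normalizer (A : Set G) with hN
  change _ ≤ Nat.card (N ⧸ A.subgroupOf N)
  let f : H → N ⧸ A.subgroupOf N := fun x => QuotientGroup.mk ⟨x, hH x.2⟩
  apply Nat.card_le_card_of_injective f
  intro x y hxy
  have h1 := QuotientGroup.eq.mp hxy
  rw [mem_subgroupOf] at h1
  have h2 : (x : G)⁻¹ * y ∈ A := h1
  have h3 := hHA _ (mul_mem (inv_mem x.2) y.2) h2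
  exact Subtype.ext (inv_mul_eq_one.mp h3)

theorem card_two_pt_le {y : G ⧸ normalizer (centralizer ({u} : Set G) : Set G)} (hy : y ≠ pt (centralizer ({u} : Set G))) :
    Nat.card ↥(stabilizer G (pt (centralizer ({u} : Set G))) ⊓ stabilizer G y) ≤
      (centralizer ({u} : Set G)).relIndex (normalizer (centralizer ({u} : Set G) : Set G)) := by
  apply h.card_le_of_disjoint
  · intro x hx
    exact smul_pt_eq.mp (mem_inf.mp hx).1
  · intro x hx hxA
    exact h.hA.semireg hxA hy (mem_inf.mp hx).2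

/-- involutions moving the base point to `y` -/
theorem smul_swap {v : G} (hv2 : v * v = 1) {x y : G ⧸ normalizer (centralizer ({u} : Set G) : Set G)}
    (hxy : v • x = y) : v • y = x := by
  rw [← hxy, ← mul_smul, hv2, one_smul]

theorem fiber_le [Fintype G] [DecidableEq G] [DecidableEq (G ⧸ normalizer (centralizer ({u} : Set G) : Set G))]
    {y : G ⧸ normalizer (centralizer ({u} : Set G) : Set G)} :
    (Finset.univ.filter (fun v : G => v * v = 1 ∧ v • pt (centralizer ({u} : Set G)) = y)).card ≤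
      Nat.card ↥(stabilizer G (pt (centralizer ({u} : Set G))) ⊓ stabilizer G y) := by
  classical
  rcases (Finset.univ.filter (fun v : G => v * v = 1 ∧ v • pt (centralizer ({u} : Set G)) = y)).eq_empty_or_nonempty
    with he | ⟨v₀, hv₀⟩
  · rw [he, Finset.card_empty]; exact Nat.zero_le _
  · simp only [Finset.mem_filter, Finset.mem_univ, true_and] at hv₀
    rw [← Fintype.card_coe, ← Nat.card_eq_fintype_card]
    let φ : {v // v ∈ Finset.univ.filter (fun v : G => v * v = 1 ∧ v • pt (centralizer ({u} : Set G)) = y)} →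
        ↥(stabilizer G (pt (centralizer ({u} : Set G))) ⊓ stabilizer G y) := fun v =>
      ⟨v₀ * v, by
        have hv := (Finset.mem_filter.mp v.2).2
        refine mem_inf.mpr ⟨?_, ?_⟩
        · rw [mem_stabilizer_iff, mul_smul, hv.2]
          exact h.smul_swap hv₀.1 hv₀.2
        · rw [mem_stabilizer_iff, mul_smul, h.smul_swap hv.1 hv.2, hv₀.2]⟩
    apply Nat.card_le_card_of_injective φ
    intro v w hvw
    exact Subtype.ext (mul_left_cancel (congrArg Subtype.val hvw))

theorem count : ∀ y : G ⧸ 𝐍, y ≠ pt 𝐀 →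
    {v : G | v * v = 1 ∧ v • pt 𝐀 = y}.ncard = 𝐟 ∧
      Nat.card ↥(stabilizer G (pt 𝐀) ⊓ stabilizer G y) = 𝐟 := by
  classical
  letI : Fintype G := Fintype.ofFinite G
  letI : Fintype (G ⧸ 𝐍) := Fintype.ofFinite _
  have hfib : ∀ y : G ⧸ 𝐍, {v : G | v * v = 1 ∧ v • pt 𝐀 = y}.ncard =
      (Finset.univ.filter (fun v : G => v * v = 1 ∧ v • pt 𝐀 = y)).card := by
    intro y
    rw [← Set.ncard_coe_finset]
    congr 1
    ext v; simp
  have hle : ∀ y : G ⧸ 𝐍, y ≠ pt 𝐀 → (Finset.univ.filter (fun v : G => v * v = 1 ∧ v • pt 𝐀 = y)).card ≤ 𝐟 :=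
    fun y hy => h.fiber_le.trans (h.card_two_pt_le hy)
  -- total number
  have htot : ∑ y ∈ Finset.univ.filter (fun y : G ⧸ 𝐍 => y ≠ pt 𝐀),
      (Finset.univ.filter (fun v : G => v * v = 1 ∧ v • pt 𝐀 = y)).card = (𝐍.index - 1) * 𝐟 := by
    have h1 : (Finset.univ.filter (fun v : G => v * v = 1 ∧ v • pt 𝐀 ≠ pt 𝐀)).card =
        ∑ y ∈ Finset.univ.filter (fun y : G ⧸ 𝐍 => y ≠ pt 𝐀),
          (Finset.univ.filter (fun v : G => v * v = 1 ∧ v • pt 𝐀 = y)).card := by
      rw [Finset.card_eq_sum_card_fiberwise (f := fun v : G => v • pt 𝐀)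
        (t := Finset.univ.filter (fun y : G ⧸ 𝐍 => y ≠ pt 𝐀))]
      · apply Finset.sum_congr rfl
        intro y hy
        congr 1
        ext v
        simp only [Finset.mem_filter, Finset.mem_univ, true_and] at hy ⊢
        constructor
        · rintro ⟨⟨h1, h2⟩, h3⟩; exact ⟨h1, h3⟩
        · rintro ⟨h1, h2⟩; exact ⟨⟨h1, by rw [h2]; exact hy⟩, h2⟩
      · intro v hv
        simp only [Finset.coe_filter, Finset.mem_univ, true_and, Set.mem_setOf_eq] at hv ⊢
        exact hv.2
    rw [← h1]
    have h2 := h.card_all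
    have h3 := h.card_inv
    have h4 : {v : G | v ≠ 1 ∧ v * v = 1} = {v : G | v ∈ 𝐀 ∧ v ≠ 1 ∧ v * v = 1} ∪
        ((Finset.univ.filter (fun v : G => v * v = 1 ∧ v • pt 𝐀 ≠ pt 𝐀) : Finset G) : Set G) := by
      ext v
      simp only [Set.mem_setOf_eq, Set.mem_union, Finset.coe_filter, Finset.mem_univ, true_and]
      constructor
      · rintro ⟨hv1, hv2⟩
        by_cases hvN : v • pt 𝐀 = pt 𝐀
        · left
          exact ⟨h.inv_mem_A hv1 hv2 (smul_pt_eq.mp hvN), hv1, hv2⟩
        · right; exact ⟨hv2, hvN⟩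
      · rintro (⟨hvA, hv1, hv2⟩ | ⟨hv2, hv3⟩)
        · exact ⟨hv1, hv2⟩
        · refine ⟨?_, hv2⟩
          rintro rfl
          exact hv3 (one_smul _ _)
    rw [h4, Set.ncard_union_eq, h3, Set.ncard_coe_finset] at h2
    · have h5 : 𝐍.index ≠ 0 := index_ne_zero_of_finite
      obtain ⟨m, hm⟩ := Nat.exists_eq_succ_of_ne_zero h5
      rw [hm] at h2 ⊢
      rw [Nat.succ_eq_add_one, Nat.mul_add, mul_one] at h2
      rw [Nat.succ_eq_add_one, Nat.add_sub_cancel, mul_comm m]
      omega
    · rw [Set.disjoint_left]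
      rintro v ⟨hvA, -, -⟩ hv
      simp only [Finset.coe_filter, Finset.mem_univ, true_and, Set.mem_setOf_eq] at hv
      exact hv.2 (smul_pt_eq.mpr (le_normalizer hvA))
  have hcard : (Finset.univ.filter (fun y : G ⧸ 𝐍 => y ≠ pt 𝐀)).card = 𝐍.index - 1 := by
    rw [Finset.filter_ne' Finset.univ (pt 𝐀), Finset.card_erase_of_mem (Finset.mem_univ _), Finset.card_univ,
      ← Nat.card_eq_fintype_card]
    rfl
  have heq : ∀ y : G ⧸ 𝐍, y ≠ pt 𝐀 → (Finset.univ.filter (fun v : G => v * v = 1 ∧ v • pt 𝐀 = y)).card = 𝐟 := by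
    intro y hy
    have hle' := hle y hy
    refine le_antisymm hle' ?_
    by_contra hlt
    push Not at hlt
    have h1 : ∑ y ∈ Finset.univ.filter (fun y : G ⧸ 𝐍 => y ≠ pt 𝐀),
        (Finset.univ.filter (fun v : G => v * v = 1 ∧ v • pt 𝐀 = y)).card <
        ∑ y ∈ Finset.univ.filter (fun y : G ⧸ 𝐍 => y ≠ pt 𝐀), 𝐟 := by
      apply Finset.sum_lt_sum
      · intro z hz
        exact hle z (Finset.mem_filter.mp hz).2
      · exact ⟨y, Finset.mem_filter.mpr ⟨Finset.mem_univ _, hy⟩, hlt⟩
    rw [htot, Finset.sum_const, hcard, smul_eq_mul] at h1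
    exact lt_irrefl _ h1
  intro y hy
  refine ⟨by rw [hfib, heq y hy], ?_⟩
  apply le_antisymm (h.card_two_pt_le hy)
  exact (heq y hy).symm.le.trans h.fiber_le

theorem one_lt_f : 1 < (centralizer ({u} : Set G)).relIndex (normalizer (centralizer ({u} : Set G) : Set G)) := by
  have h1 : (centralizer ({u} : Set G)).relIndex (normalizer (centralizer ({u} : Set G) : Set G)) ≠ 0 :=
    index_ne_zero_of_finite
  have h2 : (centralizer ({u} : Set G)).relIndex (normalizer (centralizer ({u} : Set G) : Set G)) ≠ 1 := by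
    intro e
    apply h.nn
    exact le_antisymm (relIndex_eq_one.mp e) le_normalizer
  omega

/-- involutions moving the base point to `y` invert the two-point stabilizer -/
theorem inverts {v : G} (hv2 : v * v = 1) {y : G ⧸ normalizer (centralizer ({u} : Set G) : Set G)}
    (hy : y ≠ pt (centralizer ({u} : Set G))) (hvy : v • pt (centralizer ({u} : Set G)) = y) {d : G}
    (hd : d ∈ stabilizer G (pt (centralizer ({u} : Set G))) ⊓ stabilizer G y) : v * d * v⁻¹ = d⁻¹ := by
  classical
  obtain ⟨h1, h2⟩ := h.count y hy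
  have hvinv : v⁻¹ = v := inv_eq_of_mul_eq_one_left hv2
  let φ : {w : G | w * w = 1 ∧ w • pt 𝐀 = y} → ↥(stabilizer G (pt 𝐀) ⊓ stabilizer G y) := fun w =>
    ⟨v * w, by
      refine mem_inf.mpr ⟨?_, ?_⟩
      · rw [mem_stabilizer_iff, mul_smul, w.2.2]
        exact h.smul_swap hv2 hvy
      · rw [mem_stabilizer_iff, mul_smul, h.smul_swap w.2.1 w.2.2, hvy]⟩
  have hφ : Function.Bijective φ := by
    rw [Nat.bijective_iff_injective_and_card]
    refine ⟨fun a b hab => Subtype.ext (mul_left_cancel (congrArg Subtype.val hab)), ?_⟩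
    rw [Nat.card_coe_set_eq]
    exact h1.trans h2.symm
  obtain ⟨w, hw⟩ := hφ.2 ⟨d, hd⟩
  have hwd : v * (w : G) = d := congrArg Subtype.val hw
  have hw2 : (w : G) * w = 1 := w.2.1
  have hwv : (w : G) = v * d := by rw [← hwd, ← mul_assoc, hv2, one_mul]
  rw [hwv] at hw2
  -- `v d v d = 1`
  rw [hvinv]
  have h3 : v * d * v * d = 1 := by rw [← hw2]; group
  exact eq_inv_of_mul_eq_one_left h3

end

end Ev

end Cfsg.Agent.H24
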