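import Mathlib
import Cfsg.Agent.H23.Coprime5
import Cfsg.Agent.H24.Decomp
import Cfsg.Agent.H24.PBasic
import Cfsg.Agent.H24.Quat

set_option autoImplicit false

/-! # H24/TwoGroupMax: 2-groups with abelianization of order 4 and an automorphism of odd order -/

namespace Cfsg.Agent.H24

open Subgroup
open scoped commutatorElement

/-- an automorphism of prime order `q ≠ p` of a finite `p`-group acting trivially on the
abelianization is trivial. -/
theorem eq_one_of_trivial_on_abelianization {P : Type*} [Group P] [Finite P] {p q : ℕ}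
    [Fact p.Prime] [Fact q.Prime] (hpq : p ≠ q) (hP : IsPGroup p P) (β : MulAut P)
    (hβ : β ^ q = 1) (htriv : ∀ w : P, w⁻¹ * β w ∈ commutator P) : β = 1 := by
  classical
  have hp := Fact.out (p := p.Prime)
  have hq := Fact.out (p := q.Prime)
  let C : Subgroup P :=
    { carrier := {g | β g = g}
      one_mem' := map_one β
      mul_mem' := by
        intro a b ha hb
        show β (a * b) = a * b
        rw [map_mul, show β a = a from ha, show β b = b from hb]
      inv_mem' := by
        intro a ha
        show β a⁻¹ = a⁻¹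
        rw [map_inv, show β a = a from ha] }
  have hzq : IsPGroup q (zpowers β) := by
    have h1 : orderOf β ∣ q ^ 1 := by rw [pow_one]; exact orderOf_dvd_of_pow_eq_one hβ
    obtain ⟨k, -, hk⟩ := (Nat.dvd_prime_pow hq).1 h1
    apply IsPGroup.of_card (n := k)
    rw [Nat.card_zpowers, hk]
  have hDβ : ∀ d ∈ commutator P, β d ∈ commutator P := by
    intro d hd
    have := htriv d
    have h2 : β d = d * (d⁻¹ * β d) := by group
    rw [h2]; exact mul_mem hd this
  have hcos : ∀ u : P, ∃ v : P, u⁻¹ * v ∈ commutator P ∧ β v = v := by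
    intro u
    let X : Set P := {g | u⁻¹ * g ∈ commutator P}
    have hXβ : ∀ g ∈ X, β g ∈ X := by
      intro g hg
      have h1 : u⁻¹ * β g = (u⁻¹ * g) * (g⁻¹ * β g) := by group
      show u⁻¹ * β g ∈ commutator P
      rw [h1]; exact mul_mem hg (htriv g)
    have hXpow : ∀ (n : ℕ) (g : P), g ∈ X → (β ^ n) g ∈ X := by
      intro n
      induction n with
      | zero => intro g hg; exact hg
      | succ n ih =>
        intro g hg
        rw [pow_succ', MulAut.mul_apply]
        exact hXβ _ (ih g hg)
    let S : SubMulAction (zpowers β) P :=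
      { carrier := X
        smul_mem' := by
          rintro ⟨c, hc⟩ g hg
          have hfin : IsOfFinOrder β := isOfFinOrder_of_finite β
          rw [← hfin.mem_powers_iff_mem_zpowers] at hc
          obtain ⟨n, rfl⟩ := hc
          exact hXpow n g hg }
    have hcard : Nat.card S = Nat.card (commutator P) := by
      refine Nat.card_congr
        { toFun := fun g => ⟨u⁻¹ * g.1, g.2⟩
          invFun := fun d => ⟨u * d.1, by
            show u⁻¹ * (u * d.1) ∈ commutator P
            rw [inv_mul_cancel_left]; exact d.2⟩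
          left_inv := fun g => Subtype.ext (by simp)
          right_inv := fun d => Subtype.ext (by simp) }
    have hnd : ¬ q ∣ Nat.card S := by
      rw [hcard]
      intro hd
      obtain ⟨n, hn⟩ := (hP.to_subgroup (commutator P)).exists_card_eq
      rw [hn] at hd
      exact hpq ((Nat.prime_dvd_prime_iff_eq hq hp).1 (hq.dvd_of_dvd_pow hd)).symm
    obtain ⟨⟨v, hv⟩, hvfix⟩ := hzq.nonempty_fixed_point_of_prime_not_dvd_card S hnd
    refine ⟨v, hv, ?_⟩
    have := hvfix ⟨β, mem_zpowers β⟩
    exact congrArg Subtype.val this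
  have htop : C ⊔ commutator P = ⊤ := by
    rw [eq_top_iff]
    intro u _
    obtain ⟨v, hv1, hv2⟩ := hcos u
    have h1 : u = v * (u⁻¹ * v)⁻¹ := by group
    rw [h1]
    exact mul_mem (mem_sup_left hv2) (mem_sup_right (inv_mem hv1))
  have hCtop : C = ⊤ := by
    apply Cfsg.Agent.H23.eq_of_sup_commutator (P := (⊤ : Subgroup P)) _ le_top
    · rw [← commutator_def, htop]
    · have : Group.IsNilpotent P := hP.isNilpotent
      infer_instance
  ext g
  have : g ∈ C := by rw [hCtop]; trivial
  exact this

/-- nilpotent + generated modulo the commutator subgroup. -/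
theorem closure_eq_top_of_sup_commutator {P : Type*} [Group P] [Finite P]
    [Group.IsNilpotent P] (C : Subgroup P) (h : C ⊔ commutator P = ⊤) : C = ⊤ := by
  apply Cfsg.Agent.H23.eq_of_sup_commutator (P := (⊤ : Subgroup P)) _ le_top
  · rw [← commutator_def, h]
  · infer_instance

theorem commutator_le_zpowers_of_central {K : Type*} [Group K] (x y : K)
    (hgen : closure ({x, y} : Set K) = ⊤) (hc : ⁅x, y⁆ ∈ center K) :
    commutator K ≤ zpowers ⁅x, y⁆ := by
  set N := zpowers ⁅x, y⁆ with hN
  have hNn : N.Normal := by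
    constructor
    rintro _ ⟨k, rfl⟩ g
    have h1 := Subgroup.mem_center_iff.1 ((center K).zpow_mem hc k) g
    refine ⟨k, ?_⟩
    show ⁅x, y⁆ ^ k = g * ⁅x, y⁆ ^ k * g⁻¹
    rw [h1]; group
  have hcomm : ∀ a b : K ⧸ N, a * b = b * a := by
    have hgen' : closure ({(QuotientGroup.mk x : K ⧸ N), QuotientGroup.mk y} : Set (K ⧸ N)) = ⊤ := by
      have h1 := congrArg (Subgroup.map (QuotientGroup.mk' N)) hgen
      rw [MonoidHom.map_closure, Set.image_pair,
        Subgroup.map_top_of_surjective _ (QuotientGroup.mk'_surjective N)] at h1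
      exact h1
    have hxy : (QuotientGroup.mk x : K ⧸ N) * QuotientGroup.mk y =
        QuotientGroup.mk y * QuotientGroup.mk x := by
      rw [← QuotientGroup.mk_mul, ← QuotientGroup.mk_mul, eq_comm, QuotientGroup.eq]
      have h1 : (y * x)⁻¹ * (x * y) = x⁻¹ * y⁻¹ * ⁅x, y⁆ * (y * x) := by
        rw [commutatorElement_def]; group
      rw [h1]
      have h2 := Subgroup.mem_center_iff.1 hc (x⁻¹ * y⁻¹)
      rw [h2]
      have h3 : ⁅x, y⁆ * (x⁻¹ * y⁻¹) * (y * x) = ⁅x, y⁆ := by group
      rw [h3]; exact mem_zpowers _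
    have hcen : center (K ⧸ N) = ⊤ := by
      rw [eq_top_iff, ← hgen', closure_le]
      have hx : (QuotientGroup.mk x : K ⧸ N) ∈ center (K ⧸ N) := by
        rw [← centralizer_univ, ← coe_top, ← hgen', centralizer_closure, mem_centralizer_iff]
        rintro z (rfl | rfl)
        · rfl
        · exact hxy.symm
      have hy : (QuotientGroup.mk y : K ⧸ N) ∈ center (K ⧸ N) := by
        rw [← centralizer_univ, ← coe_top, ← hgen', centralizer_closure, mem_centralizer_iff]
        rintro z (rfl | rfl)
        · exact hxy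
        · rfl
      rintro z (rfl | rfl)
      · exact hx
      · exact hy
    intro a b
    have : b ∈ center (K ⧸ N) := by rw [hcen]; trivial
    exact Subgroup.mem_center_iff.1 this a
  rw [commutator_def, commutator_le]
  intro a _ b _
  rw [← QuotientGroup.eq_one_iff]
  have h1 : (QuotientGroup.mk ⁅a, b⁆ : K ⧸ N) = ⁅(QuotientGroup.mk a : K ⧸ N), QuotientGroup.mk b⁆ := rfl
  rw [h1, commutatorElement_eq_one_iff_mul_comm]
  exact hcomm _ _

end Cfsg.Agent.H24
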