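import Mathlib
import Cfsg.Agent.H1.Coprime2
import Cfsg.Agent.H24.TwoGroupMax

set_option autoImplicit false

/-! # H24/TwoGroupMax2: 2-groups with abelianization of order 4 and an automorphism of odd order
are quaternion of order 8. -/

namespace Cfsg.Agent.H24

open Subgroup
open scoped commutatorElement

/-- two elements in different non-trivial cosets of the commutator subgroup of index 4 generate. -/
theorem closure_pair_eq_top {P : Type*} [Group P] [Finite P] [Group.IsNilpotent P]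
    (h4 : (commutator P).index = 4) (hsq : ∀ w : P, w ^ 2 ∈ commutator P) (x y : P)
    (hx : x ∉ commutator P) (hy : y ∉ commutator P) (hxy : x⁻¹ * y ∉ commutator P) :
    closure ({x, y} : Set P) = ⊤ := by
  set D := commutator P with hD
  apply closure_eq_top_of_sup_commutator
  rw [← hD]
  set K1 := D ⊔ zpowers x with hK1
  set K := closure ({x, y} : Set P) ⊔ D with hK
  have hDK1 : D ≤ K1 := le_sup_left
  have hxK : x ∈ K := mem_sup_left (subset_closure (by simp))
  have hyK : y ∈ K := mem_sup_left (subset_closure (by simp))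
  have hK1K : K1 ≤ K := sup_le le_sup_right (by rw [zpowers_le]; exact hxK)
  have hyK1 : y ∉ K1 := by
    intro h
    obtain ⟨d, hd, z, hz, hdz⟩ := mem_sup_of_normal_left.1 h
    obtain ⟨k, rfl⟩ := hz
    have hdz' : d * x ^ k = y := hdz
    rcases Int.even_or_odd' k with ⟨m, rfl | rfl⟩
    · apply hy
      rw [← hdz', zpow_mul]
      exact mul_mem hd (zpow_mem (by exact_mod_cast hsq x) _)
    · apply hxy
      have h1 : x⁻¹ * y = (x⁻¹ * d * x) * x ^ (2 * m) := by
        rw [← hdz', zpow_add, zpow_one]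
        have : x ^ (2 * m) * x = x * x ^ (2 * m) := by
          rw [← zpow_add_one, ← zpow_one_add, add_comm]
        rw [this]; group
      rw [h1, zpow_mul]
      refine mul_mem ?_ (zpow_mem (by exact_mod_cast hsq x) _)
      have := (inferInstance : D.Normal).conj_mem d hd x⁻¹
      simpa using this
  have h1 : D.relIndex K1 * K1.index = 4 := by rw [← h4]; exact Subgroup.relIndex_mul_index hDK1
  have h2 : K1.relIndex K * K.index = K1.index := Subgroup.relIndex_mul_index hK1K
  have h3 : D.relIndex K1 ≠ 1 := by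
    intro h
    rw [Subgroup.relIndex_eq_one] at h
    exact hx (h (mem_sup_right (mem_zpowers x)))
  have h5 : K1.relIndex K ≠ 1 := by
    intro h
    rw [Subgroup.relIndex_eq_one] at h
    exact hyK1 (h hyK)
  rw [← h2] at h1
  have h6 : K.index = 1 := by
    have ha : D.relIndex K1 ≠ 0 := by intro h; rw [h] at h1; omega
    have hb : K1.relIndex K ≠ 0 := by intro h; rw [h] at h1; omega
    have hc : K.index ≠ 0 := Subgroup.index_ne_zero_of_finite
    have ha2 : 2 ≤ D.relIndex K1 := by omega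
    have hb2 : 2 ≤ K1.relIndex K := by omega
    by_contra hne
    have hc2 : 2 ≤ K.index := by omega
    have : 2 * (2 * 2) ≤ D.relIndex K1 * (K1.relIndex K * K.index) :=
      Nat.mul_le_mul ha2 (Nat.mul_le_mul hb2 hc2)
    omega
  exact Subgroup.index_eq_one.1 h6

/-- the class `≤ 3` case. -/
theorem commutator_commutator_eq_bot_aux {Q : Type*} [Group Q] [Finite Q] [Group.IsNilpotent Q]
    (h4 : (commutator Q).index = 4) (hsq : ∀ w : Q, w ^ 2 ∈ commutator Q)
    (α : Q ≃* Q) (hfix : ∀ w : Q, w⁻¹ * α w ∈ commutator Q → w ∈ commutator Q)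
    (hE : ⁅commutator Q, (⊤ : Subgroup Q)⁆ ≤ center Q) :
    ⁅commutator Q, (⊤ : Subgroup Q)⁆ = ⊥ := by
  set D := commutator Q with hD
  set E := ⁅D, (⊤ : Subgroup Q)⁆ with hEdef
  have hEn : E.Normal := inferInstance
  have hDchar : ∀ w : Q, α w ∈ D ↔ w ∈ D := by
    intro w
    have h1 : D.map α.toMonoidHom = D := by
      rw [hD, _root_.commutator_def, map_commutator, Subgroup.map_top_of_surjective _ α.surjective]
    constructor
    · intro h
      rw [← h1] at h
      obtain ⟨v, hv, he⟩ := h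
      have : v = w := α.injective he
      rwa [← this]
    · intro h
      rw [← h1]
      exact Subgroup.mem_map_of_mem _ h
  have hEchar : ∀ w : Q, α w ∈ E → w ∈ E := by
    intro w h
    have h1 : E.map α.toMonoidHom = E := by
      rw [hEdef, map_commutator, Subgroup.map_top_of_surjective _ α.surjective, hD, _root_.commutator_def,
        map_commutator, Subgroup.map_top_of_surjective _ α.surjective]
    rw [← h1] at h
    obtain ⟨v, hv, he⟩ := h
    have : v = w := α.injective he
    rwa [← this]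
  have hcommE : ∀ d ∈ D, ∀ g : Q, ⁅d, g⁆ ∈ E := fun d hd g => commutator_mem_commutator hd (mem_top g)
  have hgen : ∀ w : Q, w ∉ D → closure ({w, α w} : Set Q) = ⊤ := fun w hw =>
    closure_pair_eq_top h4 hsq w (α w) hw (fun h => hw ((hDchar w).1 h)) (fun h => hw (hfix w h))
  obtain ⟨x, hx⟩ : ∃ x : Q, x ∉ D := by
    by_contra hcon
    push Not at hcon
    have : D = ⊤ := eq_top_iff.2 fun g _ => hcon g
    rw [this, Subgroup.index_top] at h4
    omega
  set y := α x with hy
  set c := ⁅x, y⁆ with hc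
  have hcD : c ∈ D := by
    rw [hD, _root_.commutator_def]; exact commutator_mem_commutator (mem_top x) (mem_top y)
  -- structure of `D`
  have hDstr : ∀ d ∈ D, ∃ k : ℤ, ∃ e ∈ E, d = c ^ k * e := by
    have hgen' : closure ({(QuotientGroup.mk x : Q ⧸ E), QuotientGroup.mk y} : Set (Q ⧸ E)) = ⊤ := by
      have h1 := congrArg (Subgroup.map (QuotientGroup.mk' E)) (hgen x hx)
      rw [MonoidHom.map_closure, Set.image_pair,
        Subgroup.map_top_of_surjective _ (QuotientGroup.mk'_surjective E)] at h1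
      exact h1
    have hcen : ⁅(QuotientGroup.mk x : Q ⧸ E), QuotientGroup.mk y⁆ ∈ center (Q ⧸ E) := by
      rw [Subgroup.mem_center_iff]
      intro g
      obtain ⟨g, rfl⟩ := QuotientGroup.mk_surjective g
      have h1 : (QuotientGroup.mk ⁅c, g⁆ : Q ⧸ E) = 1 := (QuotientGroup.eq_one_iff _).2 (hcommE c hcD g)
      have h2 : ⁅(QuotientGroup.mk c : Q ⧸ E), (QuotientGroup.mk g : Q ⧸ E)⁆ = 1 := h1
      rw [commutatorElement_eq_one_iff_mul_comm] at h2
      exact h2.symm
    have h1 := commutator_le_zpowers_of_central _ _ hgen' hcen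
    intro d hd
    have h2 : (QuotientGroup.mk d : Q ⧸ E) ∈ commutator (Q ⧸ E) := by
      have h3 : D.map (QuotientGroup.mk' E) = commutator (Q ⧸ E) := by
        rw [hD, _root_.commutator_def, map_commutator,
          Subgroup.map_top_of_surjective _ (QuotientGroup.mk'_surjective E), _root_.commutator_def]
      rw [← h3]
      exact Subgroup.mem_map_of_mem _ hd
    obtain ⟨k, hk⟩ := h1 h2
    have hk' : (QuotientGroup.mk (c ^ k) : Q ⧸ E) = QuotientGroup.mk d := hk
    rw [QuotientGroup.eq] at hk'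
    exact ⟨k, _, hk', by group⟩
  have hEc : ∀ e ∈ E, ∀ g : Q, g * e = e * g := fun e he g => Subgroup.mem_center_iff.1 (hE he) g
  have hcD' : ∀ d ∈ D, c * d = d * c := by
    intro d hd
    obtain ⟨k, e, he, rfl⟩ := hDstr d hd
    have h1 : Commute c (c ^ k) := Commute.zpow_right (Commute.refl c) k
    have h2 : Commute c e := hEc e he c
    exact h1.mul_right h2
  -- the commutator with `c`
  have hconj : ∀ (k : ℤ) (w : Q), c ^ k * w * (c ^ k)⁻¹ = ⁅c, w⁆ ^ k * w := by
    intro k w
    have hz := hEc _ (hcommE c hcD w)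
    have h1 : c * w * c⁻¹ = ⁅c, w⁆ * w := by rw [commutatorElement_def]; group
    have hcz : Commute c ⁅c, w⁆ := hz c
    have hnat : ∀ n : ℕ, c ^ n * w * (c ^ n)⁻¹ = ⁅c, w⁆ ^ n * w := by
      intro n
      induction n with
      | zero => simp
      | succ n ih =>
        have h3 : c ^ (n + 1) * w * (c ^ (n + 1))⁻¹ = c * (c ^ n * w * (c ^ n)⁻¹) * c⁻¹ := by
          rw [pow_succ' c n]; group
        rw [h3, ih]
        have h4 : Commute c (⁅c, w⁆ ^ n) := hcz.pow_right n
        calc c * (⁅c, w⁆ ^ n * w) * c⁻¹ = ⁅c, w⁆ ^ n * (c * w * c⁻¹) := by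
              rw [← mul_assoc, h4.eq]; group
          _ = ⁅c, w⁆ ^ n * (⁅c, w⁆ * w) := by rw [h1]
          _ = ⁅c, w⁆ ^ (n + 1) * w := by rw [pow_succ, mul_assoc]
    rcases Int.eq_nat_or_neg k with ⟨n, rfl | rfl⟩
    · rw [zpow_natCast, zpow_natCast]; exact hnat n
    · rw [zpow_neg, zpow_neg, zpow_natCast, zpow_natCast, inv_inv]
      have h3 := hnat n
      have h4 : Commute (c ^ n) (⁅c, w⁆ ^ n) := hcz.pow_pow n n
      calc (c ^ n)⁻¹ * w * c ^ n = (c ^ n)⁻¹ * ((⁅c, w⁆ ^ n)⁻¹ * (⁅c, w⁆ ^ n * w)) * c ^ n := by group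
        _ = (c ^ n)⁻¹ * ((⁅c, w⁆ ^ n)⁻¹ * (c ^ n * w * (c ^ n)⁻¹)) * c ^ n := by rw [h3]
        _ = (c ^ n)⁻¹ * ((⁅c, w⁆ ^ n)⁻¹ * c ^ n) * w := by group
        _ = (c ^ n)⁻¹ * (c ^ n * (⁅c, w⁆ ^ n)⁻¹) * w := by rw [(h4.inv_right).eq]
        _ = (⁅c, w⁆ ^ n)⁻¹ * w := by group
  have hpow : ∀ (k : ℤ) (e w : Q), e ∈ E → ⁅c ^ k * e, w⁆ = ⁅c, w⁆ ^ k := by
    intro k e w he
    have h1 := hEc e he w
    rw [commutatorElement_def]
    have h2 : c ^ k * e * w * (c ^ k * e)⁻¹ * w⁻¹ = (c ^ k * w * (c ^ k)⁻¹) * w⁻¹ := by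
      calc c ^ k * e * w * (c ^ k * e)⁻¹ * w⁻¹ = c ^ k * (e * w) * e⁻¹ * (c ^ k)⁻¹ * w⁻¹ := by group
        _ = c ^ k * (w * e) * e⁻¹ * (c ^ k)⁻¹ * w⁻¹ := by rw [h1]
        _ = _ := by group
    rw [h2, hconj]; group
  have hsqc : ∀ w : Q, ⁅c, w⁆ ^ 2 = 1 := by
    intro w
    have hz := hEc _ (hcommE c hcD w)
    have h1 : c * w * c⁻¹ = ⁅c, w⁆ * w := by rw [commutatorElement_def]; group
    have h2 := hcD' _ (hsq w)
    have h3 : c * w ^ 2 * c⁻¹ = (⁅c, w⁆ * w) ^ 2 := by
      rw [← h1, pow_two, pow_two]; group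
    have h4 : Commute ⁅c, w⁆ w := (hz w).symm
    rw [h4.mul_pow] at h3
    have h5 : c * w ^ 2 * c⁻¹ = w ^ 2 := by rw [h2]; group
    rw [h5] at h3
    exact (mul_eq_right.1 h3.symm)
  have hc2 : c ^ 2 ∈ E := by
    have h1 : ⁅x ^ 2, y⁆ ∈ E := hcommE _ (hsq x) y
    have h2 : ⁅c, x⁆ ∈ E := hcommE c hcD x
    have h3 : c ^ 2 = ⁅c, x⁆ * ⁅x ^ 2, y⁆ := by
      have h4 : ⁅x ^ 2, y⁆ = x * c * x⁻¹ * c := by
        rw [hc, commutatorElement_def, commutatorElement_def, pow_two]; group
      rw [h4, commutatorElement_def c x, pow_two]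
      have : c * x * c⁻¹ * x⁻¹ * (x * c * x⁻¹ * c) = c * c := by group
      rw [this]
    rw [h3]; exact mul_mem h2 h1
  -- if `D` is central done
  have hdone : (∀ g : Q, g * c = c * g) → E = ⊥ := by
    intro h
    rw [hEdef, eq_bot_iff, commutator_le]
    intro d hd g _
    rw [mem_bot, commutatorElement_eq_one_iff_mul_comm]
    obtain ⟨k, e, he, rfl⟩ := hDstr d hd
    have h1 : Commute g (c ^ k) := Commute.zpow_right (h g) k
    have h2 : Commute g e := hEc e he g
    exact (h1.mul_right h2).symm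
  by_contra hEne
  -- Claim A
  have hA : ∀ w : Q, w ∉ D → ⁅c, w⁆ ≠ 1 := by
    intro w hw hcw
    apply hEne
    apply hdone
    have hαc : α c ∈ D := (hDchar c).2 hcD
    obtain ⟨k, e, he, hk⟩ := hDstr _ hαc
    have h1 : ⁅c, α w⁆ ^ k = 1 := by
      rw [← hpow k e (α w) he, ← hk, ← map_commutatorElement, hcw, map_one]
    rcases Int.even_or_odd' k with ⟨m, rfl | rfl⟩
    · -- then `c ∈ E`
      have h2 : α c ∈ E := by
        rw [hk, zpow_mul]
        exact mul_mem (zpow_mem (by exact_mod_cast hc2) _) he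
      have h3 := hEchar c h2
      exact fun g => hEc c h3 g
    · have h2 : ⁅c, α w⁆ = 1 := by
        have h3 := hsqc (α w)
        rw [zpow_add, zpow_one, zpow_mul] at h1
        have h4 : ⁅c, α w⁆ ^ (2 : ℤ) = 1 := by exact_mod_cast h3
        rw [h4, one_zpow, one_mul] at h1
        exact h1
      have h3 : c ∈ centralizer ({w, α w} : Set Q) := by
        rw [mem_centralizer_iff]
        rintro z (rfl | rfl)
        · exact (commutatorElement_eq_one_iff_mul_comm.1 hcw).symm
        · exact (commutatorElement_eq_one_iff_mul_comm.1 h2).symm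
      rw [← centralizer_closure, hgen w hw] at h3
      intro g
      exact mem_centralizer_iff.1 h3 g trivial
  -- Claim B
  have hB : ∀ w : Q, w ^ 2 ∈ E := by
    intro w
    by_cases hw : w ∈ D
    · obtain ⟨k, e, he, rfl⟩ := hDstr w hw
      have h1 : Commute (c ^ k) e := hEc e he (c ^ k)
      rw [h1.mul_pow]
      refine mul_mem ?_ (pow_mem he 2)
      have : (c ^ k) ^ 2 = (c ^ 2) ^ k := by
        rw [← zpow_natCast, ← zpow_natCast, ← zpow_mul, ← zpow_mul, mul_comm]
      rw [this]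
      exact zpow_mem hc2 _
    · obtain ⟨k, e, he, hk⟩ := hDstr _ (hsq w)
      have h1 : ⁅w ^ 2, w⁆ = 1 := by
        rw [commutatorElement_eq_one_iff_mul_comm]
        exact (Commute.refl w).pow_left 2
      rw [hk, hpow k e w he] at h1
      rcases Int.even_or_odd' k with ⟨m, rfl | rfl⟩
      · rw [hk, zpow_mul]
        exact mul_mem (zpow_mem (by exact_mod_cast hc2) _) he
      · exfalso
        apply hA w hw
        have h3 := hsqc w
        rw [zpow_add, zpow_one, zpow_mul] at h1
        have h4 : ⁅c, w⁆ ^ (2 : ℤ) = 1 := by exact_mod_cast h3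
        rw [h4, one_zpow, one_mul] at h1
        exact h1
  -- quotient of exponent 2 is commutative
  have hDE : D ≤ E := by
    rw [hD, _root_.commutator_def, commutator_le]
    intro a _ b _
    rw [← QuotientGroup.eq_one_iff]
    have h1 : ∀ g : Q ⧸ E, g * g = 1 := by
      intro g
      obtain ⟨g, rfl⟩ := QuotientGroup.mk_surjective g
      rw [← QuotientGroup.mk_mul, QuotientGroup.eq_one_iff, ← pow_two]
      exact hB g
    have h2 : (QuotientGroup.mk ⁅a, b⁆ : Q ⧸ E) =
      ⁅(QuotientGroup.mk a : Q ⧸ E), QuotientGroup.mk b⁆ := rfl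
    rw [h2, commutatorElement_eq_one_iff_mul_comm]
    set u := (QuotientGroup.mk a : Q ⧸ E)
    set v := (QuotientGroup.mk b : Q ⧸ E)
    have h3 := h1 (u * v)
    have hu : u⁻¹ = u := inv_eq_of_mul_eq_one_left (h1 u)
    have hv : v⁻¹ = v := inv_eq_of_mul_eq_one_left (h1 v)
    have h5 : (u * v)⁻¹ = u * v := inv_eq_of_mul_eq_one_left h3
    rw [mul_inv_rev, hu, hv] at h5
    exact h5.symm
  exact hEne (hdone (fun g => hEc c (hDE hcD) g))

end Cfsg.Agent.H24
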